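import Groth.Agent.Divis.EffCartier
import Groth.Prelude.Def_CurvBase
import Mathlib.RingTheory.Flat.FaithfullyFlat.Basic
import Mathlib.RingTheory.RingHom.FaithfullyFlat

/-!
# Descent of locally principal and effective Cartier ideals along flat open surjections

For `f : X ⟶ Y` flat, open and surjective: `I` is effective Cartier (locally principal) as soon as `I.comap f` is.
-/

set_option autoImplicit false
universe u

open CategoryTheory AlgebraicGeometry Limits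

namespace K647.CartDesc

open Groth.Agent.Divis.IdealComap Groth.Agent.Divis.EffCartier

variable {X Y Z : Scheme.{u}}

/-- Ring level: if `I B = (b)` then near a prime `q` of `B` the ideal is generated by one element of `I`. -/
lemma exists_gen {A B : Type*} [CommRing A] [CommRing B] (φ : A →+* B) (I : Ideal A) (b : B)
    (h : I.map φ = Ideal.span {b}) (q : Ideal B) [hq : q.IsPrime] :
    ∃ a ∈ I, ∃ t : B, t ∉ q ∧ (∃ c d : B, φ a * c = t * b ∧ φ a = b * d) := by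
  have hb : b ∈ I.map φ := by rw [h]; exact Ideal.mem_span_singleton_self b
  rw [Ideal.map] at hb
  -- write b as a combination
  have h1 : ∀ a ∈ I, ∃ d, φ a = b * d := fun a ha => by
    have := Ideal.mem_map_of_mem φ ha
    rw [h, Ideal.mem_span_singleton] at this
    exact this
  by_cases hall : ∀ a ∈ I, ∀ d, φ a = b * d → d ∈ q
  · -- then b = (element of q) * b
    have h2 : ∀ x ∈ Ideal.span (φ '' (I : Set A)), ∃ e ∈ q, x = b * e := by
      intro x hx
      refine Submodule.span_induction ?_ ?_ ?_ ?_ hx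
      · rintro _ ⟨a, ha, rfl⟩
        obtain ⟨d, hd⟩ := h1 a ha
        exact ⟨d, hall a ha d hd, hd⟩
      · exact ⟨0, q.zero_mem, by simp⟩
      · rintro x y - - ⟨e, he, rfl⟩ ⟨e', he', rfl⟩
        exact ⟨e + e', q.add_mem he he', by ring⟩
      · rintro r x - ⟨e, he, rfl⟩
        exact ⟨r * e, q.mul_mem_left r he, by simp only [smul_eq_mul]; ring⟩
    obtain ⟨e, he, hbe⟩ := h2 b hb
    refine ⟨0, I.zero_mem, 1 - e, ?_, 0, 0, ?_, by simp⟩
    · intro h3
      exact hq.ne_top ((Ideal.eq_top_iff_one _).2 (by simpa using q.add_mem h3 he))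
    · rw [map_zero, zero_mul, sub_mul, one_mul, mul_comm e b, ← hbe, sub_self]
  · push Not at hall
    obtain ⟨a, ha, d, hd, hdq⟩ := hall
    exact ⟨a, ha, d, hdq, 1, d, by rw [mul_one, hd, mul_comm], hd⟩

/-- An affine open of the target and a basic open of the source mapping onto it, over which the ideal is
generated by one function on the target. -/
theorem exists_affine_gen (f : X ⟶ Y) [Flat f] (hopen : IsOpenMap f) (I : Y.IdealSheafData) (x : X)
    (V : X.affineOpens) (hxV : x ∈ V.1) (b : Γ(X, V.1)) (hb : (I.comap f).ideal V = Ideal.span {b}) :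
    ∃ (U : Y.affineOpens), f x ∈ U.1 ∧ ∃ a : Γ(Y, U.1), I.ideal U = Ideal.span {a} ∧
      (b ∈ nonZeroDivisors Γ(X, V.1) → a ∈ nonZeroDivisors Γ(Y, U.1)) := by
  -- first shrink
  obtain ⟨U, V₁, hfxU, hxV₁, hV₁V, -, e⟩ := exists_affine_le f x V.1 hxV ⊤ trivial
  let b₁ : Γ(X, V₁.1) := (X.presheaf.map (homOfLE hV₁V).op).hom b
  have hb₁ : (I.comap f).ideal V₁ = Ideal.span {b₁} := by
    rw [← (I.comap f).map_ideal (U := V₁) (V := V) hV₁V, hb, Ideal.map_span, Set.image_singleton]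
    rfl
  have hb₁nzd : b ∈ nonZeroDivisors Γ(X, V.1) → b₁ ∈ nonZeroDivisors Γ(X, V₁.1) :=
    fun h => res_mem_nonZeroDivisors V.2 V₁.2 hV₁V h
  rw [ideal_comap I f U V₁ e] at hb₁
  obtain ⟨a, haI, t, ht, c, d, hc, hd⟩ := exists_gen (f.appLE U V₁ e).hom (I.ideal U) b₁ hb₁
    ((V₁.2.primeIdealOf ⟨x, hxV₁⟩).asIdeal)
  -- the basic open of t
  have hxt : x ∈ X.basicOpen t := by
    by_contra hcon
    apply ht
    have := V₁.2.primeIdealOf_eq_map_closedPoint ⟨x, hxV₁⟩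
    have h4 := congrArg PrimeSpectrum.asIdeal this
    rw [h4]
    change (X.presheaf.germ V₁.1 x hxV₁).hom t ∈ IsLocalRing.maximalIdeal (X.presheaf.stalk x)
    rw [IsLocalRing.mem_maximalIdeal, mem_nonunits_iff]
    intro hu
    exact hcon ((X.mem_basicOpen t x hxV₁).2 hu)
  let V₂ : X.affineOpens := X.affineBasicOpen t
  have hV₂V₁ : V₂.1 ≤ V₁.1 := X.basicOpen_le t
  -- the image of V₂
  have himg : IsOpen (f '' (V₂.1 : Set X)) := hopen _ V₂.1.2
  obtain ⟨s, hsle, hys⟩ := U.2.exists_basicOpen_le (V := ⟨f '' (V₂.1 : Set X), himg⟩) ⟨f x, ⟨x, hxt, rfl⟩⟩ hfxU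
  let U₃ : Y.affineOpens := Y.affineBasicOpen s
  have hU₃U : U₃.1 ≤ U.1 := Y.basicOpen_le s
  have hV₃aff : IsAffineOpen (V₂.1 ⊓ f ⁻¹ᵁ U₃.1) := by
    have : V₂.1 ⊓ f ⁻¹ᵁ U₃.1 = X.basicOpen ((f.appLE U.1 V₂.1 (hV₂V₁.trans e)).hom s) := by
      rw [Scheme.Hom.appLE, CommRingCat.comp_apply, Scheme.basicOpen_res]
      rw [show X.basicOpen ((f.app U.1).hom s) = f ⁻¹ᵁ (Y.basicOpen s) from (Scheme.preimage_basicOpen f s).symm]
      rfl
    rw [this]
    exact V₂.2.basicOpen _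
  let V₃ : X.affineOpens := ⟨V₂.1 ⊓ f ⁻¹ᵁ U₃.1, hV₃aff⟩
  have e₃ : V₃.1 ≤ f ⁻¹ᵁ U₃.1 := inf_le_right
  have hV₃V₁ : V₃.1 ≤ V₁.1 := inf_le_left.trans hV₂V₁
  -- surjectivity of V₃ → U₃
  have hsurj : ∀ y ∈ U₃.1, ∃ z ∈ V₃.1, f z = y := by
    intro y hy
    obtain ⟨z, hz, rfl⟩ := hsle hy
    exact ⟨z, ⟨hz, hy⟩, rfl⟩
  have hff : (f.appLE U₃.1 V₃.1 e₃).hom.FaithfullyFlat := by
    rw [RingHom.FaithfullyFlat.iff_flat_and_comap_surjective]
    refine ⟨Scheme.Hom.flat_appLE f U₃.2 V₃.2 e₃, ?_⟩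
    intro p
    obtain ⟨z, hz, hzp⟩ := hsurj (U₃.2.fromSpec p) (by
      have : U₃.2.fromSpec p ∈ Set.range U₃.2.fromSpec := ⟨p, rfl⟩
      rw [U₃.2.range_fromSpec] at this
      exact this)
    obtain ⟨q, hq⟩ : z ∈ Set.range V₃.2.fromSpec := by
      rw [V₃.2.range_fromSpec]; exact hz
    refine ⟨q, ?_⟩
    have h1 := IsAffineOpen.SpecMap_appLE_fromSpec f U₃.2 V₃.2 e₃
    have h2 : U₃.2.fromSpec ((Spec.map (f.appLE U₃.1 V₃.1 e₃)) q) = U₃.2.fromSpec p := by
      rw [← Scheme.Hom.comp_apply, h1, Scheme.Hom.comp_apply, hq, hzp]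
    have := U₃.2.isOpenImmersion_fromSpec
    exact U₃.2.fromSpec.isOpenEmbedding.injective h2
  let a₃ : Γ(Y, U₃.1) := (Y.presheaf.map (homOfLE hU₃U).op).hom a
  let r : Γ(X, V₁.1) →+* Γ(X, V₃.1) := (X.presheaf.map (homOfLE hV₃V₁).op).hom
  have hcomm : (f.appLE U₃.1 V₃.1 e₃).hom a₃ = r ((f.appLE U.1 V₁.1 e).hom a) := by
    change ((f.appLE U₃.1 V₃.1 e₃).hom.comp (Y.presheaf.map (homOfLE hU₃U).op).hom) a =
      (r.comp (f.appLE U.1 V₁.1 e).hom) a
    rw [← CommRingCat.hom_comp, Scheme.Hom.map_appLE, ← CommRingCat.hom_comp, Scheme.Hom.appLE_map]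
  have htu : IsUnit (r t) := by
    have h1 : IsUnit ((X.presheaf.map (homOfLE hV₂V₁).op).hom t) := RingedSpace.isUnit_res_basicOpen _ t
    have h2 : r t = (X.presheaf.map (homOfLE (inf_le_left : V₃.1 ≤ V₂.1)).op).hom
        ((X.presheaf.map (homOfLE hV₂V₁).op).hom t) := by
      change _ = ((X.presheaf.map (homOfLE (inf_le_left : V₃.1 ≤ V₂.1)).op).hom.comp
        (X.presheaf.map (homOfLE hV₂V₁).op).hom) t
      rw [← CommRingCat.hom_comp, ← X.presheaf.map_comp]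
      rfl
    rw [h2]
    exact h1.map _
  have hspan : Ideal.span {(f.appLE U₃.1 V₃.1 e₃).hom a₃} = Ideal.span {r b₁} := by
    rw [hcomm]
    apply le_antisymm
    · rw [Ideal.span_singleton_le_iff_mem, Ideal.mem_span_singleton]
      exact ⟨r d, by rw [← map_mul, hd]⟩
    · rw [Ideal.span_singleton_le_iff_mem, Ideal.mem_span_singleton]
      obtain ⟨w, hw⟩ := htu
      refine ⟨r c * ↑w⁻¹, ?_⟩
      rw [← mul_assoc, ← map_mul, hc, map_mul, ← hw]
      rw [mul_comm (↑w : Γ(X, V₃.1)), mul_assoc, Units.mul_inv, mul_one]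
  have hIa : (I.ideal U₃).map (f.appLE U₃.1 V₃.1 e₃).hom =
      (Ideal.span {a₃}).map (f.appLE U₃.1 V₃.1 e₃).hom := by
    rw [← ideal_comap I f U₃ V₃ e₃, Ideal.map_span, Set.image_singleton, hspan,
      ← (I.comap f).map_ideal (U := V₃) (V := V₁) hV₃V₁, ideal_comap I f U V₁ e, hb₁, Ideal.map_span,
      Set.image_singleton]
    rfl
  algebraize [(f.appLE U₃.1 V₃.1 e₃).hom]
  refine ⟨U₃, hys, a₃, ?_, ?_⟩
  · have h1 := Ideal.comap_map_eq_self_of_faithfullyFlat (B := Γ(X, V₃.1)) (I.ideal U₃)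
    have h2 := Ideal.comap_map_eq_self_of_faithfullyFlat (B := Γ(X, V₃.1)) (Ideal.span {a₃})
    rw [← h1, ← h2]
    exact congrArg _ hIa
  · intro hbn
    have h1 : r b₁ ∈ nonZeroDivisors Γ(X, V₃.1) := res_mem_nonZeroDivisors V₁.2 V₃.2 hV₃V₁ (hb₁nzd hbn)
    have h2 : (f.appLE U₃.1 V₃.1 e₃).hom a₃ ∈ nonZeroDivisors Γ(X, V₃.1) := by
      rw [mem_nonZeroDivisors_iff_right]
      intro z hz
      rw [mem_nonZeroDivisors_iff_right] at h1
      have h3 : r b₁ ∈ Ideal.span {(f.appLE U₃.1 V₃.1 e₃).hom a₃} := by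
        rw [hspan]; exact Ideal.mem_span_singleton_self _
      obtain ⟨w, hw⟩ := Ideal.mem_span_singleton.1 h3
      apply h1
      rw [hw, ← mul_assoc, hz, zero_mul]
    rw [mem_nonZeroDivisors_iff_right] at h2 ⊢
    intro z hz
    have hinj : Function.Injective (algebraMap Γ(Y, U₃.1) Γ(X, V₃.1)) := FaithfulSMul.algebraMap_injective _ _
    apply hinj
    rw [map_zero]
    apply h2
    change algebraMap Γ(Y, U₃.1) Γ(X, V₃.1) z * algebraMap Γ(Y, U₃.1) Γ(X, V₃.1) a₃ = 0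
    rw [← map_mul, hz, map_zero]

/-- Descent of effective Cartier ideals along flat open surjections. -/
theorem isEff_of_comap (f : X ⟶ Y) [Flat f] [Surjective f] (hopen : IsOpenMap f) {I : Y.IdealSheafData}
    (h : BlowUp.IsEffCartierIdeal (I.comap f)) : BlowUp.IsEffCartierIdeal I := by
  intro y
  obtain ⟨x, rfl⟩ := f.surjective y
  obtain ⟨V, hxV, b, hb, hV⟩ := h x
  obtain ⟨U, hU, a, ha, hn⟩ := exists_affine_gen f hopen I x V hxV b hV
  exact ⟨U, hU, a, hn hb, ha⟩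

/-- off the support the ideal is the unit ideal on a neighbourhood -/
theorem exists_affine_top {I : X.IdealSheafData} {x : X} (hx : x ∉ I.support) :
    ∃ U : X.affineOpens, x ∈ U.1 ∧ I.ideal U = ⊤ := by
  obtain ⟨_, ⟨U, hU, rfl⟩, hxU, hUle⟩ := X.isBasis_affineOpens.exists_subset_of_mem_open
    (show x ∈ (I.support : Set X)ᶜ from hx) I.support.isClosed.isOpen_compl
  have hU' : IsAffineOpen U := hU
  refine ⟨⟨U, hU'⟩, hxU, ?_⟩
  by_contra hne
  obtain ⟨m, hm, hle⟩ := Ideal.exists_le_maximal _ hne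
  let p : PrimeSpectrum Γ(X, U) := ⟨m, hm.isPrime⟩
  have hpU : hU'.fromSpec p ∈ U := by
    have : hU'.fromSpec p ∈ Set.range hU'.fromSpec := ⟨_, rfl⟩
    rwa [hU'.range_fromSpec] at this
  have hz : hU'.fromSpec p ∈ I.support := by
    rw [I.mem_support_iff_of_mem (U := ⟨U, hU'⟩) hpU]
    have h3 : p ∈ hU'.fromSpec ⁻¹' X.zeroLocus (U := U) (I.ideal ⟨U, hU'⟩ : Set Γ(X, U)) := by
      rw [hU'.fromSpec_preimage_zeroLocus]
      exact hle
    exact h3
  exact hUle hpU hz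

/-- effective Cartier: enough to check at the points of the support -/
theorem isEff_of_support {I : X.IdealSheafData}
    (h : ∀ x ∈ I.support, ∃ U : X.affineOpens, x ∈ U.1 ∧
      ∃ f : Γ(X, U.1), f ∈ nonZeroDivisors Γ(X, U.1) ∧ I.ideal U = Ideal.span {f}) :
    BlowUp.IsEffCartierIdeal I := by
  intro x
  by_cases hx : x ∈ I.support
  · exact h x hx
  · obtain ⟨U, hU, hI⟩ := exists_affine_top hx
    exact ⟨U, hU, 1, one_mem _, by rw [hI, Ideal.span_singleton_one]⟩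

/-- local generation by one section, at every point -/
theorem isLocPrincipal_iff {I : X.IdealSheafData} :
    Curv2.IsLocPrincipal I ↔ ∀ x : X, ∃ U : X.affineOpens, x ∈ U.1 ∧ ∃ a : Γ(X, U.1), I.ideal U = Ideal.span {a} := by
  refine ⟨fun h x => ?_, fun h x _ => h x⟩
  by_cases hx : x ∈ I.support
  · exact h x hx
  · obtain ⟨U, hU, hI⟩ := exists_affine_top hx
    exact ⟨U, hU, 1, by rw [hI, Ideal.span_singleton_one]⟩

/-- Descent of locally principal ideals along flat open surjections. -/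
theorem isLocPrincipal_of_comap (f : X ⟶ Y) [Flat f] [Surjective f] (hopen : IsOpenMap f) {I : Y.IdealSheafData}
    (h : Curv2.IsLocPrincipal (I.comap f)) : Curv2.IsLocPrincipal I := by
  rw [isLocPrincipal_iff] at h ⊢
  intro y
  obtain ⟨x, rfl⟩ := f.surjective y
  obtain ⟨V, hxV, b, hV⟩ := h x
  obtain ⟨U, hU, a, ha, -⟩ := exists_affine_gen f hopen I x V hxV b hV
  exact ⟨U, hU, a, ha⟩

/-- Pullback of locally principal ideals along any morphism. -/
theorem isLocPrincipal_comap (f : X ⟶ Y) {I : Y.IdealSheafData}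
    (h : Curv2.IsLocPrincipal I) : Curv2.IsLocPrincipal (I.comap f) := by
  rw [isLocPrincipal_iff] at h ⊢
  intro x
  obtain ⟨U, hU, a, ha⟩ := h (f x)
  obtain ⟨U', V, hxU', hxV, -, hU'U, e⟩ := exists_affine_le f x ⊤ trivial U.1 hU
  have e' : V.1 ≤ f ⁻¹ᵁ U.1 := fun _ h ↦ hU'U (e h)
  refine ⟨V, hxV, (f.appLE U V e').hom a, ?_⟩
  rw [ideal_comap _ f U V e', ha, Ideal.map_span, Set.image_singleton]

theorem isLocPrincipal_of_isEff {I : X.IdealSheafData} (h : BlowUp.IsEffCartierIdeal I) :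
    Curv2.IsLocPrincipal I := by
  rw [isLocPrincipal_iff]
  intro x
  obtain ⟨U, hU, a, -, ha⟩ := h x
  exact ⟨U, hU, a, ha⟩

end K647.CartDesc
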