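import Groth.Prelude.Def_AlgSp4

/-!
# Points of fibre products of sheaves, images of represented morphisms (minimal kit)
-/

set_option autoImplicit false
universe u

open CategoryTheory CategoryTheory.Limits AlgebraicGeometry Opposite

set_option backward.isDefEq.respectTransparency false

namespace K647.Pts

open AlgSp

variable {S : Scheme.{u}}

/-- The morphism `h_{Spec K} ⟶ F` of a field-valued point. -/
noncomputable def hom {F : Sp S} (p : FieldPt F) : (yon S).obj p.pt ⟶ F :=
  (J S).uliftYonedaEquiv.symm p.val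

theorem sec_hom {F : Sp S} (p : FieldPt F) : (J S).uliftYonedaEquiv (hom p) = p.val :=
  Equiv.apply_symm_apply _ _

theorem map_val_eq {F : Sp S} (p : FieldPt F) {T : Over S} (a : T ⟶ p.pt) :
    F.obj.map a.op p.val = (J S).uliftYonedaEquiv ((yon S).map a ≫ hom p) := by
  rw [← GrothendieckTopology.uliftYonedaEquiv_naturality, sec_hom]

theorem hom_map {F G : Sp S} (f : F ⟶ G) (p : FieldPt F) : hom (p.map f) = hom p ≫ f :=
  ((J S).uliftYonedaEquiv_symm_naturality_right p.pt f p.val).symm

/-- Two field-valued points are equivalent iff their morphisms agree on a common extension. -/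
theorem rel_iff {F : Sp S} {p q : FieldPt F} :
    FieldPt.Rel p q ↔ ∃ (Ω : Type u) (_ : Field Ω) (w : Spec (CommRingCat.of Ω) ⟶ S) (a : Over.mk w ⟶ p.pt)
      (b : Over.mk w ⟶ q.pt), (yon S).map a ≫ hom p = (yon S).map b ≫ hom q := by
  constructor
  · rintro ⟨Ω, i, w, a, b, h⟩
    refine ⟨Ω, i, w, a, b, (J S).uliftYonedaEquiv.injective ?_⟩
    rw [← map_val_eq, ← map_val_eq, h]
  · rintro ⟨Ω, i, w, a, b, h⟩
    refine ⟨Ω, i, w, a, b, ?_⟩
    rw [map_val_eq, map_val_eq, h]

/-- Points of a fibre product of sheaves surject onto the fibre product of the points. -/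
theorem exists_point {P F G H : Sp S} {fst : P ⟶ F} {snd : P ⟶ G} {f : F ⟶ H} {g : G ⟶ H}
    (sq : IsPullback fst snd f g) (x : Points F) (y : Points G) (h : Points.map f x = Points.map g y) :
    ∃ z : Points P, Points.map fst z = x ∧ Points.map snd z = y := by
  induction x using Points.ind with | h p => ?_
  induction y using Points.ind with | h q => ?_
  rw [Points.map_mk, Points.map_mk, Points.mk_eq_mk_iff, rel_iff] at h
  obtain ⟨Ω, i, w, a, b, h⟩ := h
  rw [hom_map, hom_map] at h
  let a' : Over.mk w ⟶ p.pt := a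
  let b' : Over.mk w ⟶ q.pt := b
  have h' : ((yon S).map a' ≫ hom p) ≫ f = ((yon S).map b' ≫ hom q) ≫ g := by
    rw [Category.assoc, Category.assoc]; exact h
  let l := sq.lift _ _ h'
  let z : FieldPt P := ⟨Ω, w, (J S).uliftYonedaEquiv l⟩
  have hz : hom z = l := Equiv.symm_apply_apply _ _
  refine ⟨Points.mk z, ?_, ?_⟩
  · rw [Points.map_mk, Points.mk_eq_mk_iff, rel_iff]
    refine ⟨Ω, i, w, 𝟙 _, a', ?_⟩
    rw [hom_map, hz, sq.lift_fst, (yon S).map_id, Category.id_comp]
  · rw [Points.map_mk, Points.mk_eq_mk_iff, rel_iff]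
    refine ⟨Ω, i, w, 𝟙 _, b', ?_⟩
    rw [hom_map, hz, sq.lift_snd, (yon S).map_id, Category.id_comp]

/-- every point of `h_T` is `ofPt (𝟙 _) t` -/
theorem exists_ofPt {T : Over S} (z : Points ((yon S).obj T)) : ∃ t : T.left, Points.ofScheme T t = z :=
  ⟨_, Points.ofScheme_toScheme T z⟩

theorem ofPt_map {T T' : Over S} {F : Sp S} (φ : T ⟶ T') (g : (yon S).obj T' ⟶ F) (t : T.left) :
    Points.ofPt ((yon S).map φ ≫ g) t = Points.ofPt g (φ.left t) := by
  rw [← Points.map_ofPt, ← Category.id_comp g, ← Points.map_ofPt (𝟙 _) g]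
  congr 1
  rw [← Points.ofScheme_toScheme T' (Points.ofPt ((yon S).map φ) t), Points.toScheme_ofPt]

/-- For a represented pullback square `h_W ⟶ h_T`, a point of `T` lies in the image of `W` iff its image in `F`
lies in the image of `G`. -/
theorem mem_range_iff {F G : Sp S} {f : G ⟶ F} {T W : Over S} {g : (yon S).obj T ⟶ F}
    {fst : (yon S).obj W ⟶ G} {snd : W ⟶ T} (sq : IsPullback fst ((yon S).map snd) f g) (t : T.left) :
    t ∈ Set.range snd.left ↔ Points.ofPt g t ∈ Set.range (Points.map f) := by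
  constructor
  · rintro ⟨w, rfl⟩
    refine ⟨Points.ofPt fst w, ?_⟩
    rw [Points.map_ofPt, sq.w, ofPt_map]
  · rintro ⟨x, hx⟩
    have h : Points.map f x = Points.map g (Points.ofScheme T t) := by
      rw [hx, Points.ofPt_eq_map_ofScheme]
    obtain ⟨z, -, hz⟩ := exists_point sq x (Points.ofScheme T t) h
    obtain ⟨w, rfl⟩ := exists_ofPt z
    refine ⟨w, ?_⟩
    have h2 := congrArg (Points.toScheme T) hz
    rw [Points.toScheme_ofScheme, Points.ofScheme, Points.map_ofPt, Category.id_comp,
      Points.toScheme_ofPt] at h2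
    exact h2

/-- points of `W` in a represented pullback, above a given pair -/
theorem exists_point_rep {F G : Sp S} {f : G ⟶ F} {T W : Over S} {g : (yon S).obj T ⟶ F}
    {fst : (yon S).obj W ⟶ G} {snd : W ⟶ T} (sq : IsPullback fst ((yon S).map snd) f g) (x : Points G)
    (t : T.left) (h : Points.map f x = Points.ofPt g t) :
    ∃ w : W.left, Points.ofPt fst w = x ∧ snd.left w = t := by
  obtain ⟨z, hz1, hz⟩ := exists_point sq x (Points.ofScheme T t) (by rw [h, Points.ofPt_eq_map_ofScheme])
  obtain ⟨w, rfl⟩ := exists_ofPt z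
  refine ⟨w, by rw [← hz1, Points.ofPt_eq_map_ofScheme], ?_⟩
  have h2 := congrArg (Points.toScheme T) hz
  rw [Points.toScheme_ofScheme, Points.ofScheme, Points.map_ofPt, Category.id_comp,
    Points.toScheme_ofPt] at h2
  exact h2

/-- a representable surjective map is surjective on points -/
theorem surjective_of_repWith {F G : Sp S} {f : F ⟶ G} (hf : RepWith @Surjective f) :
    Function.Surjective (Points.map f) := by
  intro y
  induction y using Points.ind with | h q => ?_
  obtain ⟨W, snd, fst, sq⟩ := hf.1 (hom q)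
  have hs : Surjective snd.left := hf.2 _ _ _ sq
  let t : q.pt.left := IsLocalRing.closedPoint q.K
  obtain ⟨x, hx⟩ := (mem_range_iff sq t).1 (hs.surj t)
  refine ⟨x, ?_⟩
  rw [hx]
  rw [Points.ofPt_eq_map_ofScheme]
  have h3 := Points.ofScheme_apply_eq_mk q.pt (K := q.K) (str := q.str) (𝟙 _) (Category.id_comp _)
  have h4 : Points.ofScheme q.pt t = Points.mk ⟨q.K, q.str, ULift.up (Over.homMk (𝟙 _) (Category.id_comp _))⟩ := h3
  rw [h4, Points.map_mk]
  congr 1
  change (⟨q.K, q.str, (hom q).hom.app _ _⟩ : FieldPt G) = q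
  have h5 : (hom q).hom.app (op (Over.mk q.str)) (ULift.up (Over.homMk (𝟙 _) (Category.id_comp _))) = q.val := by
    have h6 := sec_hom q
    rw [GrothendieckTopology.uliftYonedaEquiv_apply] at h6
    rw [← h6]
    rfl
  rw [h5]
  rfl

/-- a chart which is surjective hits every point -/
theorem exists_ofPt_of_surj {F : Sp S} {U : Over S} {p : (yon S).obj U ⟶ F} (hp : RepWith @Surjective p)
    (x : Points F) : ∃ t : U.left, Points.ofPt p t = x := by
  obtain ⟨z, rfl⟩ := surjective_of_repWith hp x
  obtain ⟨t, rfl⟩ := exists_ofPt z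
  exact ⟨t, by rw [Points.ofPt_eq_map_ofScheme]⟩

end K647.Pts
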