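import Groth.Prelude.Def_AlgSpSub
import Groth.Prelude.Def_W4stk3spdivLocPr
import Groth.Agent.AlgSp.K647.CartDesc
import Groth.Agent.AlgSp.K647.Pts

/-!
# The ideal sheaf of a closed subspace on a test scheme; charts for effective Cartier divisors

For `i : D ⟶ F` representable by closed immersions and `g : h_T ⟶ F`, `idl hi g` is the ideal sheaf on `T` of
the inverse image of `D`; it is compatible with pullback in `T`.  `IsEffCartierSub` and `IsLocPrincipalSub` in terms
of `idl` on one (every) etale surjective chart.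
-/

set_option autoImplicit false
universe u

open CategoryTheory CategoryTheory.Limits AlgebraicGeometry Opposite

set_option backward.isDefEq.respectTransparency false

namespace K647.Idl

open AlgSp K647.CartDesc

variable {S : Scheme.{u}}

lemma ker_of_isPullback {P X Y Z : Scheme.{u}} {fst : P ⟶ X} {snd : P ⟶ Z} {f : X ⟶ Y} {i : Z ⟶ Y}
    (h : IsPullback fst snd f i) [IsClosedImmersion i] : fst.ker = i.ker.comap f := by
  rw [← Scheme.IdealSheafData.ker_fst_of_isClosedImmersion, ← h.isoPullback_hom_fst,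
    Scheme.Hom.ker_comp_of_isIso]

section Charts

variable {F G H : Sp S}

/-- pasting a represented pullback with a base change of the test scheme -/
theorem pullback_chart {i : G ⟶ F} {T W T' W' : Over S} {g : (yon S).obj T ⟶ F} {fst : (yon S).obj W ⟶ G}
    {snd : W ⟶ T} (sq : IsPullback fst ((yon S).map snd) i g) {t : T' ⟶ T} {a : W' ⟶ W} {b : W' ⟶ T'}
    (h : IsPullback a b snd t) :
    IsPullback ((yon S).map a ≫ fst) ((yon S).map b) i ((yon S).map t ≫ g) :=
  (h.map (yon S)).paste_horiz sq

/-- two charts, one of them representable: the fibre product -/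
theorem exists_prod {U V : Over S} {a : (yon S).obj U ⟶ F} {b : (yon S).obj V ⟶ F} (ha : Representable a) :
    ∃ (W : Over S) (p : W ⟶ U) (q : W ⟶ V), IsPullback ((yon S).map p) ((yon S).map q) a b := by
  obtain ⟨W, snd, fst, sq⟩ := ha b
  obtain ⟨fst', rfl⟩ := (yon S).map_surjective fst
  exact ⟨W, fst', snd, sq⟩

theorem repWith_comp {P : MorphismProperty Scheme.{u}} [P.IsStableUnderComposition] {f : F ⟶ G} {g : G ⟶ H}
    (hf : RepWith P f) (hg : RepWith P g) : RepWith P (f ≫ g) :=
  MorphismProperty.comp_mem _ _ _ hf hg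

theorem repWith_snd {P : MorphismProperty Scheme.{u}} {K : Sp S} {fst : K ⟶ F} {snd : K ⟶ G} {f : F ⟶ H}
    {g : G ⟶ H} (sq : IsPullback fst snd f g) (hf : RepWith P f) : RepWith P snd :=
  MorphismProperty.of_isPullback sq hf

theorem repWith_fst {P : MorphismProperty Scheme.{u}} {K : Sp S} {fst : K ⟶ F} {snd : K ⟶ G} {f : F ⟶ H}
    {g : G ⟶ H} (sq : IsPullback fst snd f g) (hg : RepWith P g) : RepWith P fst :=
  MorphismProperty.of_isPullback sq.flip hg

/-- Chart lifting: given charts `a : h_U ⟶ F` and `b : h_V ⟶ G` (etale surjective) and `f : F ⟶ G`, there is a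
chart of `F` over `a` mapping to `V`. -/
theorem exists_chart_lift {f : F ⟶ G} {U V : Over S} {a : (yon S).obj U ⟶ F} {b : (yon S).obj V ⟶ G}
    (hb : RepWith @Etale b) (hb' : RepWith @Surjective b) :
    ∃ (W : Over S) (p : W ⟶ U) (q : W ⟶ V), IsPullback ((yon S).map q) ((yon S).map p) b (a ≫ f) ∧
      Etale p.left ∧ Surjective p.left ∧ ((yon S).map p ≫ a) ≫ f = (yon S).map q ≫ b := by
  obtain ⟨W, q, p, sq⟩ := exists_prod (a := b) (b := a ≫ f) hb.1
  refine ⟨W, p, q, sq, hb.2 _ _ _ sq, hb'.2 _ _ _ sq, ?_⟩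
  rw [Category.assoc, sq.w]

theorem repWith_etale_comp {U V : Over S} {a : (yon S).obj U ⟶ F} (ha : RepWith @Etale a) (p : V ⟶ U)
    [hp : Etale p.left] : RepWith @Etale ((yon S).map p ≫ a) :=
  repWith_comp ((repWith_yon_map_iff _ _).2 hp) ha

theorem repWith_surj_comp {U V : Over S} {a : (yon S).obj U ⟶ F} (ha : RepWith @Surjective a) (p : V ⟶ U)
    [hp : Surjective p.left] : RepWith @Surjective ((yon S).map p ≫ a) :=
  repWith_comp ((repWith_yon_map_iff _ _).2 hp) ha

end Charts

section Closed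

variable {F D : Sp S} {i : D ⟶ F}

/-- the ideal sheaf on `T` of the inverse image of the closed subspace `D` -/
noncomputable def idl (hi : RepWith @IsClosedImmersion i) {T : Over S} (g : (yon S).obj T ⟶ F) :
    T.left.IdealSheafData := (hi.1.snd g).left.ker

variable (hi : RepWith @IsClosedImmersion i) {T W : Over S} {g : (yon S).obj T ⟶ F}

include hi in
theorem closed {fst : (yon S).obj W ⟶ D} {snd : W ⟶ T} (sq : IsPullback fst ((yon S).map snd) i g) :
    IsClosedImmersion snd.left := hi.2 _ _ _ sq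

theorem ker_eq_idl {fst : (yon S).obj W ⟶ D} {snd : W ⟶ T} (sq : IsPullback fst ((yon S).map snd) i g) :
    snd.left.ker = idl hi g := by
  have sq' := hi.1.isPullback g
  let e := sq.isoIsPullback _ _ sq'
  obtain ⟨e', he'⟩ := (yon S).map_surjective e.hom
  have : IsIso ((yon S).map e') := by rw [he']; infer_instance
  have hiso : IsIso e' := isIso_of_fully_faithful (yon S) e'
  have h1 : e' ≫ hi.1.snd g = snd := (yon S).map_injective (by
    rw [Functor.map_comp, he']; exact sq.isoIsPullback_hom_snd _ _ sq')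
  have h2 : e'.left ≫ (hi.1.snd g).left = snd.left := by rw [← h1, Over.comp_left]
  have : IsIso e'.left := inferInstanceAs (IsIso ((Over.forget S).map e'))
  rw [← h2, Scheme.Hom.ker_comp_of_isIso]
  rfl

/-- compatibility with base change in the test scheme -/
theorem idl_comp {T' : Over S} (t : T' ⟶ T) :
    idl hi ((yon S).map t ≫ g) = (idl hi g).comap t.left := by
  have sq := hi.1.isPullback g
  have h := IsPullback.of_hasPullback (hi.1.snd g) t
  have hc : IsClosedImmersion (hi.1.snd g).left := closed hi sq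
  rw [← ker_eq_idl hi (pullback_chart sq h)]
  exact ker_of_isPullback (h.map (Over.forget S)).flip

/-- the closed subscheme of `idl hi g` is the inverse image of `D` -/
theorem exists_isPullback_subscheme (g : (yon S).obj T ⟶ F) :
    ∃ fst : (yon S).obj (Over.mk ((idl hi g).subschemeι ≫ T.hom)) ⟶ D,
      IsPullback fst ((yon S).map (Over.homMk (idl hi g).subschemeι rfl :
        Over.mk ((idl hi g).subschemeι ≫ T.hom) ⟶ T)) i g := by
  have sq := hi.1.isPullback g
  have hc : IsClosedImmersion (hi.1.snd g).left := closed hi sq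
  -- the canonical isomorphism from the pullback to its image
  let k : (hi.1.snd g).left.imageι = (idl hi g).subschemeι := rfl
  have h1 : (hi.1.snd g).left.toImage ≫ (idl hi g).subschemeι = (hi.1.snd g).left :=
    (hi.1.snd g).left.toImage_imageι
  have : IsIso (hi.1.snd g).left.toImage := inferInstance
  let e : hi.1.pullback g ≅ Over.mk ((idl hi g).subschemeι ≫ T.hom) :=
    Over.isoMk (asIso (hi.1.snd g).left.toImage) (by
      dsimp
      rw [← Category.assoc, h1, Over.w])
  refine ⟨(yon S).map e.inv ≫ hi.1.fst g, ?_⟩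
  refine IsPullback.of_iso sq ((yon S).mapIso e) (Iso.refl _) (Iso.refl _) (Iso.refl _) ?_ ?_ ?_ ?_
  · simp
  · simp only [Functor.mapIso_hom, Iso.refl_hom, Category.comp_id, ← Functor.map_comp]
    congr 1
    ext1
    exact h1.symm
  · simp
  · simp

/-- any ideal sheaf whose closed subscheme is the inverse image is `idl hi g` -/
theorem eq_idl_of_isPullback {I : T.left.IdealSheafData}
    {fst : (yon S).obj (Over.mk (I.subschemeι ≫ T.hom)) ⟶ D}
    (sq : IsPullback fst ((yon S).map (Over.homMk I.subschemeι rfl : Over.mk (I.subschemeι ≫ T.hom) ⟶ T)) i g) :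
    I = idl hi g := by
  rw [← ker_eq_idl hi sq]
  exact (Scheme.IdealSheafData.ker_subschemeι I).symm

theorem isPullback_subscheme_iff {I : T.left.IdealSheafData} :
    (∃ fst : (yon S).obj (Over.mk (I.subschemeι ≫ T.hom)) ⟶ D,
      IsPullback fst ((yon S).map (Over.homMk I.subschemeι rfl : Over.mk (I.subschemeι ≫ T.hom) ⟶ T)) i g) ↔
    I = idl hi g := by
  constructor
  · rintro ⟨fst, sq⟩
    exact eq_idl_of_isPullback hi sq
  · rintro rfl
    exact exists_isPullback_subscheme hi g

/-- base change of the closed subspace along `f`: the ideal on a test scheme over the new space -/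
theorem idl_of_isPullback {F' D' : Sp S} {i' : D' ⟶ F'} {f : F' ⟶ F} {k : D' ⟶ D} (sq : IsPullback k i' i f)
    (hi' : RepWith @IsClosedImmersion i') {T : Over S} (g : (yon S).obj T ⟶ F') :
    idl hi' g = idl hi (g ≫ f) := by
  have sq' := hi'.1.isPullback g
  have := ker_eq_idl hi (sq'.paste_horiz sq)
  rw [← this]
  rfl

/-- points: the support of `idl hi g` is the preimage of `|D|`. -/
theorem mem_support_idl_iff (t : T.left) :
    t ∈ (idl hi g).support ↔ Points.ofPt g t ∈ Set.range (Points.map i) := by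
  have sq := hi.1.isPullback g
  have hc : IsClosedImmersion (hi.1.snd g).left := closed hi sq
  rw [← Pts.mem_range_iff sq, idl, ← SetLike.mem_coe, Scheme.Hom.support_ker,
    (hi.1.snd g).left.isClosedEmbedding.isClosed_range.closure_eq]

/-- transfer between two etale charts, for a property of ideals stable under etale pullback and etale descent -/
theorem transfer {Q : ∀ {X : Scheme.{u}}, X.IdealSheafData → Prop}
    (h1 : ∀ {X Y : Scheme.{u}} (f : X ⟶ Y) [Etale f] (I : Y.IdealSheafData), Q I → Q (I.comap f))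
    (h2 : ∀ {X Y : Scheme.{u}} (f : X ⟶ Y) [Etale f] [Surjective f] (I : Y.IdealSheafData), Q (I.comap f) → Q I)
    {U V : Over S} {φ : (yon S).obj V ⟶ F} {ψ : (yon S).obj U ⟶ F} (hφ : RepWith @Etale φ)
    (hφ' : RepWith @Surjective φ) (hψ : RepWith @Etale ψ) (h : Q (idl hi φ)) : Q (idl hi ψ) := by
  obtain ⟨W, p, q, sq⟩ := exists_prod (a := φ) (b := ψ) hφ.1
  have hq : Etale q.left := hφ.2 _ _ _ sq
  have hq' : Surjective q.left := hφ'.2 _ _ _ sq
  have hp : Etale p.left := hψ.2 _ _ _ sq.flip
  apply h2 q.left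
  rw [← idl_comp hi q, ← sq.w, idl_comp hi p]
  exact h1 p.left _ h

/-- descent along a surjective map onto a test scheme which becomes etale: variant for an arbitrary test map -/
theorem transfer' {Q : ∀ {X : Scheme.{u}}, X.IdealSheafData → Prop}
    (h1 : ∀ {X Y : Scheme.{u}} (f : X ⟶ Y) (I : Y.IdealSheafData), Q I → Q (I.comap f))
    (h2 : ∀ {X Y : Scheme.{u}} (f : X ⟶ Y) [Etale f] [Surjective f] (I : Y.IdealSheafData), Q (I.comap f) → Q I)
    {U V : Over S} {φ : (yon S).obj V ⟶ F} (ψ : (yon S).obj U ⟶ F) (hφ : RepWith @Etale φ)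
    (hφ' : RepWith @Surjective φ) (h : Q (idl hi φ)) : Q (idl hi ψ) := by
  obtain ⟨W, p, q, sq⟩ := exists_prod (a := φ) (b := ψ) hφ.1
  have hq : Etale q.left := hφ.2 _ _ _ sq
  have hq' : Surjective q.left := hφ'.2 _ _ _ sq
  apply h2 q.left
  rw [← idl_comp hi q, ← sq.w, idl_comp hi p]
  exact h1 p.left _ h

end Closed

section Cartier

variable {F D : Sp S} {i : D ⟶ F}

theorem isEffCartierSub_iff : IsEffCartierSub i ↔ ∃ hi : RepWith @IsClosedImmersion i,
    ∃ (V : Over S) (φ : (yon S).obj V ⟶ F), RepWith @Etale φ ∧ RepWith @Surjective φ ∧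
      BlowUp.IsEffCartierIdeal (idl hi φ) := by
  constructor
  · rintro ⟨hi, V, φ, I, fst, h1, h2, sq, hI⟩
    refine ⟨hi, V, φ, h1, h2, ?_⟩
    rw [← eq_idl_of_isPullback hi sq]
    exact hI
  · rintro ⟨hi, V, φ, h1, h2, hI⟩
    obtain ⟨fst, sq⟩ := exists_isPullback_subscheme hi φ
    exact ⟨hi, V, φ, _, fst, h1, h2, sq, hI⟩

theorem isLocPrincipalSub_iff : IsLocPrincipalSub i ↔ ∃ hi : RepWith @IsClosedImmersion i,
    ∃ (V : Over S) (φ : (yon S).obj V ⟶ F), RepWith @Etale φ ∧ RepWith @Surjective φ ∧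
      Curv2.IsLocPrincipal (idl hi φ) := by
  constructor
  · rintro ⟨hi, V, φ, I, fst, h1, h2, sq, hI⟩
    refine ⟨hi, V, φ, h1, h2, ?_⟩
    rw [← eq_idl_of_isPullback hi sq]
    exact hI
  · rintro ⟨hi, V, φ, h1, h2, hI⟩
    obtain ⟨fst, sq⟩ := exists_isPullback_subscheme hi φ
    exact ⟨hi, V, φ, _, fst, h1, h2, sq, hI⟩

/-- an effective Cartier divisor is effective Cartier on every etale chart -/
theorem isEff_idl (h : IsEffCartierSub i) {U : Over S} {ψ : (yon S).obj U ⟶ F} (hψ : RepWith @Etale ψ) :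
    BlowUp.IsEffCartierIdeal (idl h.1 ψ) := by
  obtain ⟨hi, V, φ, h1, h2, hI⟩ := isEffCartierSub_iff.1 h
  exact transfer hi (Q := fun {X} I => BlowUp.IsEffCartierIdeal I)
    (fun f _ I hI => Groth.Agent.Divis.EffCartier.isEff_comap_flat hI f)
    (fun f _ _ I hI => isEff_of_comap f f.isOpenMap hI) h1 h2 hψ hI

/-- a locally principal closed subspace is locally principal on every test scheme -/
theorem isLocPrincipal_idl (h : IsLocPrincipalSub i) {U : Over S} (ψ : (yon S).obj U ⟶ F) :
    Curv2.IsLocPrincipal (idl h.1 ψ) := by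
  obtain ⟨hi, V, φ, h1, h2, hI⟩ := isLocPrincipalSub_iff.1 h
  exact transfer' hi (Q := fun {X} I => Curv2.IsLocPrincipal I)
    (fun f I hI => isLocPrincipal_comap f hI)
    (fun f _ _ I hI => isLocPrincipal_of_comap f f.isOpenMap hI) ψ h1 h2 hI

theorem isLocPrincipalSub_of_isEff (h : IsEffCartierSub i) : IsLocPrincipalSub i := by
  obtain ⟨hi, V, φ, h1, h2, hI⟩ := isEffCartierSub_iff.1 h
  exact isLocPrincipalSub_iff.2 ⟨hi, V, φ, h1, h2, isLocPrincipal_of_isEff hI⟩

end Cartier

end K647.Idl
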