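import Groth.Agent.AlgSp.K647.FamOps
import Groth.Agent.AlgSp.K647.Idl
import Groth.Agent.AlgSp.K609.Sep
import Groth.Agent.AlgSp.K609.QC
import Groth.Agent.AlgSp.K610.Sub
import Groth.Agent.AlgSp.K610.OpenImm
import Groth.Agent.AlgSp.K640.ElemDist
import Groth.Agent.AlgSp.K642.Pb
import Groth.Agent.S10419

/-!
# Families of ideals on a qcqs algebraic space are directed unions of families of finite type ideals

`QC Y`: for a family of ideals `A` on `Y` and a finite type ideal `K ≤ A.I g` on a quasi-compact scheme there is a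
family of finite type ideals `B ≤ A` with `K ≤ B.I g`.
`qc_of_qcqs`: `QC X` for `X` quasi-compact and quasi-separated over a quasi-separated base.
-/

set_option autoImplicit false
universe u

open CategoryTheory CategoryTheory.Limits AlgebraicGeometry Opposite TopologicalSpace

set_option backward.isDefEq.respectTransparency false

namespace K647.QcIdl

open AlgSp K598.ClFam K598.Charts K598.RepKit K647.Idl K647.FamOps BlowUp K640.ElemDist K640.Joint
open Groth.Agent.RedSub.H647.QCov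

section scheme

variable {Y Y₁ Y₂ : Scheme.{u}} (q₁ : Y₁ ⟶ Y) (q₂ : Y₂ ⟶ Y)

/-- the two-element family of targets -/
abbrev two (Y₁ Y₂ : Scheme.{u}) : ULift.{u} Bool → Scheme.{u} := fun b => match b with | ⟨true⟩ => Y₁ | ⟨false⟩ => Y₂

/-- the two-element family of maps -/
abbrev twoMap : ∀ b, two Y₁ Y₂ b ⟶ Y := fun b => match b with | ⟨true⟩ => q₁ | ⟨false⟩ => q₂

theorem isQCov₂ [Flat q₁] [LocallyOfFinitePresentation q₁] [Flat q₂] [LocallyOfFinitePresentation q₂]
    (h : ∀ y : Y, (∃ x, q₁ x = y) ∨ ∃ x, q₂ x = y) : IsQCov (twoMap q₁ q₂) := by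
  refine IsQCov.of_flat ?_ ?_ ?_
  · rintro ⟨_ | _⟩
    · exact ‹Flat q₂›
    · exact ‹Flat q₁›
  · rintro ⟨_ | _⟩
    · exact ‹LocallyOfFinitePresentation q₂›
    · exact ‹LocallyOfFinitePresentation q₁›
  · intro y
    rcases h y with ⟨x, hx⟩ | ⟨x, hx⟩
    · exact ⟨⟨true⟩, x, hx⟩
    · exact ⟨⟨false⟩, x, hx⟩

theorem ideal_ext₂ [Flat q₁] [LocallyOfFinitePresentation q₁] [Flat q₂] [LocallyOfFinitePresentation q₂]
    (h : ∀ y : Y, (∃ x, q₁ x = y) ∨ ∃ x, q₂ x = y) {I J : Y.IdealSheafData} (h₁ : I.comap q₁ = J.comap q₁)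
    (h₂ : I.comap q₂ = J.comap q₂) : I = J := by
  refine (isQCov₂ q₁ q₂ h).ideal_ext ?_
  rintro ⟨_ | _⟩
  · exact h₂
  · exact h₁

theorem ideal_le₁ (q : Y₁ ⟶ Y) [Flat q] [LocallyOfFinitePresentation q] [Surjective q] {I J : Y.IdealSheafData}
    (h : I.comap q ≤ J.comap q) : I ≤ J :=
  (IsQCov.of_flat (ι := PUnit.{u+1}) (Y' := fun _ => Y₁) (q := fun _ => q) (fun _ => ‹_›) (fun _ => ‹_›)
    (fun y => ⟨PUnit.unit, q.surjective y⟩)).ideal_le fun _ => h

end scheme

variable {S : Scheme.{u}} {X U W : Sp S}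

/-- the (QC) property for families of ideals -/
def QC (Y : Sp S) : Prop := ∀ (A : Fam Y) (T : Over S) [CompactSpace T.left] (g : (yon S).obj T ⟶ Y)
  (K : T.left.IdealSheafData), IsFiniteTypeIdeal K → K ≤ A.I g → ∃ B : Fam Y, B ≤ A ∧ FT B ∧ K ≤ B.I g

/-- glueing a family on the open part of an elementary distinguished square with an ideal on the chart -/
theorem exists_glue {V : Over S} {j : U ⟶ W} {f : (yon S).obj V ⟶ W} (hjf : IsElemDistSq j f)
    (hf : RepWith @Etale f) (hf' : RepWith @Surjective f) (A : Fam U) (D : V.left.IdealSheafData)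
    (h : ∀ (R : Over S) (a : (yon S).obj R ⟶ U) (b : R ⟶ V), a ≫ j = (yon S).map b ≫ f →
      A.I a = D.comap b.left) :
    ∃ B : Fam W, B.I f = D ∧ pull B j = A := by
  obtain ⟨B, hB⟩ := (ChartFam.single hf hf').exists_fam (fun _ => D) (by
    intro _ _ R a b hab
    obtain ⟨R₁, R₂, c₁, c₂, z₁, hc, hz₁, h2⟩ := fpC₂_of_isElemDistSq (IsAlgSpace.yon_obj V) hjf _ _ hab
    have := hc.flat₁
    have := hc.flat₂
    have := hc.lfp₁
    have := hc.lfp₂
    refine ideal_ext₂ c₁.left c₂.left hc.surj ?_ ?_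
    · rw [← Scheme.IdealSheafData.comap_comp, ← Scheme.IdealSheafData.comap_comp, ← Over.comp_left, ← Over.comp_left,
        ← h R₁ z₁ (c₁ ≫ a) (by rw [hz₁, Functor.map_comp, Category.assoc]),
        ← h R₁ z₁ (c₁ ≫ b) (by rw [hz₁, hab, Functor.map_comp, Category.assoc])]
    · have h3 : c₂ ≫ a = c₂ ≫ b := (yon S).map_injective (by rw [Functor.map_comp, Functor.map_comp, h2])
      rw [← Scheme.IdealSheafData.comap_comp, ← Scheme.IdealSheafData.comap_comp, ← Over.comp_left, ← Over.comp_left,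
        h3])
  have hB' : B.I f = D := hB PUnit.unit
  refine ⟨B, hB', ?_⟩
  ext R a : 3
  obtain ⟨P, b, c, sq⟩ := exists_prod (a := f) (b := a ≫ j) hf.1
  have h1 : Etale c.left := hf.2 _ _ _ sq
  have h2 : Surjective c.left := hf'.2 _ _ _ sq
  have h3 : ((pull B j).I a).comap c.left = (A.I a).comap c.left := by
    rw [pull_I, ← B.comap, ← sq.w, B.comap, hB', ← A.comap]
    refine (h P _ b ?_).symm
    rw [sq.w, Category.assoc]
  exact le_antisymm (ideal_le₁ c.left h3.le) (ideal_le₁ c.left h3.ge)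

theorem QC.step [QuasiSeparatedSpace ↥S] (hUc : IsQuasiCompactSp U) (hWs : IsQuasiSeparatedSp W)
    {V : Over S} [CompactSpace V.left] [QuasiSeparatedSpace V.left] {j : U ⟶ W} {f : (yon S).obj V ⟶ W}
    (hjf : IsElemDistSq j f) (hf : RepWith @Etale f) (hf' : RepWith @Surjective f) (hQ : QC U) : QC W := by
  intro A T _ g K hK hKA
  -- the ideal on the chart
  obtain ⟨P, b, c, sqP⟩ := exists_prod (a := f) (b := g) hf.1
  have hPc : CompactSpace P.left := K609.Sep.compactSpace_pullback hWs sqP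
  have hc : Etale c.left := hf.2 _ _ _ sqP
  have hc' : Surjective c.left := hf'.2 _ _ _ sqP
  obtain ⟨C, hCA, hC, hKC⟩ := exists_ft_comap b.left (A.I f) (K.comap c.left)
    (Groth.Agent.Flat2C.Admissible.isFT_comap hK _) (by
      rw [← A.comap, sqP.w, A.comap]
      exact Scheme.IdealSheafData.comap_mono _ hKA)
  -- the intersection with `U`
  obtain ⟨Q, e, y, sqQ⟩ := hjf.1.1 f
  have he : IsOpenImmersion e.left := hjf.1.2 _ _ _ sqQ
  have hQc : CompactSpace Q.left := by
    obtain ⟨U₀, a, ha, ha', hU₀⟩ := hUc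
    obtain ⟨P₀, α, β, sq₀⟩ := exists_prod (a := a) (b := y) ha.1
    have hβ : Surjective β.left := ha'.2 _ _ _ sq₀
    have sq₁ : IsPullback ((yon S).map α) ((yon S).map (β ≫ e)) (a ≫ j) f := by
      rw [Functor.map_comp]
      exact sq₀.paste_vert sqQ
    have hU₀' : CompactSpace U₀.left := hU₀
    have hP₀ : CompactSpace P₀.left := K609.Sep.compactSpace_pullback hWs sq₁
    exact ⟨by rw [← Set.range_eq_univ.2 β.left.surjective]; exact isCompact_range β.left.continuous⟩
  obtain ⟨B₁, hB₁A, hB₁, hCB₁⟩ := hQ (pull A j) Q y (C.comap e.left)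
    (Groth.Agent.Flat2C.Admissible.isFT_comap hC _) (by
      rw [pull_I, sqQ.w, A.comap]
      exact Scheme.IdealSheafData.comap_mono _ hCA)
  obtain ⟨D, hDA, hD, hDe⟩ := exists_ft_extend e.left (A.I f) (B₁.I y) (hB₁ y) (by
    rw [← A.comap, ← sqQ.w]
    exact hB₁A Q y)
  have hDe' : (D ⊔ C).comap e.left = B₁.I y := by
    rw [Scheme.IdealSheafData.comap_sup, hDe, sup_eq_left.2 hCB₁]
  obtain ⟨B, hBf, hBj⟩ := exists_glue hjf hf hf' B₁ (D ⊔ C) (fun R a r har => by
    obtain ⟨l, hl⟩ := (yon S).map_surjective (sqQ.lift a ((yon S).map r) har)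
    have h1 : (yon S).map l ≫ y = a := by rw [hl, sqQ.lift_fst]
    have h2 : l ≫ e = r := (yon S).map_injective (by rw [Functor.map_comp, hl, sqQ.lift_snd])
    rw [← h1, ← h2, Over.comp_left, Scheme.IdealSheafData.comap_comp, hDe', B₁.comap])
  refine ⟨B, ?_, ?_, ?_⟩
  · refine (ChartFam.single hf hf').le_of_le fun _ => ?_
    rw [hBf]
    exact _root_.sup_le hDA hCA
  · refine FT.of_charts (ChartFam.single hf hf') fun _ => ?_
    rw [hBf]
    exact Groth.Agent.Flat2C.Admissible.isFT_sup hD hC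
  · refine ideal_le₁ c.left (hKC.trans ?_)
    rw [← B.comap, ← sqP.w, B.comap, hBf]
    exact Scheme.IdealSheafData.comap_mono _ _root_.le_sup_right

theorem isQuasiSeparatedSp_of_mono {Y Z : Sp S} (m : Z ⟶ Y) [Mono m] (h : IsQuasiSeparatedSp Y) :
    IsQuasiSeparatedSp Z :=
  MorphismProperty.of_isPullback (P := RepWith @QuasiCompact) (K610.Sub.diag_pullback_of_mono m).flip h

/-- transport along an isomorphism -/
theorem QC.of_iso {Y Z : Sp S} (e : Z ⟶ Y) [IsIso e] (h : QC Z) : QC Y := by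
  intro A T _ g K hK hKA
  obtain ⟨B, hB, hB', hKB⟩ := h (pull A e) T (g ≫ inv e) K hK (by simpa using hKA)
  refine ⟨pull B (inv e), fun T' g' => ?_, hB'.pull _, by simpa using hKB⟩
  have := hB T' (g' ≫ inv e)
  simpa using this

theorem qc_of_isEmpty {Y : Sp S} (h : IsEmpty (Points Y)) : QC Y := by
  intro A T _ g K hK hKA
  refine ⟨A, le_rfl, fun T' g' => ?_, hKA⟩
  have : IsEmpty T'.left := ⟨fun t => h.false (Points.ofPt g' t)⟩
  intro O
  have : Subsingleton Γ(T'.left, O.1) := by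
    have h1 : O.1 = ⊥ := by
      ext x
      exact this.elim x
    rw [h1]
    infer_instance
  exact ⟨∅, Subsingleton.elim _ _⟩

theorem qc_of_qcqs [QuasiSeparatedSpace ↥S] (X : Space S) (hqc : IsQuasiCompactSp X.obj)
    (hqs : IsQuasiSeparatedSp X.obj) : QC X.obj := by
  obtain ⟨n, Uo, j, k, T, i, h1, h2, h3, h4, h5, h6⟩ := Groth.Agent.S10419.result X hqc hqs
  have hm : ∀ p, Mono (j p).hom := fun p => mono_of_repWith_isOpenImmersion (h1 p)
  have hs : ∀ p, IsQuasiSeparatedSp (Uo p).obj := fun p => isQuasiSeparatedSp_of_mono (j p).hom hqs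
  have hc : ∀ p, 1 ≤ p → IsQuasiCompactSp (Uo p).obj := fun p hp => by
    obtain ⟨V, f, g1, g2, g3, g4, g5⟩ := h6 p hp
    exact ⟨V, f, g3, g4, g2⟩
  have key : ∀ m, m ≤ n → QC (Uo (n + 1 - m)).obj := by
    intro m
    induction m with
    | zero => exact fun _ => qc_of_isEmpty h4
    | succ m ih =>
      intro hmn
      have ih' := ih (by omega)
      obtain ⟨p, hp⟩ : ∃ p, n + 1 - (m + 1) = p := ⟨_, rfl⟩
      have hp1 : 1 ≤ p := by omega
      have hp2 : n + 1 - m = p + 1 := by omega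
      rw [hp]
      rw [hp2] at ih'
      obtain ⟨V, f, g1, g2, g3, g4, g5⟩ := h6 p hp1
      have hk : RepWith @IsOpenImmersion (k p).hom := by
        refine K610.OpenImm.repWith_of_comp_mono (j := (j p).hom) ?_
        have h7 : (k p).hom ≫ (j p).hom = (j (p + 1)).hom := congrArg (fun z => z.hom) (h2 p)
        rw [h7]
        exact h1 (p + 1)
      have sq := IsPullback.of_hasPullback (i p).hom f
      have hel : IsElemDistSq (k p).hom f := ⟨hk, K642.Pb.isEtaleMor_of_repWith g3, (T p).obj, _, (i p).hom, _, _,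
        h5 p, sq, g5 _ _ _ sq⟩
      exact QC.step (hc (p + 1) (by omega)) (hs p) hel g3 g4 ih'
  have h8 := key n le_rfl
  have h9 : n + 1 - n = 1 := by omega
  rw [h9] at h8
  have h10 : IsIso (j 1).hom := by
    have := h3
    exact inferInstanceAs (IsIso ((ObjectProperty.ι _).map (j 1)))
  exact h8.of_iso (j 1).hom

end K647.QcIdl
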