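import Groth.Agent.AlgSp.K647.QcIdl
import Groth.Agent.AlgSp.K603.ClChain
import Groth.Agent.AlgSp.K596.QC
import Groth.Agent.AlgSp.K597.LocP

/-!
# A closed subspace is the limit of closed subspaces of finite presentation
-/

set_option autoImplicit false
universe u
open CategoryTheory CategoryTheory.Limits AlgebraicGeometry Opposite
open AlgSp K598.ClFam K598.Charts K598.RepKit K647.FamOps K647.QcIdl K603.ClChain
open Groth.Agent.Divis Groth.Agent.Divis.IdealComap Groth.Agent.Divis.IdealFT BlowUp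

namespace K647.ClLim

set_option backward.isDefEq.respectTransparency false

variable {S : Scheme.{u}} {X Y : Sp S}

/-- `x ∈ I(⊤)` gives a finite type ideal `K ≤ I` with `x ∈ K(⊤)`, on an affine scheme. -/
theorem exists_ft_mem {W : Scheme.{u}} [IsAffine W] (I : W.IdealSheafData) (x : Γ(W, ⊤))
    (hx : x ∈ I.ideal ⟨⊤, isAffineOpen_top W⟩) :
    ∃ K : W.IdealSheafData, IsFiniteTypeIdeal K ∧ K ≤ I ∧ x ∈ K.ideal ⟨⊤, isAffineOpen_top W⟩ := by
  refine ⟨Scheme.IdealSheafData.ofIdealTop (Ideal.span {x}), ?_, ?_, ?_⟩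
  · refine Groth.Agent.Flat2C.Admissible.isFT_of_cover _ fun w => ⟨⟨⊤, isAffineOpen_top W⟩, trivial, ?_⟩
    rw [Scheme.IdealSheafData.ofIdealTop_ideal]
    exact Ideal.FG.map ⟨{x}, by simp⟩ _
  · refine Scheme.IdealSheafData.le_of_isAffine ?_
    rw [Scheme.IdealSheafData.ofIdealTop_ideal, Ideal.map_le_iff_le_comap, Ideal.span_singleton_le_iff_mem]
    have h := Scheme.IdealSheafData.map_ideal (X := W) I (U := ⟨⊤, isAffineOpen_top W⟩) (V := ⟨⊤, isAffineOpen_top W⟩) le_rfl
    rw [← h]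
    exact Ideal.mem_map_of_mem _ hx
  · rw [Scheme.IdealSheafData.ofIdealTop_ideal]
    have := Ideal.mem_map_of_mem (W.presheaf.map (homOfLE (le_top : (⊤ : W.Opens) ≤ ⊤)).op).hom
      (Ideal.mem_span_singleton_self x)
    convert this using 1
    have h : (homOfLE (le_top : (⊤ : W.Opens) ≤ ⊤)).op = 𝟙 _ := Subsingleton.elim _ _
    rw [h, W.presheaf.map_id]
    rfl

/-- The supremum of the finite type families below `A` is `A`. -/
theorem le_sup_of_chart {W : Over S} [IsAffine W.left] {p : (yon S).obj W ⟶ Y} (hp : RepWith @Etale p)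
    (hp' : RepWith @Surjective p) (hQ : QC Y) (A B : Fam Y) (h : ∀ C : Fam Y, FT C → C ≤ A → C ≤ B) : A ≤ B := by
  refine (ChartFam.single hp hp').le_of_le fun _ => ?_
  refine Scheme.IdealSheafData.le_of_isAffine fun x hx => ?_
  obtain ⟨K, hK, hKA, hxK⟩ := exists_ft_mem (A.I p) x hx
  obtain ⟨C, hCA, hC, hKC⟩ := hQ A W p K hK hKA
  exact h C hC hCA W p _ (hKC _ hxK)

theorem isFinitePresentationMor_of_closed {i : X ⟶ Y} (h : RepWith (@IsClosedImmersion ⊓ @LocallyOfFinitePresentation) i) :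
    IsFinitePresentationMor i := by
  have hc : RepWith @IsClosedImmersion i := K597.repWith_mono (fun _ _ _ h => h.1) h
  have hm : Mono i := mono_of_repWith_isClosedImmersion hc
  refine ⟨?_, ?_, ?_⟩
  · refine K597.locP_of_repWith (fun A B C e f he hf => ?_) (K597.repWith_mono (fun _ _ _ h => h.2) h)
    have := he
    have := hf
    infer_instance
  · exact K596.QC.isQuasiCompactMor_of_repWith
      (K597.repWith_mono (fun _ _ f (hf : IsClosedImmersion f) => (inferInstance : QuasiCompact f)) hc)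
  · have h1 : IsIso (pullback.diagonal i) := inferInstance
    exact MorphismProperty.of_isIso (RepWith @QuasiCompact) (pullback.diagonal i)

/-- A closed subspace of a quasi-compact and quasi-separated algebraic space is the limit of a directed system of
closed subspaces of finite presentation. -/
theorem exists_limit [QuasiSeparatedSpace ↥S] (hY : IsAlgSpace Y) (f : X ⟶ Y)
    (hf : RepWith @IsClosedImmersion f) (hqc : IsQuasiCompactSp Y) (hqs : IsQuasiSeparatedSp Y) :
    ∃ (I : Type u) (_ : Preorder I) (_ : IsDirected I (fun a b => a ≤ b)) (_ : Nonempty I) (D : Iᵒᵖ ⥤ AlgSp.Sp S)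
      (t : D ⟶ (Functor.const Iᵒᵖ).obj Y) (c : Cone D) (_ : IsLimit c) (e : c.pt ≅ X),
      (∀ i, AlgSp.IsAlgSpace (D.obj i)) ∧ (∀ (i j : Iᵒᵖ) (φ : i ⟶ j), AlgSp.RepWith @IsClosedImmersion (D.map φ)) ∧
      (∀ i, RepWith (@IsClosedImmersion ⊓ @LocallyOfFinitePresentation) (t.app i)) ∧
      (∀ i, e.inv ≫ c.π.app i ≫ t.app i = f) := by
  have hQ : QC Y := qc_of_qcqs ⟨Y, hY⟩ hqc hqs
  obtain ⟨W, p, hW, hp, hp'⟩ := K609.QC.exists_affine_chart hqc
  have hch := ChartFam.single hp hp'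
  let A : Fam Y := ofClosed f hf
  let ι : Type u := {K : W.left.IdealSheafData // ∃ B : Fam Y, B ≤ A ∧ FT B ∧ B.I p = K}
  choose F hFA hFT hFI using fun K : ι => K.2
  have hFle : ∀ {B C : Fam Y}, B.I p ≤ C.I p → B ≤ C := fun h => hch.le_of_le fun _ => h
  have hmono : Monotone F := fun K L hKL => hFle (by rw [hFI, hFI]; exact hKL)
  let bot : Fam Y := ⟨fun _ => ⊥, fun φ g => by rw [Scheme.IdealSheafData.comap_bot]⟩
  have hbot : FT bot := by
    intro T g O
    exact ⟨∅, by simp [bot]⟩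
  have : Nonempty ι := ⟨⟨bot.I p, bot, fun _ _ => bot_le, hbot, rfl⟩⟩
  have : IsDirected ι (· ≤ ·) := ⟨fun K L => ⟨⟨(FamOps.sup (F K) (F L)).I p, FamOps.sup (F K) (F L),
      FamOps.sup_le (hFA K) (hFA L), (hFT K).sup (hFT L), rfl⟩, by
    change K.1 ≤ _
    rw [← hFI K]
    exact FamOps.le_sup_left _ _ _ _, by
    change L.1 ≤ _
    rw [← hFI L]
    exact FamOps.le_sup_right _ _ _ _⟩⟩
  obtain ⟨hlim⟩ := isLimit F hmono
  have hsup : ofClosed (K603.ClChain.sup F).ι (K603.ClChain.sup F).repWith_ι = ofClosed f hf := by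
    rw [ofClosed_ι]
    refine le_antisymm (Fam.sSup_le ?_) ?_
    · rintro _ ⟨K, rfl⟩
      exact hFA K
    · refine le_sup_of_chart hp hp' hQ _ _ fun C hC hCA => ?_
      have h1 : C ≤ F ⟨C.I p, C, hCA, hC, rfl⟩ := hFle (by rw [hFI])
      exact h1.trans (K603.ClChain.le_sup F _)
  obtain ⟨e, he1, he2⟩ := exists_iso_of_eq (K603.ClChain.sup F).repWith_ι hf hsup
  refine ⟨ι, inferInstance, inferInstance, inferInstance, diag F hmono,
    { app := fun i => (F i.unop).ι, naturality := fun i j φ => ?_ }, cone F hmono, hlim, e, ?_, ?_, ?_, ?_⟩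
  · change trans (hmono (leOfHom φ.unop)) ≫ (F j.unop).ι = (F i.unop).ι ≫ 𝟙 _
    rw [trans_ι, Category.comp_id]
  · exact fun i => (F i.unop).isAlgSpace_sheaf hY
  · exact fun i j φ => repWith_trans (hmono (leOfHom φ.unop))
  · exact fun i => repWith_ι_lfp (hFT i.unop)
  · intro i
    change e.inv ≫ trans (K603.ClChain.le_sup F i.unop) ≫ (F i.unop).ι = f
    rw [trans_ι, he2]

end K647.ClLim
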