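import Mathlib.RingTheory.Radical.Basic
import Groth.Agent.Divis.CartierBasic
import Groth.Agent.S1572
import Groth.Agent.S2821

/-!
# The reduced complement of a dense affine open in a regular scheme is an effective Cartier divisor
-/

set_option autoImplicit false
universe u

open CategoryTheory CategoryTheory.Limits AlgebraicGeometry TopologicalSpace

namespace K647.VanEff

open Groth.Agent.Divis.CartierBasic

/-- In a UFD the radical of a nonzero principal ideal is principal. -/
theorem radical_span {A : Type u} [CommRing A] [IsDomain A] [UniqueFactorizationMonoid A] (a : A) (ha : a ≠ 0) :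
    ∃ g : A, g ≠ 0 ∧ (Ideal.span {a}).radical = Ideal.span {g} := by
  classical
  let _ := UniqueFactorizationMonoid.normalizationMonoid (α := A)
  refine ⟨UniqueFactorizationMonoid.radical a, UniqueFactorizationMonoid.radical_ne_zero, ?_⟩
  ext b
  rw [Ideal.mem_span_singleton, ← UniqueFactorizationMonoid.exists_dvd_pow_iff_radical_dvd ha]
  simp only [Ideal.mem_radical_iff, Ideal.mem_span_singleton]

variable {X : Scheme.{u}}

theorem isEff_vanishingIdeal [IsLocallyNoetherian X] (D : X.IdealSheafData) (hD : BlowUp.IsEffCartierIdeal D)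
    (hufd : ∀ x ∈ D.support, IsDomain (X.presheaf.stalk x) ∧ UniqueFactorizationMonoid (X.presheaf.stalk x)) :
    BlowUp.IsEffCartierIdeal (Scheme.IdealSheafData.vanishingIdeal D.support) := by
  rw [Scheme.IdealSheafData.vanishingIdeal_support]
  refine isEffCartierIdeal_of_stalkIdeal _ fun x hx => ?_
  have hx' : x ∈ D.support := by simpa using hx
  obtain ⟨h1, h2⟩ := hufd x hx'
  obtain ⟨a, ha, haD⟩ := exists_stalkIdeal_eq_span hD x
  obtain ⟨g, hg, hg'⟩ := radical_span a (nonZeroDivisors.ne_zero ha)
  refine ⟨g, mem_nonZeroDivisors_of_ne_zero hg, ?_⟩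
  obtain ⟨U, hxU⟩ := exists_affine x
  let := X.presheaf.algebra_section_stalk (⟨x, hxU⟩ : U.1)
  have hloc : IsLocalization.AtPrime (X.presheaf.stalk x) (U.2.primeIdealOf ⟨x, hxU⟩).asIdeal :=
    U.2.isLocalization_stalk ⟨x, hxU⟩
  rw [stalkIdeal_eq _ U hxU] at haD ⊢
  rw [← hg', ← haD]
  exact IsLocalization.map_radical (U.2.primeIdealOf ⟨x, hxU⟩).asIdeal.primeCompl (X.presheaf.stalk x) (D.ideal U)

/-- complement of a dense affine open, reduced structure -/
theorem isEff_of_affine [IsNoetherian X] [X.IsSeparated] (hreg : ∀ x : X, IsRegularLocalRing (X.presheaf.stalk x))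
    (Z : Closeds X) (hZ : IsAffineOpen Z.compl) (hdense : Dense ((Z : Set X)ᶜ)) :
    BlowUp.IsEffCartierIdeal (Scheme.IdealSheafData.vanishingIdeal Z) := by
  have hufd : ∀ x : X, IsDomain (X.presheaf.stalk x) ∧ UniqueFactorizationMonoid (X.presheaf.stalk x) := fun x =>
    have := hreg x
    Groth.Agent.S2821.result _
  obtain ⟨D, hD, hDs⟩ := Groth.Agent.S1572.result X Z.compl hZ hdense (fun x _ => hufd x)
  have h : D.support = Z := by
    ext x
    have := Set.ext_iff.1 hDs x
    rw [SetLike.mem_coe] at this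
    rw [SetLike.mem_coe, this]
    change ¬ (¬ (x ∈ (Z : Set X))) ↔ x ∈ (Z : Set X)
    exact not_not
  rw [← h]
  exact isEff_vanishingIdeal D hD fun x _ => hufd x

end K647.VanEff
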