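import Groth.Prelude.Def_W4stk3spdivBlowUp
import Groth.Agent.AlgSp.K647.Idl
import Groth.Agent.AlgSp.K613.Unram
import Groth.Agent.Flat2C.BlowProper
import Groth.Agent.Sga5.H855.Geom

/-!
# Blow-ups of algebraic spaces: etale localisation and comparison with blow-ups of schemes

`invImage_idl`, `invImage_of_chart`: the inverse image of a closed subspace is effective Cartier iff the ideals
on the charts are.  `invImage_comp`: stability under representable etale morphisms.
`existsUnique_lift_yon`: for a blow-up of schemes `b₀ : B ⟶ V` in the ideal of `Z` on a test scheme `V`, the map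
`h_B ⟶ h_V` has the universal property among algebraic spaces.
`exists_isPullback`: for a representable etale `φ : h_V ⟶ X` the base change of a blow-up `X' ⟶ X` is `h_B ⟶ h_V`.
-/

set_option autoImplicit false
universe u

open CategoryTheory CategoryTheory.Limits AlgebraicGeometry Opposite

set_option backward.isDefEq.respectTransparency false

namespace K647.BlowUpSp

open AlgSp K647.Idl K613.Chart K613.Cover

variable {S : Scheme.{u}} {X X' Y Y' Z : Sp S} {i : Z ⟶ X}

/-- the inverse image is an effective Cartier divisor as soon as this holds for the ideal on one chart -/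
theorem invImage_of_chart (hi : RepWith @IsClosedImmersion i) {g : Y ⟶ X} {V : Over S} {φ : (yon S).obj V ⟶ Y}
    (h1 : RepWith @Etale φ) (h2 : RepWith @Surjective φ)
    (h3 : BlowUp.IsEffCartierIdeal (idl hi (φ ≫ g))) : InvImageIsEffCartier i g := by
  have sq := IsPullback.of_hasPullback i g
  refine ⟨_, _, _, sq, ?_⟩
  rw [isEffCartierSub_iff]
  have hi' : RepWith @IsClosedImmersion (pullback.snd i g) := repWith_snd sq hi
  refine ⟨hi', V, φ, h1, h2, ?_⟩
  rw [idl_of_isPullback hi sq hi']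
  exact h3

/-- the ideal on every etale chart is effective Cartier -/
theorem invImage_idl (hi : RepWith @IsClosedImmersion i) {g : Y ⟶ X} (h : InvImageIsEffCartier i g) {U : Over S}
    {ψ : (yon S).obj U ⟶ Y} (hψ : RepWith @Etale ψ) : BlowUp.IsEffCartierIdeal (idl hi (ψ ≫ g)) := by
  obtain ⟨P, fst, snd, sq, hE⟩ := h
  rw [← idl_of_isPullback hi sq hE.1 ψ]
  exact isEff_idl hE hψ

theorem invImage_comp (hi : RepWith @IsClosedImmersion i) {g : Y ⟶ X} (h : InvImageIsEffCartier i g)
    (hY' : IsAlgSpace Y') {e : Y' ⟶ Y} (he : RepWith @Etale e) : InvImageIsEffCartier i (e ≫ g) := by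
  obtain ⟨V, φ, hφ, hφ'⟩ := hY'.atlas
  refine invImage_of_chart hi hφ hφ' ?_
  rw [← Category.assoc]
  exact invImage_idl hi h (repWith_comp hφ he)

section Scheme

variable (hi : RepWith @IsClosedImmersion i) {V : Over S} (φ : (yon S).obj V ⟶ X)

include hi in
theorem invImage_yon {B : Over S} {b₀ : B ⟶ V} (hb : BlowUp.IsBlowUp b₀.left (idl hi φ)) :
    InvImageIsEffCartier i ((yon S).map b₀ ≫ φ) := by
  refine invImage_of_chart hi (φ := 𝟙 _) (repWith_id _ _) (repWith_id _ _) ?_
  rw [Category.id_comp, idl_comp]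
  exact hb.1

/-- lifting maps from schemes -/
theorem existsUnique_scheme {B : Over S} {b₀ : B ⟶ V} (hb : BlowUp.IsBlowUp b₀.left (idl hi φ)) {W : Over S}
    (g : W ⟶ V) (hg : BlowUp.IsEffCartierIdeal (idl hi ((yon S).map g ≫ φ))) : ∃! h : W ⟶ B, h ≫ b₀ = g := by
  rw [idl_comp] at hg
  obtain ⟨k, hk, hk'⟩ := hb.2 _ g.left hg
  have hk0 : k ≫ b₀.left = g.left := hk
  refine ⟨Over.homMk k (by rw [← Over.w b₀, ← Category.assoc, hk0, Over.w g]), ?_, fun l hl => ?_⟩
  · ext1
    exact hk
  · ext1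
    refine hk' _ ?_
    have hl' : l ≫ b₀ = g := hl
    change l.left ≫ b₀.left = g.left
    rw [← Over.comp_left, hl']

/-- lifting maps from algebraic spaces -/
theorem existsUnique_lift_yon {B : Over S} {b₀ : B ⟶ V} (hb : BlowUp.IsBlowUp b₀.left (idl hi φ))
    (hY : IsAlgSpace Y) (g : Y ⟶ (yon S).obj V) (hg : InvImageIsEffCartier i (g ≫ φ)) :
    ∃! h : Y ⟶ (yon S).obj B, h ≫ (yon S).map b₀ = g := by
  obtain ⟨W, w, hw, hw'⟩ := hY.atlas
  have hch : Ch w := ⟨hw, hw'⟩
  have hF := hch.fSurj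
  have := hF.epi
  obtain ⟨gW, hgW⟩ := (yon S).map_surjective (w ≫ g)
  have hW : BlowUp.IsEffCartierIdeal (idl hi ((yon S).map gW ≫ φ)) := by
    rw [hgW, Category.assoc]
    exact invImage_idl hi hg hw
  obtain ⟨k, hk, hk'⟩ := existsUnique_scheme hi φ hb gW hW
  -- `R = W ×_Y W`
  obtain ⟨R, p, q, sqR⟩ := exists_prod (a := w) (b := w) hw.1
  have hp : Etale p.left := hw.2 _ _ _ sqR.flip
  have hpq : p ≫ k = q ≫ k := by
    have h1 : p ≫ gW = q ≫ gW := (yon S).map_injective (by
      rw [Functor.map_comp, Functor.map_comp, hgW, ← Category.assoc, sqR.w, Category.assoc])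
    have h2 : BlowUp.IsEffCartierIdeal (idl hi ((yon S).map (p ≫ gW) ≫ φ)) := by
      have : (yon S).map (p ≫ gW) ≫ φ = (((yon S).map p ≫ w) ≫ (g ≫ φ)) := by
        rw [Functor.map_comp, hgW]; simp only [Category.assoc]
      rw [this]
      exact invImage_idl hi hg (repWith_etale_comp hw p)
    have hk0 : k ≫ b₀ = gW := hk
    refine (existsUnique_scheme hi φ hb (p ≫ gW) h2).unique ?_ ?_
    · rw [Category.assoc, hk0]
    · rw [Category.assoc, hk0, h1]
  obtain ⟨h, hh, hh'⟩ := hF.desc (F := (yon S).obj B) ((yon S).map k) (fun T u v huv => by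
    have e3 : (sqR.lift u v huv ≫ (yon S).map p) ≫ (yon S).map k = (sqR.lift u v huv ≫ (yon S).map q) ≫ (yon S).map k := by
      rw [Category.assoc, Category.assoc, ← Functor.map_comp, hpq, Functor.map_comp]
    rwa [sqR.lift_fst, sqR.lift_snd] at e3)
  have hk0 : k ≫ b₀ = gW := hk
  refine ⟨h, ?_, fun l hl => ?_⟩
  · change h ≫ (yon S).map b₀ = g
    rw [← cancel_epi w]
    have hh0 : w ≫ h = (yon S).map k := hh
    rw [← Category.assoc, hh0, ← Functor.map_comp, hk0, hgW]
  · have hl0 : l ≫ (yon S).map b₀ = g := hl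
    refine hh' l ?_
    change w ≫ l = (yon S).map k
    obtain ⟨lW, hlW⟩ := (yon S).map_surjective (w ≫ l)
    rw [← hlW]
    congr 1
    refine hk' lW ?_
    change lW ≫ b₀ = gW
    apply (yon S).map_injective
    rw [Functor.map_comp, hlW, hgW, Category.assoc, hl0]

/-- The base change of a blow-up along an etale chart is the blow-up of the scheme. -/
theorem exists_isPullback (hX : IsAlgSpace X) (hX' : IsAlgSpace X') {b : X' ⟶ X} (hb : IsBlowUpSp b i)
    (hφ : RepWith @Etale φ) {B : Over S} {b₀ : B ⟶ V} (hb₀ : BlowUp.IsBlowUp b₀.left (idl hi φ)) :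
    ∃ c : (yon S).obj B ⟶ X', IsPullback c ((yon S).map b₀) b φ := by
  have sq := IsPullback.of_hasPullback b φ
  have hP : IsAlgSpace (pullback b φ) := isAlgSpace_pullback hX' (IsAlgSpace.yon_obj V) hX b φ
  have het : RepWith @Etale (pullback.fst b φ) := repWith_fst sq hφ
  -- the map `P ⟶ h_B`
  have h1 : InvImageIsEffCartier i (pullback.snd b φ ≫ φ) := by
    rw [← pullback.condition]
    exact invImage_comp hi hb.1 hP het
  obtain ⟨s, hs, -⟩ := existsUnique_lift_yon hi φ hb₀ hP (pullback.snd b φ) h1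
  have hs0 : s ≫ (yon S).map b₀ = pullback.snd b φ := hs
  -- the map `h_B ⟶ X'`
  have h2 := invImage_yon hi φ hb₀
  obtain ⟨c, hc, -⟩ := hb.2 (IsAlgSpace.yon_obj B) _ h2
  have hc0 : c ≫ b = (yon S).map b₀ ≫ φ := hc
  let t : (yon S).obj B ⟶ pullback b φ := sq.lift c _ hc0
  have ht1 : t ≫ pullback.fst b φ = c := sq.lift_fst _ _ _
  have ht2 : t ≫ pullback.snd b φ = (yon S).map b₀ := sq.lift_snd _ _ _
  have e1 : s ≫ t = 𝟙 _ := by
    apply sq.hom_ext
    · refine (hb.2 hP (pullback.fst b φ ≫ b) (invImage_comp hi hb.1 hP het)).unique ?_ ?_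
      · have e0 : (s ≫ t) ≫ pullback.fst b φ = s ≫ c := by rw [Category.assoc, ht1]
        rw [e0, Category.assoc, hc0, ← Category.assoc, hs0, pullback.condition]
      · rw [Category.id_comp]
    · rw [Category.assoc, ht2, hs0, Category.id_comp]
  have e2 : t ≫ s = 𝟙 _ := by
    refine (existsUnique_lift_yon hi φ hb₀ (IsAlgSpace.yon_obj B) ((yon S).map b₀) h2).unique ?_ ?_
    · rw [Category.assoc, hs0, ht2]
    · rw [Category.id_comp]
  refine ⟨c, ?_⟩
  let e : pullback b φ ≅ (yon S).obj B := ⟨s, t, e1, e2⟩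
  refine IsPullback.of_iso sq e (Iso.refl _) (Iso.refl _) (Iso.refl _) ?_ ?_ ?_ ?_
  · change pullback.fst b φ ≫ 𝟙 _ = s ≫ c
    rw [Category.comp_id, ← ht1, ← Category.assoc, e1, Category.id_comp]
  · change pullback.snd b φ ≫ 𝟙 _ = s ≫ _
    rw [Category.comp_id, hs0]
  · simp
  · simp

end Scheme

end K647.BlowUpSp
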