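import Groth.Prelude.Def_AlgSp4
import Groth.Agent.AlgSp.K613.Unram
import Groth.Agent.AlgSp.K597.EtLoc
import Groth.Agent.AlgSp.K597.LocP
import Groth.Agent.AlgSp.K596.QC2
import Groth.Agent.AlgSp.K596.Univ
import Groth.Agent.AlgSp.K595.DescInst

/-!
# Proper morphisms: representable proper morphisms, descent along an etale cover of the target
-/

set_option autoImplicit false
universe u

open CategoryTheory CategoryTheory.Limits AlgebraicGeometry Opposite

set_option backward.isDefEq.respectTransparency false
set_option backward.isDefEq.respectTransparency.types false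

namespace K647.Proper

open AlgSp K613.Chart K613.Cover

variable {S : Scheme.{u}} {X Y P : Sp S}

/-- `h_g` is proper for `g` proper -/
theorem isProperMor_yon_map {U V : Over S} (g : U ⟶ V) [hg : IsProper g.left] : IsProperMor ((yon S).map g) := by
  have h1 : RepWith @QuasiCompact ((yon S).map g) := (repWith_yon_map_iff _ _).2 inferInstance
  have h2 : RepWith @UniversallyClosed ((yon S).map g) := (repWith_yon_map_iff _ _).2 inferInstance
  have h3 : RepWith @LocallyOfFiniteType ((yon S).map g) := (repWith_yon_map_iff _ _).2 inferInstance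
  refine ⟨(isSeparatedMor_yon_map_iff g).2 inferInstance, ⟨?_, K596.QC.isQuasiCompactMor_of_repWith h1⟩,
    (K596.Univ.repWith_universallyClosed_iff h2.1).1 h2⟩
  refine K597.locP_of_repWith (fun A B C e f he hf => ?_) h3
  exact MorphismProperty.comp_mem (@LocallyOfFiniteType) _ _ (inferInstance : LocallyOfFiniteType e) hf

/-- properness descends along an etale surjective representable base change from a scheme -/
theorem isProperMor_of_cover (hX : IsAlgSpace X) (hY : IsAlgSpace Y) {f : X ⟶ Y} {V : Over S}
    {p : (yon S).obj V ⟶ Y} (hp : RepWith @Etale p) (hps : RepWith @Surjective p)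
    {fst : P ⟶ X} {snd : P ⟶ (yon S).obj V} (sq : IsPullback fst snd f p) (h : IsProperMor snd) :
    IsProperMor f := by
  have hch : Ch p := ⟨hp, hps⟩
  have := K595.DescInst.isClosedImmersion.{u}
  have ho : RepWith @UniversallyOpen p := K596.Univ.repWith_universallyOpen_of_etale hp
  refine ⟨?_, ⟨?_, ?_⟩, K596.Univ.isUnivClosedMor_of_cover p ho hps sq h.2.2⟩
  · exact K613.Unram.repWith_diagonal_of_cover (K613.Diag.representable_diagonal hX.diag f) hch.fSurj sq h.1
  · exact K597.locP_of_target K597.etLoc_lft sq hX.hasAtlas (IsAlgSpace.yon_obj V).hasAtlas hp hps h.2.1.1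
  · exact K596.QC.isQuasiCompactMor_of_univOpen hX hY (IsAlgSpace.yon_obj V) sq
      ((K596.Univ.repWith_universallyOpen_iff ho.1).1 ho) (K596.Pts.surjective_of_repWith hps) h.2.1.2

end K647.Proper
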