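import Groth.Agent.AlgSp.K647.QcIdl
import Groth.Agent.AlgSp.K647.BlowUpSp
import Groth.Agent.AlgSp.K647.Proper
import Groth.Agent.Divis.BlowTwist
import Groth.Agent.Flat2C.BlowExist

/-!
# Composition of blow-ups of algebraic spaces
-/

set_option autoImplicit false
universe u

open CategoryTheory CategoryTheory.Limits AlgebraicGeometry Opposite TopologicalSpace

set_option backward.isDefEq.respectTransparency false

namespace K647.BlowComp

open AlgSp K598.ClFam K598.Charts K598.RepKit K647.Idl K647.FamOps K647.QcIdl K647.BlowUpSp BlowUp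
open Groth.Agent.Divis Groth.Agent.Divis.EffCartier Groth.Agent.Divis.IdealComap

section scheme

variable {X X' : Scheme.{u}} {𝓘 : X.IdealSheafData} {b : X' ⟶ X}

theorem support_mul_eq (hb : IsBlowUp b 𝓘) (J : X'.IdealSheafData) (K : X.IdealSheafData) (d : ℕ)
    (hK2 : K.comap b = (𝓘.comap b) ^ d * J) (x : X) :
    x ∈ (𝓘 * K).support ↔ x ∈ 𝓘.support ∨ ∃ x' ∈ J.support, b x' = x := by
  have hsupp : ∀ x' : X', b x' ∈ K.support ↔ x' ∈ ((𝓘.comap b) ^ d).support ∨ x' ∈ J.support := by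
    intro x'
    have h1 : x' ∈ (K.comap b).support ↔ b x' ∈ K.support := by
      rw [Scheme.IdealSheafData.support_comap]; rfl
    rw [← h1, hK2, Scheme.IdealSheafData.support_mul]
    exact Iff.rfl
  have hpow : ∀ x' : X', x' ∈ ((𝓘.comap b) ^ d).support → b x' ∈ 𝓘.support := by
    intro x' hx'
    have h1 : x' ∈ (𝓘.comap b).support ↔ b x' ∈ 𝓘.support := by
      rw [Scheme.IdealSheafData.support_comap]; rfl
    rw [← h1]
    rcases Nat.eq_zero_or_pos d with hd0 | hd0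
    · subst hd0
      rw [pow_zero, Scheme.IdealSheafData.one_eq_top, Scheme.IdealSheafData.support_top] at hx'
      exact absurd hx' (Set.notMem_empty x')
    · rwa [Scheme.IdealSheafData.support_pow _ _ hd0.ne'] at hx'
  have hs : x ∈ (𝓘 * K).support ↔ x ∈ 𝓘.support ∨ x ∈ K.support := by
    rw [Scheme.IdealSheafData.support_mul]
    exact Iff.rfl
  rw [hs]
  constructor
  · rintro (hx | hx)
    · exact Or.inl hx
    · by_cases hxI : x ∈ 𝓘.support
      · exact Or.inl hxI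
      · right
        have hiso := BlowUpFormal.isIso_morphismRestrict_compl_support hb 𝓘.support.compl disjoint_compl_left
        have hxU : x ∈ 𝓘.support.compl := hxI
        obtain ⟨x', hx'⟩ := (b ∣_ 𝓘.support.compl).surjective ⟨x, hxU⟩
        have hbx' : b x'.1 = x := by
          have := congrArg Subtype.val hx'
          simpa using this
        refine ⟨x'.1, ?_, hbx'⟩
        have h2 : b x'.1 ∈ K.support := by rw [hbx']; exact hx
        rcases (hsupp x'.1).mp h2 with h3 | h3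
        · exact absurd (hbx' ▸ hpow _ h3) hxI
        · exact h3
  · rintro (hx | ⟨x', hx', rfl⟩)
    · exact Or.inl hx
    · exact Or.inr ((hsupp x').mpr (Or.inr hx'))

end scheme

variable {S : Scheme.{u}} {X X' X'' Z Z' : Sp S}

/-- the ideal of the closed subspace of a family -/
theorem idl_ι (A : Fam X) {T : Over S} (g : (yon S).obj T ⟶ X) : idl A.repWith_ι g = A.I g := by
  have h1 : idl A.repWith_ι g = (ofClosed A.ι A.repWith_ι).I g := rfl
  rw [h1, ofClosed_ι]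

theorem exists_comp [QuasiSeparatedSpace ↥S] (hX : IsAlgSpace X) (hX' : IsAlgSpace X') (hX'' : IsAlgSpace X'')
    (hqc : IsQuasiCompactSp X) (hqs : IsQuasiSeparatedSp X)
    (i : Z ⟶ X) (hi : RepWith (@IsClosedImmersion ⊓ @LocallyOfFinitePresentation) i)
    (b : X' ⟶ X) (hb : IsBlowUpSp b i)
    (i' : Z' ⟶ X') (hi' : RepWith (@IsClosedImmersion ⊓ @LocallyOfFinitePresentation) i')
    (b' : X'' ⟶ X') (hb' : IsBlowUpSp b' i') :
    ∃ (Y : Sp S) (iY : Y ⟶ X), IsAlgSpace Y ∧ RepWith (@IsClosedImmersion ⊓ @LocallyOfFinitePresentation) iY ∧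
      Set.range (Points.map iY) = Set.range (Points.map i) ∪ Points.map b '' Set.range (Points.map i') ∧
      IsBlowUpSp (b' ≫ b) iY := by
  obtain ⟨V, φ, hV, hφ, hφ'⟩ := K609.QC.exists_affine_chart hqc
  have hi1 : RepWith @IsClosedImmersion i := repWith_mono (fun _ _ _ h => h.1) hi
  have hi1' : RepWith @IsClosedImmersion i' := repWith_mono (fun _ _ _ h => h.1) hi'
  have h𝓘 : IsFiniteTypeIdeal (idl hi1 φ) := ft_ofClosed hi hi1 φ
  obtain ⟨B, b₀, hb₀⟩ : ∃ (B : Over S) (b₀ : B ⟶ V), IsBlowUp b₀.left (idl hi1 φ) := by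
    obtain ⟨B, b₀, hb₀⟩ := Groth.Agent.Flat2C.BlowExist.exists_isBlowUp (idl hi1 φ)
    exact ⟨Over.mk (b₀ ≫ V.hom), Over.homMk b₀, hb₀⟩
  obtain ⟨c, sqc⟩ := exists_isPullback hi1 φ hX hX' hb hφ hb₀
  have hc : RepWith @Etale c := repWith_fst sqc hφ
  have hc' : RepWith @Surjective c := repWith_fst sqc hφ'
  have hqb₀ : QuasiCompact b₀.left := BlowTwist.quasiCompact_of_isBlowUp hb₀ h𝓘
  have hJ : IsFiniteTypeIdeal (idl hi1' c) := ft_ofClosed hi' hi1' c
  obtain ⟨d, hd⟩ := BlowTwist.exists_ideal_global hb₀ h𝓘 (idl hi1' c) hJ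
  obtain ⟨K, hK, hKe⟩ := hd d le_rfl
  set N := ((idl hi1 φ).comap b₀.left) ^ d * idl hi1' c with hNdef
  have hN : ∀ (T : Over S) (w : T ⟶ B), N.comap w.left =
      (idl hi1 (((yon S).map w ≫ c) ≫ b)) ^ d * idl hi1' ((yon S).map w ≫ c) := by
    intro T w
    rw [hNdef, comap_mul, comap_pow, ← Scheme.IdealSheafData.comap_comp, ← Over.comp_left, ← idl_comp, ← idl_comp,
      Category.assoc, sqc.w, Functor.map_comp, Category.assoc]
  -- the descent of the direct image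
  obtain ⟨R, p, q, sq⟩ := exists_prod (a := φ) (b := φ) hφ.1
  have hp : Etale p.left := hφ.2 _ _ _ sq.flip
  have hq : Etale q.left := hφ.2 _ _ _ sq
  have hM : (N.map b₀.left).comap p.left = (N.map b₀.left).comap q.left := by
    have sqp : IsPullback (pullback.fst b₀ p) (pullback.snd b₀ p) b₀ p := IsPullback.of_hasPullback _ _
    have sq1 := (yon_isPullback sqp).paste_horiz sqc
    rw [sq.w] at sq1
    obtain ⟨q', hq', sqq⟩ := exists_isPullback_of_comp sqc sq1
    rw [SatSch.map_comap_of_isPullback (forget_isPullback sqp), SatSch.map_comap_of_isPullback (forget_isPullback sqq),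
      hN, hN, hq']
  obtain ⟨𝓜, h𝓜⟩ := (ChartFam.single hφ hφ').exists_fam (fun _ => N.map b₀.left) (by
    intro _ _ T a b hab
    obtain ⟨e, he⟩ := (yon S).map_surjective (sq.lift _ _ hab)
    have h1 : e ≫ p = a := (yon S).map_injective (by rw [Functor.map_comp, he, IsPullback.lift_fst])
    have h2 : e ≫ q = b := (yon S).map_injective (by rw [Functor.map_comp, he, IsPullback.lift_snd])
    change (N.map b₀.left).comap a.left = (N.map b₀.left).comap b.left
    rw [← h1, ← h2, Over.comp_left, Over.comp_left, Scheme.IdealSheafData.comap_comp,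
      Scheme.IdealSheafData.comap_comp, hM])
  have h𝓜' : 𝓜.I φ = N.map b₀.left := h𝓜 PUnit.unit
  -- a finite type subfamily
  have hVc : CompactSpace V.left := inferInstance
  obtain ⟨𝓛, h𝓛𝓜, h𝓛, hK𝓛⟩ := qc_of_qcqs ⟨X, hX⟩ hqc hqs 𝓜 V φ K hK (by
    rw [h𝓜']
    exact Scheme.IdealSheafData.le_map_iff_comap_le.2 hKe.le)
  have h𝓛N : (𝓛.I φ).comap b₀.left = N := by
    apply le_antisymm
    · have h1 := h𝓛𝓜 V φ
      rw [h𝓜'] at h1
      exact Scheme.IdealSheafData.le_map_iff_comap_le.1 h1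
    · rw [← hKe]
      exact Scheme.IdealSheafData.comap_mono _ hK𝓛
  let 𝓟 := mul (ofClosed i hi1) 𝓛
  have h𝓟 : FT 𝓟 := (ft_ofClosed hi hi1).mul h𝓛
  have hY : ∀ {T : Over S} (g : (yon S).obj T ⟶ X), idl 𝓟.repWith_ι g = idl hi1 g * 𝓛.I g := fun g => idl_ι 𝓟 g
  have h𝓛w : ∀ (T : Over S) (w : T ⟶ B), 𝓛.I (((yon S).map w ≫ c) ≫ b) =
      (idl hi1 (((yon S).map w ≫ c) ≫ b)) ^ d * idl hi1' ((yon S).map w ≫ c) := by
    intro T w
    rw [← hN, ← h𝓛N, ← Scheme.IdealSheafData.comap_comp, ← Over.comp_left, ← 𝓛.comap, Functor.map_comp,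
      Category.assoc, Category.assoc, sqc.w]
  refine ⟨𝓟.sheaf, 𝓟.ι, 𝓟.isAlgSpace_sheaf hX, repWith_ι_lfp h𝓟, ?_, ?_, ?_⟩
  · -- supports
    ext x
    obtain ⟨v, rfl⟩ := Pts.exists_ofPt_of_surj hφ' x
    rw [← mem_support_idl_iff 𝓟.repWith_ι, hY, support_mul_eq hb₀ _ _ d h𝓛N, mem_support_idl_iff]
    refine or_congr Iff.rfl ⟨?_, ?_⟩
    · rintro ⟨β, hβ, rfl⟩
      refine ⟨Points.ofPt c β, (mem_support_idl_iff hi1' β).1 hβ, ?_⟩
      rw [Points.map_ofPt, sqc.w, Pts.ofPt_map]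
    · rintro ⟨x', hx', hxx'⟩
      obtain ⟨β, hβ1, hβ2⟩ := K610.Base.exists_of_isPullback_yon sqc x' v hxx'
      exact ⟨β, (mem_support_idl_iff hi1' β).2 (by rw [hβ1]; exact hx'), hβ2⟩
  · -- the inverse image is effective Cartier
    obtain ⟨B', b₀', hb₀'⟩ : ∃ (B' : Over S) (b₀' : B' ⟶ B), IsBlowUp b₀'.left (idl hi1' c) := by
      obtain ⟨B', b₀', hb₀'⟩ := Groth.Agent.Flat2C.BlowExist.exists_isBlowUp (idl hi1' c)
      exact ⟨Over.mk (b₀' ≫ B.hom), Over.homMk b₀', hb₀'⟩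
    obtain ⟨c', sqc'⟩ := exists_isPullback hi1' c hX' hX'' hb' hc hb₀'
    refine invImage_of_chart 𝓟.repWith_ι (φ := c') (repWith_fst sqc' hc) (repWith_fst sqc' hc') ?_
    have e1 : c' ≫ b' ≫ b = ((yon S).map b₀' ≫ c) ≫ b := by rw [← Category.assoc, sqc'.w]
    rw [e1, hY, h𝓛w]
    have h1 : IsEffCartierIdeal (idl hi1 (((yon S).map b₀' ≫ c) ≫ b)) := by
      have h2 := BlowUpFormal.isEff_comap_of_isBlowUp hb₀' hb₀.1
      rw [← Scheme.IdealSheafData.comap_comp, ← Over.comp_left, ← idl_comp, Functor.map_comp, Category.assoc,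
        ← sqc.w, ← Category.assoc] at h2
      exact h2
    have h3 : IsEffCartierIdeal (idl hi1' ((yon S).map b₀' ≫ c)) := by
      rw [idl_comp]
      exact hb₀'.1
    exact isEff_mul h1 (isEff_mul (isEff_pow h1 d) h3)
  · intro Y₀ hY₀ g hg
    -- the first lift
    obtain ⟨W, ψ, hψ, hψ'⟩ := hY₀.atlas
    have h1 : InvImageIsEffCartier i g := by
      refine invImage_of_chart hi1 hψ hψ' ?_
      have h2 := invImage_idl 𝓟.repWith_ι hg hψ
      rw [hY] at h2
      exact BlowUpFormal.isEff_of_mul h2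
    obtain ⟨h₁, hh₁, hu₁⟩ := hb.2 hY₀ g h1
    have hh₁0 : h₁ ≫ b = g := hh₁
    have h2 : InvImageIsEffCartier i' h₁ := by
      obtain ⟨W', r, w, sqw, hr, hr', hw⟩ := exists_chart_lift (f := h₁) (a := ψ) hc hc'
      refine invImage_of_chart hi1' (φ := (yon S).map r ≫ ψ) (repWith_etale_comp hψ r) (repWith_surj_comp hψ' r) ?_
      have h3 := invImage_idl 𝓟.repWith_ι hg (repWith_etale_comp hψ r)
      have e1 : ((yon S).map r ≫ ψ) ≫ g = ((yon S).map w ≫ c) ≫ b := by rw [← hw, ← hh₁0]; simp only [Category.assoc]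
      rw [e1, hY, h𝓛w] at h3
      rw [hw]
      exact BlowUpFormal.isEff_of_mul_right (BlowUpFormal.isEff_of_mul_right h3)
    obtain ⟨h₂, hh₂, hu₂⟩ := hb'.2 hY₀ h₁ h2
    have hh₂0 : h₂ ≫ b' = h₁ := hh₂
    refine ⟨h₂, ?_, fun l hl => ?_⟩
    · change h₂ ≫ b' ≫ b = g
      rw [← Category.assoc, hh₂0, hh₁0]
    · have hl0 : l ≫ b' ≫ b = g := hl
      exact hu₂ l (hu₁ (l ≫ b') (by change (l ≫ b') ≫ b = g; rw [Category.assoc, hl0]))

end K647.BlowComp
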