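import Groth.Agent.AlgSp.K647.EtExt
import Groth.Agent.AlgSp.K647.BlowComp
import Groth.Agent.AlgSp.K598.Red
import Groth.Agent.AlgSp.K598.Dens
import Groth.Agent.Flat2C.GlobFlat
import Groth.Agent.Flat2C.StrictTr

/-!
# Finite type ideals on algebraic spaces with prescribed support; extension from open subspaces

`exists_ft_support`: the complement of a quasi-compact open subspace of a qcqs space is the support of a family of
finite type ideals.  `exists_ft_extend_open`: families of finite type ideals extend from quasi-compact open subspaces,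
trivially on a second quasi-compact open subspace if they are trivial on the intersection.
-/

set_option autoImplicit false
universe u

open CategoryTheory CategoryTheory.Limits AlgebraicGeometry Opposite TopologicalSpace

set_option backward.isDefEq.respectTransparency false

namespace K647.OpenSupp

open AlgSp K598.ClFam K598.Charts K598.RepKit K598.Dens K647.Idl K647.FamOps K647.QcIdl K647.EtExt BlowUp
open K647.BlowComp

variable {S : Scheme.{u}} {X U W D : Sp S}

/-- points of the support of a family -/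
theorem mem_support_iff (A : Fam X) {T : Over S} (g : (yon S).obj T ⟶ X) (x : T.left) :
    x ∈ (A.I g).support ↔ Points.ofPt g x ∈ Set.range (Points.map A.ι) := by
  rw [← idl_ι]
  exact mem_support_idl_iff _ x

/-- the support of `A` is the complement of `u : U ⟶ X` -/
def SuppCompl (A : Fam X) (u : U ⟶ X) : Prop :=
  ∀ (T : Over S) (g : (yon S).obj T ⟶ X) (x : T.left),
    x ∈ (A.I g).support ↔ Points.ofPt g x ∉ Set.range (Points.map u)

theorem SuppCompl.of_chart {A : Fam X} {u : U ⟶ X} {V : Over S} {φ : (yon S).obj V ⟶ X}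
    (hφ' : RepWith @Surjective φ)
    (h : ∀ v : V.left, v ∈ (A.I φ).support ↔ Points.ofPt φ v ∉ Set.range (Points.map u)) : SuppCompl A u := by
  intro T g x
  obtain ⟨v, hv⟩ := Pts.exists_ofPt_of_surj hφ' (Points.ofPt g x)
  rw [mem_support_iff, ← hv, ← mem_support_iff, h]

theorem SuppCompl.eq_top {A : Fam X} {u : U ⟶ X} (h : SuppCompl A u) {T : Over S} (t : (yon S).obj T ⟶ U) :
    A.I (t ≫ u) = ⊤ := by
  have h1 : (A.I (t ≫ u)).support = ⊥ := by
    rw [eq_bot_iff]
    intro x hx
    refine absurd ?_ ((h T _ x).1 hx)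
    exact ⟨Points.ofPt t x, by rw [Points.map_ofPt]⟩
  exact (Scheme.IdealSheafData.support_eq_bot_iff _).1 h1

/-- the inverse image of a quasi-compact open subspace in a quasi-compact chart is quasi-compact -/
theorem isCompact_of_isPre [QuasiSeparatedSpace ↥S] (hqs : IsQuasiSeparatedSp X) {u : U ⟶ X}
    (hUc : IsQuasiCompactSp U) {V : Over S} [CompactSpace V.left] {φ : (yon S).obj V ⟶ X} {O : V.left.Opens}
    (hO : IsPre u φ O) : IsCompact (O : Set V.left) := by
  obtain ⟨fst, sq⟩ := hO
  obtain ⟨U₀, a, ha, ha', hU₀⟩ := hUc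
  obtain ⟨P₀, α, β, sq₀⟩ := exists_prod (a := a) (b := fst) ha.1
  have hβ : Surjective β.left := ha'.2 _ _ _ sq₀
  have sq₁ := sq₀.paste_vert sq
  rw [← Functor.map_comp] at sq₁
  have hU₀' : CompactSpace U₀.left := hU₀
  have hP₀ : CompactSpace P₀.left := K609.Sep.compactSpace_pullback hqs sq₁
  have h1 : CompactSpace (O : Scheme.{u}) :=
    ⟨by
      have h2 := isCompact_range β.left.continuous
      rw [Set.range_eq_univ.2 β.left.surjective] at h2
      exact h2⟩
  exact isCompact_iff_compactSpace.2 h1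

theorem exists_ft_support [QuasiSeparatedSpace ↥S] (hX : IsAlgSpace X) (hqc : IsQuasiCompactSp X)
    (hqs : IsQuasiSeparatedSp X) {u : U ⟶ X} (hu : RepWith @IsOpenImmersion u) (hUc : IsQuasiCompactSp U) :
    ∃ A : Fam X, FT A ∧ SuppCompl A u := by
  obtain ⟨V, φ, hV, hφ, hφ'⟩ := K609.QC.exists_affine_chart hqc
  obtain ⟨O, hO⟩ := exists_isPre hu φ
  have hOc := isCompact_of_isPre hqs hUc hO
  obtain ⟨I₀, hI₀, hI₀s⟩ := Groth.Agent.Flat2C.Glob.exists_ft_support_eq_compl O hOc
  have hcl : IsClosed (Set.range (Points.map u))ᶜ := by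
    rw [isClosed_compl_iff]
    have h1 : Points.ofPt φ '' (O : Set V.left) = Set.range (Points.map u) := by
      rw [← hO.preimage, Set.image_preimage_eq]
      exact fun x => Pts.exists_ofPt_of_surj hφ' x
    rw [← h1]
    exact K609.Points.isOpenMap_ofPt hφ _ O.2
  obtain ⟨Z, i, hZ, hi⟩ := K598.Red.exists_isRedInduced hX _ hcl
  have h1 : ∀ v : V.left, v ∈ ((ofClosed i hi.1).I φ).support ↔ v ∉ O := by
    intro v
    have h2 : v ∈ ((ofClosed i hi.1).I φ).support ↔ Points.ofPt φ v ∈ Set.range (Points.map i) :=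
      mem_support_idl_iff hi.1 v
    rw [h2, hi.2.1, hO.mem_iff]
    exact Iff.rfl
  have h2 : ∀ v : V.left, v ∈ I₀.support ↔ v ∉ O := by
    intro v
    rw [← SetLike.mem_coe, hI₀s]
    exact Iff.rfl
  obtain ⟨n, hn⟩ := exists_pow_le (I := (ofClosed i hi.1).I φ) hI₀ (fun v hv => (h2 v).2 ((h1 v).1 hv))
  obtain ⟨B, hB, hBft, hB'⟩ := qc_of_qcqs ⟨X, hX⟩ hqc hqs (ofClosed i hi.1) V φ (I₀ ^ n) (isFT_pow hI₀ n) hn
  refine ⟨B, hBft, SuppCompl.of_chart hφ' fun v => ?_⟩
  rw [← hO.mem_iff]
  constructor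
  · intro hv
    have h3 : v ∈ (I₀ ^ n).support := Scheme.IdealSheafData.support_antitone hB' hv
    rcases Nat.eq_zero_or_pos n with hn0 | hn0
    · rw [hn0, pow_zero, Scheme.IdealSheafData.one_eq_top, Scheme.IdealSheafData.support_top] at h3
      exact absurd h3 (Set.notMem_empty v)
    · rw [Scheme.IdealSheafData.support_pow _ _ hn0.ne'] at h3
      exact (h2 v).1 h3
  · intro hv
    exact Scheme.IdealSheafData.support_antitone (hB V φ) ((h1 v).2 hv)

/-- extension of families of finite type ideals from an open subspace -/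
theorem exists_ft_extend [QuasiSeparatedSpace ↥S] (hX : IsAlgSpace X) (hqc : IsQuasiCompactSp X)
    (hqs : IsQuasiSeparatedSp X) {w : W ⟶ X} (hw : RepWith @IsOpenImmersion w) (hWc : IsQuasiCompactSp W)
    {A : Fam W} (hA : FT A) : ∃ A' : Fam X, FT A' ∧ pull A' w = A := by
  have hwm : Mono w := mono_of_repWith_isOpenImmersion hw
  have hwe : RepWith @Etale w := repWith_mono (fun _ _ g hg => by
    have : IsOpenImmersion g := hg
    exact (inferInstance : Etale g)) hw
  obtain ⟨B, c, hB, hc, hc'⟩ := K609.QC.exists_affine_chart hWc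
  obtain ⟨A', hA', hA''⟩ := exists_ft_of_etale hX hqc hqs (c := c ≫ w) (repWith_comp hc hwe) (A.I c) (hA c) (by
    intro T a b hab
    have h1 : (yon S).map a ≫ c = (yon S).map b ≫ c := by
      rw [← cancel_mono w, Category.assoc, Category.assoc, hab]
    rw [← A.comap, ← A.comap, h1])
  refine ⟨A', hA', ?_⟩
  apply le_antisymm
  · refine (ChartFam.single hc hc').le_of_le fun _ => ?_
    rw [pull_I, hA'']
  · refine (ChartFam.single hc hc').le_of_le fun _ => ?_
    rw [pull_I, hA'']

/-- extension of families of finite type ideals from an open subspace, trivially on a second open subspace -/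
theorem exists_ft_extend_open [QuasiSeparatedSpace ↥S] (hX : IsAlgSpace X) (hqc : IsQuasiCompactSp X)
    (hqs : IsQuasiSeparatedSp X) {w : W ⟶ X} (hw : RepWith @IsOpenImmersion w) (hWc : IsQuasiCompactSp W)
    {d : D ⟶ X} (hd : RepWith @IsOpenImmersion d) (hDc : IsQuasiCompactSp D) {A : Fam W} (hA : FT A)
    (h : ∀ (T : Over S) (t : (yon S).obj T ⟶ W) (s : (yon S).obj T ⟶ D), t ≫ w = s ≫ d → A.I t = ⊤) :
    ∃ A' : Fam X, FT A' ∧ pull A' w = A ∧ ∀ (T : Over S) (s : (yon S).obj T ⟶ D), A'.I (s ≫ d) = ⊤ := by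
  obtain ⟨A₁, hA₁, hA₁w⟩ := exists_ft_extend hX hqc hqs hw hWc hA
  obtain ⟨J, hJ, hJs⟩ := exists_ft_support hX hqc hqs hd hDc
  obtain ⟨B, c, hB, hc, hc'⟩ := K609.QC.exists_affine_chart hWc
  obtain ⟨n, hn⟩ := exists_pow_le (I := A.I c) (hJ (c ≫ w)) (by
    intro x hx
    rw [hJs]
    intro hx'
    -- the point lies in `D`
    obtain ⟨O, hO⟩ := exists_isPre hd (c ≫ w)
    have hxO : x ∈ O := (hO.mem_iff x).2 hx'
    obtain ⟨fst, sq⟩ := hO
    have h1 := h _ ((yon S).map (K598.Charts.opnι B O) ≫ c) fst (by rw [Category.assoc, ← sq.w])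
    rw [A.comap] at h1
    have h2 : (⟨x, hxO⟩ : (O : Scheme.{u})) ∈ ((A.I c).comap (opnι B O).left).support := by
      rw [Scheme.IdealSheafData.support_comap]
      exact hx
    rw [h1, Scheme.IdealSheafData.support_top] at h2
    exact absurd h2 (Set.notMem_empty _))
  refine ⟨sup A₁ (pow J n), hA₁.sup (FT.pow hJ n), ?_, fun T s => ?_⟩
  · have key : (pull (sup A₁ (pow J n)) w).I c = A.I c := by
      have h1 : A₁.I (c ≫ w) = A.I c := by rw [← pull_I, hA₁w]
      rw [pull_I, sup_I, pow_I, h1]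
      exact sup_eq_left.2 hn
    apply le_antisymm
    · exact (ChartFam.single hc hc').le_of_le fun _ => key.le
    · exact (ChartFam.single hc hc').le_of_le fun _ => key.ge
  · rw [sup_I, pow_I, hJs.eq_top, ← Scheme.IdealSheafData.one_eq_top, one_pow, Scheme.IdealSheafData.one_eq_top]
    exact sup_top_eq _

end K647.OpenSupp
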