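import Groth.Agent.AlgSp.K647.FlatCen
import Groth.Agent.AlgSp.K647.OpenSupp
import Groth.Agent.AlgSp.K619.NagT3
import Groth.Agent.S10655

/-!
# Separated morphisms which are isomorphisms over a dense open become open immersions after an admissible blow-up

`exists_killed`: the closure of the complement of `V(E)` as a family of ideals.
`t3`: the statement `K619.NagT3.T3` (from the flattening centres of `FlatCen` and S10655).
`blEx`: the statement `K619.NagT3.BlEx`.
-/

set_option autoImplicit false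
universe u

open CategoryTheory CategoryTheory.Limits AlgebraicGeometry Opposite TopologicalSpace

set_option backward.isDefEq.respectTransparency false

namespace K647.T3

open AlgSp K598.ClFam K598.Charts K598.RepKit K647.Idl K647.FamOps K647.QcIdl K647.EtExt K647.StrFlat BlowUp
open K647.BlowUpSp K647.BlowComp K647.FlatCen K647.OpenSupp K619.NagKit K619.NagDom K619.NagBlow K619.NagT3
open Groth.Agent.Divis Groth.Agent.Divis.IdealComap Groth.Agent.Flat2C.StrictTr

variable {S : Scheme.{u}} {X P U Y : Sp S}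

/-- the closure of the complement of the support, on etale charts -/
theorem exists_killed (hP : IsAlgSpace P) {E : Fam P} (hE : FT E) : ∃ K : Fam P,
    ∀ (T : Over S) (w : (yon S).obj T ⟶ P), RepWith @Etale w → K.I w = killedIdeal (E.I w) := by
  obtain ⟨V, φ, hφ, hφ'⟩ := hP.atlas
  obtain ⟨R, p, q, sq⟩ := exists_prod (a := φ) (b := φ) hφ.1
  have hp : Etale p.left := hφ.2 _ _ _ sq.flip
  have hq : Etale q.left := hφ.2 _ _ _ sq
  obtain ⟨K, hK⟩ := (ChartFam.single hφ hφ').exists_fam (fun _ => killedIdeal (E.I φ)) (by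
    intro _ _ T a b hab
    obtain ⟨e, he⟩ := (yon S).map_surjective (sq.lift _ _ hab)
    have h1 : e ≫ p = a := (yon S).map_injective (by rw [Functor.map_comp, he, IsPullback.lift_fst])
    have h2 : e ≫ q = b := (yon S).map_injective (by rw [Functor.map_comp, he, IsPullback.lift_snd])
    change (killedIdeal (E.I φ)).comap a.left = (killedIdeal (E.I φ)).comap b.left
    rw [← h1, ← h2, Over.comp_left, Over.comp_left, Scheme.IdealSheafData.comap_comp,
      Scheme.IdealSheafData.comap_comp, comap_killedIdeal_of_flat (hE φ), comap_killedIdeal_of_flat (hE φ),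
      ← E.comap, ← E.comap, sq.w])
  have hK' : K.I φ = killedIdeal (E.I φ) := hK PUnit.unit
  refine ⟨K, fun T w hw => ?_⟩
  obtain ⟨T', a, c, sqT⟩ := exists_prod (a := φ) (b := w) hφ.1
  have ha : Etale a.left := hw.2 _ _ _ sqT.flip
  have hc : Etale c.left := hφ.2 _ _ _ sqT
  have hc' : Surjective c.left := hφ'.2 _ _ _ sqT
  have h3 : (K.I w).comap c.left = (killedIdeal (E.I w)).comap c.left := by
    rw [← K.comap, ← sqT.w, K.comap, hK', comap_killedIdeal_of_flat (hE φ), comap_killedIdeal_of_flat (hE w),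
      ← E.comap, ← E.comap, sqT.w]
  exact le_antisymm (ideal_le₁ c.left h3.le) (ideal_le₁ c.left h3.ge)

theorem killed_eq_bot (hP : IsAlgSpace P) {E : Fam P} (hE : FT E) {K : Fam P}
    (hK : ∀ (T : Over S) (w : (yon S).obj T ⟶ P), RepWith @Etale w → K.I w = killedIdeal (E.I w))
    {T : Over S} (g : (yon S).obj T ⟶ P) (hg : E.I g = ⊤) : K.I g = ⊥ := by
  obtain ⟨V, φ, hφ, hφ'⟩ := hP.atlas
  obtain ⟨T', a, c, sqT⟩ := exists_prod (a := φ) (b := g) hφ.1
  have hc : Etale c.left := hφ.2 _ _ _ sqT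
  have hc' : Surjective c.left := hφ'.2 _ _ _ sqT
  rw [eq_bot_iff]
  refine ideal_le₁ c.left ?_
  rw [Scheme.IdealSheafData.comap_bot, ← K.comap, ← sqT.w, K.comap, hK _ _ hφ]
  refine (comap_killedIdeal_le (hE φ) _).trans ?_
  rw [← E.comap, sqT.w, E.comap, hg, FlatCen.comap_eq_top (fun x => by
    rw [Scheme.IdealSheafData.support_top]; exact Set.notMem_empty _), killedIdeal_top]

theorem blEx [QuasiSeparatedSpace ↥S] : BlEx S := fun X A hX => by
  obtain ⟨X₁, b, h1, h2⟩ := K647.BlExist.exists_blowUp hX.alg A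
  exact ⟨X₁, b, h1, h2⟩

/-- the T3 property -/
theorem t3 [QuasiSeparatedSpace ↥S] : K619.NagT3.T3 S := by
  intro X U Y j f s hX hY hj hd hf sq
  have hU : Noe U := noe_of_open hj hX
  have hYN : Noe Y := Noe.of_sft hY hX hf
  obtain ⟨J₀, hJ₀, hJ₀s⟩ := exists_ft_support hX.alg hX.qc hX.qs hj hU.qc
  obtain ⟨Y', y₀, hY', hy₀, hy₀'⟩ := K609.QC.exists_affine_chart hYN.qc
  have hrep : Representable (y₀ ≫ f) := Functor.relativelyRepresentable.of_diag hX.alg.diag _
  have hy : RepWith @LocallyOfFiniteType (y₀ ≫ f) :=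
    K597.repWith_of_locP K597.etLoc_lft hX.alg.hasAtlas hrep (K597.locP_precomp hy₀ hf.ft.1)
  have hjm : Mono j := mono_of_repWith_isOpenImmersion hj
  -- the flattening centre
  obtain ⟨J, hJ, hJs, hJg⟩ := exists_center hX.alg hX.qc hX.qs hJ₀ hy (by
    intro T t ht R p q sqR
    obtain ⟨t', rfl⟩ : ∃ t', t' ≫ j = t := by
      rw [K610.Factor.factors_open_iff hj]
      rintro _ ⟨x, rfl⟩
      obtain ⟨v, rfl⟩ := Pts.exists_ofPt_of_surj (repWith_id _ T : RepWith @Surjective (𝟙 ((yon S).obj T))) x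
      rw [Points.map_ofPt, Category.id_comp]
      by_contra h
      exact ht v ((hJ₀s T t v).2 h)
    have e1 : (t' ≫ s) ≫ f = t' ≫ j := by rw [Category.assoc, sq.w, Category.id_comp]
    have sqR' : IsPullback ((yon S).map p) ((yon S).map q) y₀ (t' ≫ s) := by
      refine K615.Pt.isPullback_of_pt ?_ (fun T₁ a b h1 h2 => sqR.hom_ext h1 h2) fun T₁ a b h => ?_
      · have h1 : ((yon S).map p ≫ y₀) ≫ f = ((yon S).map q ≫ t') ≫ j := by
          rw [Category.assoc, sqR.w, Category.assoc]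
        have h2 : (yon S).map q ≫ t' ≫ s = sq.lift _ _ h1 ≫ s := by
          rw [← Category.assoc]
          congr 1
          have := sq.lift_snd _ _ h1
          rw [Category.comp_id] at this
          exact this.symm
        rw [h2, sq.lift_fst]
      · have h1 : a ≫ y₀ ≫ f = b ≫ t' ≫ j := by
          rw [← Category.assoc, h, Category.assoc, e1]
        exact ⟨sqR.lift a b h1, sqR.lift_fst _ _ _, sqR.lift_snd _ _ _⟩
    have h3 : Etale q.left := hy₀.2 _ _ _ sqR'
    exact ⟨inferInstance, inferInstance⟩)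
  have hJaw : Away J j := fun T t => by
    have h1 : SuppCompl J j := fun T g x => by rw [hJs, hJ₀s]
    exact h1.eq_top t
  have hJ₀aw : Away J₀ j := fun T t => hJ₀s.eq_top t
  obtain ⟨X₁, b, hb⟩ := blEx J hX
  obtain ⟨u', hu'⟩ := hb.lift hU.alg (cart_of_away hJaw)
  have hu'o : RepWith @IsOpenImmersion u' := hb.open_lift hX.alg hj hJaw hu'
  have hX₁ : Noe X₁ := hb.noe hX
  -- the fibre product and the closure
  have sqP := IsPullback.of_hasPullback b f
  have hP : IsAlgSpace (pullback b f) := K613.Chart.isAlgSpace_pullback hb.alg hY hX.alg b f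
  obtain ⟨E, hE⟩ : ∃ E, E = pull J₀ (pullback.fst b f ≫ b) := ⟨_, rfl⟩
  have hEft : FT E := by rw [hE]; exact hJ₀.pull _
  obtain ⟨K, hK⟩ := exists_killed hP hEft
  obtain ⟨k, hk⟩ : ∃ k : U ⟶ K.sheaf, k ≫ K.ι = sqP.lift u' s (by rw [hu', sq.w, Category.id_comp]) := by
    rw [K.factors_iff']
    intro T g
    refine killed_eq_bot hP hEft hK _ ?_
    rw [hE, pull_I]
    have e1 : (g ≫ sqP.lift u' s (by rw [hu', sq.w, Category.id_comp])) ≫ pullback.fst b f ≫ b = g ≫ j := by
      rw [Category.assoc, sqP.lift_fst_assoc, hu']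
    rw [e1]
    exact hJ₀aw T g
  have hk1 : k ≫ K.ι ≫ pullback.fst b f = u' := by rw [← Category.assoc, hk, sqP.lift_fst]
  have hk2 : k ≫ K.ι ≫ pullback.snd b f = s := by rw [← Category.assoc, hk, sqP.lift_snd]
  refine ⟨J, X₁, b, K.sheaf, K.ι ≫ pullback.fst b f, K.ι ≫ pullback.snd b f, k, hJaw, hb,
    CG.of_isPullback sqP K.repWith_ι rfl rfl, ?_, hk2⟩
  -- properties of the closure
  have hC : IsAlgSpace K.sheaf := K.isAlgSpace_sheaf hP
  have hsft : SFT (K.ι ≫ pullback.fst b f) :=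
    SFT.comp hC hP hb.alg (sft_of_closed K.repWith_ι hP) (SFT.bc hY hX.alg hb.alg sqP.flip hf)
  have hflat : LocP @Flat (K.ι ≫ pullback.fst b f) := by
    obtain ⟨V, v₀, hv₀, hv₀'⟩ := hb.alg.atlas
    obtain ⟨R, r₁, r₂, sqR⟩ := exists_prod (a := y₀ ≫ f) (b := v₀ ≫ b) hy.1
    obtain ⟨α, hα, hα', hα1, hα2⟩ := K597.exists_chart_bc' sqP.flip sqR hy₀ hy₀' hv₀ hv₀'
    obtain ⟨γ, sqγ⟩ := K.exists_isPullback α
    refine K597.locP_of_chart K597.etLoc_flat _ γ v₀
      ((Over.homMk (K.I α).subschemeι rfl : Over.mk ((K.I α).subschemeι ≫ R.hom) ⟶ R) ≫ r₂)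
      (repWith_fst sqγ hα) (repWith_fst sqγ hα') hv₀ ?_ ?_
    · rw [← Category.assoc, sqγ.w, Category.assoc, hα2, Functor.map_comp, Category.assoc]
    · change Flat ((K.I α).subschemeι ≫ r₂.left)
      have h1 : E.I α = (J₀.I (v₀ ≫ b)).comap r₂.left := by
        rw [hE, pull_I, ← Category.assoc, hα2, Category.assoc, J₀.comap]
      rw [hK _ _ hα, h1]
      exact (hJg V (v₀ ≫ b) (hb.cart v₀ hv₀) R r₁ r₂ sqR).1
  have hu'd : SDom u' := hb.sdom_lift hX hj hd hJaw hu'
  have hu'q : IsQuasiCompactMor u' := qcMor_of_noe hU hb.alg u' hX₁.qs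
  have hu's : IsSchDense u' := K598.Dens.isSchDense_of_isSchImage_id hb.alg hu'o hu'q ((sdom_iff hb.alg u').1 hu'd)
  have hu'm : Mono u' := mono_of_repWith_isOpenImmersion hu'o
  have sqk : IsPullback k (𝟙 U) (K.ι ≫ pullback.fst b f) u' := by
    refine K615.Pt.isPullback_of_pt (by rw [hk1, Category.id_comp]) (fun T a b _ h => by simpa using h)
      fun T x t hxt => ?_
    refine ⟨t, ?_, Category.comp_id _⟩
    rw [← cancel_mono K.ι, Category.assoc, hk]
    apply sqP.hom_ext
    · rw [Category.assoc, sqP.lift_fst, Category.assoc, hxt]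
    · rw [Category.assoc, sqP.lift_snd, Category.assoc]
      have h1 : (x ≫ K.ι ≫ pullback.snd b f) ≫ f = t ≫ j := by
        rw [Category.assoc, Category.assoc, ← pullback.condition, ← hu']
        simp only [← Category.assoc] at hxt ⊢
        rw [hxt]
      have h2 := sq.lift_fst _ _ h1
      have h3 := sq.lift_snd _ _ h1
      rw [Category.comp_id] at h3
      rw [← h2, h3]
  exact Groth.Agent.S10655.result (X := ⟨K.sheaf, hC⟩) (Y := ⟨X₁, hb.alg⟩) (V := ⟨U, hU.alg⟩)
    (ObjectProperty.homMk (K.ι ≫ pullback.fst b f)) (ObjectProperty.homMk u') hsft.sep hsft.ft.1 hflat hu'q hu's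
    ⟨U, hU.alg⟩ (ObjectProperty.homMk k) (ObjectProperty.homMk (𝟙 U)) sqk (inferInstanceAs (IsIso (𝟙 U)))

end K647.T3
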