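import Groth.Agent.AlgSp.K647.Idl
import Groth.Agent.Divis.CartierCompl
import Groth.Agent.S3844

/-!
# Complements of locally principal closed subspaces
-/

set_option autoImplicit false
universe u

open CategoryTheory CategoryTheory.Limits AlgebraicGeometry Opposite

set_option backward.isDefEq.respectTransparency false

namespace K647.Compl

open AlgSp K647.Idl K647.CartDesc Groth.Agent.Divis.CartierCompl

theorem isAffineHom_compl {X : Scheme.{u}} {I : X.IdealSheafData} (hI : Curv2.IsLocPrincipal I) :
    IsAffineHom (Scheme.Opens.ι (X := X) I.support.compl) := by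
  apply isAffineHom_of_forall_exists_isAffineOpen
  intro x
  obtain ⟨U, hxU, f, h⟩ := isLocPrincipal_iff.1 hI x
  refine ⟨U.1, hxU, U.2, ?_⟩
  rw [← (Scheme.Opens.ι (X := X) I.support.compl).isAffineOpen_iff_of_isOpenImmersion,
    image_preimage_eq, compl_support_inf_eq_basicOpen I U f h]
  exact U.2.basicOpen f

variable {S : Scheme.{u}} {F D G : Sp S} {i : D ⟶ F} {j : G ⟶ F}

/-- the represented complement has range the complement of the support -/
theorem range_eq (hi : RepWith @IsClosedImmersion i)
    (hU : Set.range (Points.map j) = (Set.range (Points.map i))ᶜ) {T W : Over S} {g : (yon S).obj T ⟶ F}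
    {fst : (yon S).obj W ⟶ G} {snd : W ⟶ T} (sq : IsPullback fst ((yon S).map snd) j g) :
    Set.range snd.left = ((idl hi g).support : Set T.left)ᶜ := by
  ext t
  rw [Pts.mem_range_iff sq, hU, Set.mem_compl_iff, Set.mem_compl_iff, SetLike.mem_coe,
    mem_support_idl_iff]

/-- the complement of a locally principal closed subspace is an affine morphism -/
theorem isAffineMor_compl (h : IsLocPrincipalSub i) (hj : RepWith @IsOpenImmersion j)
    (hU : Set.range (Points.map j) = (Set.range (Points.map i))ᶜ) : IsAffineMor j := by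
  intro Z hZ g
  obtain ⟨W, snd, fst, sq⟩ := hj.1 g
  have ho : IsOpenImmersion snd.left := hj.2 _ _ _ sq
  refine ⟨W, snd, fst, sq, ?_⟩
  have hr := range_eq h.1 hU sq
  have haff := isAffineHom_compl (isLocPrincipal_idl h g)
  have h1 : IsAffineOpen ((idl h.1 g).support.compl : Z.left.Opens) :=
    isAffine_of_isAffineHom (Scheme.Opens.ι (X := Z.left) (idl h.1 g).support.compl)
  have h4 : snd.left.opensRange = (idl h.1 g).support.compl := TopologicalSpace.Opens.ext hr
  rw [← h4] at h1
  have h5 : IsAffine (Scheme.Opens.toScheme snd.left.opensRange) := h1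
  exact .of_isIso snd.left.isoOpensRange.hom

/-- the complement of an effective Cartier divisor is schematically dense -/
theorem isSchematicallyDense_compl {X : Scheme.{u}} {I : X.IdealSheafData} (hI : BlowUp.IsEffCartierIdeal I) :
    CInt.IsSchematicallyDense (X := X) I.support.compl := by
  have := isSchemeTheoreticallyDominant_compl hI
  have : IsAffineHom (Scheme.Opens.ι (X := X) I.support.compl) :=
    Groth.Agent.Divis.CartierCompl.isAffineHom_compl hI
  exact Groth.Agent.S3844.isSchematicallyDense_of_isSchemeTheoreticallyDominant _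

/-- an open immersion seen in a chart as an open subscheme -/
theorem exists_isPullback_opens {V : Over S} (hj : RepWith @IsOpenImmersion j) (φ : (yon S).obj V ⟶ F)
    (W : V.left.Opens) (hW : (W : Set V.left) = {v | Points.ofPt φ v ∈ Set.range (Points.map j)}) :
    ∃ fst : (yon S).obj (Over.mk (W.ι ≫ V.hom)) ⟶ G,
      IsPullback fst ((yon S).map (Over.homMk W.ι rfl : Over.mk (W.ι ≫ V.hom) ⟶ V)) j φ := by
  obtain ⟨W', snd, fst, sq⟩ := hj.1 φ
  have ho : IsOpenImmersion snd.left := hj.2 _ _ _ sq
  have hr : Set.range snd.left = Set.range W.ι := by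
    rw [Scheme.Opens.range_ι, hW]
    ext t
    rw [Pts.mem_range_iff sq]
    rfl
  let e : W'.left ≅ W.toScheme := IsOpenImmersion.isoOfRangeEq snd.left W.ι hr
  have he : e.hom ≫ W.ι = snd.left := IsOpenImmersion.isoOfRangeEq_hom_fac _ _ _
  let e' : W' ≅ Over.mk (W.ι ≫ V.hom) := Over.isoMk e (by
    dsimp
    rw [← Category.assoc, he, Over.w])
  refine ⟨(yon S).map e'.inv ≫ fst, ?_⟩
  refine IsPullback.of_iso sq ((yon S).mapIso e') (Iso.refl _) (Iso.refl _) (Iso.refl _) ?_ ?_ ?_ ?_
  · simp
  · simp only [Functor.mapIso_hom, Iso.refl_hom, Category.comp_id, ← Functor.map_comp]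
    congr 1
    ext1
    exact he.symm
  · simp
  · simp

theorem isSchDense_compl (h : IsEffCartierSub i) (hj : RepWith @IsOpenImmersion j)
    (hU : Set.range (Points.map j) = (Set.range (Points.map i))ᶜ) : IsSchDense j := by
  obtain ⟨hi, V, φ, h1, h2, hI⟩ := isEffCartierSub_iff.1 h
  refine ⟨hj, V, φ, ((idl hi φ).support.compl : V.left.Opens), ?_⟩
  obtain ⟨fst, sq⟩ := exists_isPullback_opens hj φ ((idl hi φ).support.compl : V.left.Opens) (by
    ext t
    change t ∉ (idl hi φ).support ↔ _
    rw [mem_support_idl_iff, hU]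
    rfl)
  exact ⟨fst, h1, h2, sq, isSchematicallyDense_compl hI⟩

end K647.Compl
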