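import Groth.Agent.AlgSp.K647.FibChart
import Groth.Agent.Etcore.SmoothRed
import Groth.Agent.FlatB.GeomRed
import Groth.Agent.Flat2F.LocNoeth

/-!
# Etale local properties of schemes on charts; reduced and locally Noetherian spaces
-/

set_option autoImplicit false
universe u

open CategoryTheory CategoryTheory.Limits AlgebraicGeometry Opposite

set_option backward.isDefEq.respectTransparency false

namespace K647.EtLoc

open AlgSp K647.Idl

variable {S : Scheme.{u}} {F : Sp S}

/-- A property stable under etale maps and descending along etale surjections holds on every etale chart as soon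
as it holds on one etale surjective chart. -/
theorem all_charts {P : Scheme.{u} → Prop} (h1 : ∀ {X Y : Scheme.{u}} (f : X ⟶ Y) [Etale f], P Y → P X)
    (h2 : ∀ {X Y : Scheme.{u}} (f : X ⟶ Y) [Etale f] [Surjective f], P X → P Y) (h : EtaleLocally P F)
    {U : Over S} {a : (yon S).obj U ⟶ F} (ha : RepWith @Etale a) : P U.left := by
  obtain ⟨V, φ, hφ, hφ', hV⟩ := h
  obtain ⟨W, p, q, sq⟩ := exists_prod (a := φ) (b := a) hφ.1
  have hq : Etale q.left := hφ.2 _ _ _ sq
  have hq' : Surjective q.left := hφ'.2 _ _ _ sq
  have hp : Etale p.left := ha.2 _ _ _ sq.flip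
  exact h2 q.left (h1 p.left hV)

theorem isReduced_chart (h : IsReducedSp F) {U : Over S} {a : (yon S).obj U ⟶ F} (ha : RepWith @Etale a) :
    IsReduced U.left :=
  all_charts (P := fun U => IsReduced U) (fun f _ _ => Groth.Agent.Etcore.SmoothRed.isReduced_of_smooth f)
    (fun f _ _ _ => Groth.Agent.FlatB.GeomRed.isReduced_of_flat_of_surjective f) h ha

theorem isLocallyNoetherian_chart (h : IsLocNoethSp F) {U : Over S} {a : (yon S).obj U ⟶ F}
    (ha : RepWith @Etale a) : IsLocallyNoetherian U.left :=
  all_charts (P := fun U => IsLocallyNoetherian U) (fun f _ _ => LocallyOfFiniteType.isLocallyNoetherian f)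
    (fun f _ _ _ => Groth.Agent.Flat2F.LocNoeth.isLocallyNoetherian_of_flat_surjective_universallyOpen f) h ha

end K647.EtLoc
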