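import Groth.Agent.AlgSp.K647.SmoothSat
import Groth.Agent.Divis.CartierBasic
import Groth.Agent.Divis.EffCartier
import Groth.Agent.Divis.IdealComap
import Groth.Agent.Divis.IdealFT
import Groth.Agent.AlgSp.K597.FlatKer
import Mathlib.AlgebraicGeometry.Morphisms.Smooth

/-!
# Extending effective Cartier divisors from the generic fibre of a smooth scheme over a valuation ring

`map_comap_of_isPullback`: `(I.map f).comap g = (I.comap g').map f'` for `f` quasi-compact and `g` flat.
`isEff_map`: for `f : U ⟶ Spec R` smooth and `j : U_K ⟶ U` the generic fibre, `I.map j` is effective Cartier if `I` is.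
-/

set_option autoImplicit false
universe u

open CategoryTheory CategoryTheory.Limits AlgebraicGeometry

namespace K647.SatSch

open Groth.Agent.Divis

theorem gen_transfer {A S S' : Type u} [CommRing A] [CommRing S] [CommRing S'] [Algebra A S] [Algebra A S']
    (M : Submonoid A) [IsLocalization M S] [IsLocalization M S'] (J : Ideal A)
    (h : ∃ g ∈ nonZeroDivisors S, J.map (algebraMap A S) = Ideal.span {g}) :
    ∃ g ∈ nonZeroDivisors S', J.map (algebraMap A S') = Ideal.span {g} := by
  obtain ⟨g, hg, h⟩ := h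
  let e := IsLocalization.algEquiv M S S'
  refine ⟨e g, ?_, ?_⟩
  · rw [mem_nonZeroDivisors_iff_right] at hg ⊢
    intro x hx
    have : e.symm x * g = 0 := by
      apply e.injective
      rw [map_mul, AlgEquiv.apply_symm_apply, hx, map_zero]
    have := hg _ this
    rw [← e.apply_symm_apply x, this, map_zero]
  · have h1 : algebraMap A S' = (e : S →+* S').comp (algebraMap A S) := by
      ext a
      exact (e.commutes a).symm
    rw [h1, ← Ideal.map_map, h, Ideal.map_span, Set.image_singleton]
    rfl

theorem hgen_of_isLocalization {R A B : Type u} [CommRing R] [IsDomain R] [CommRing A] [CommRing B] [Algebra R A]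
    [Algebra A B] [IsLocalization (Algebra.algebraMapSubmonoid A (nonZeroDivisors R)) B] (JB : Ideal B)
    (h : ∀ (N : Ideal B) [N.IsPrime], ∃ g ∈ nonZeroDivisors (Localization.AtPrime N),
      JB.map (algebraMap B (Localization.AtPrime N)) = Ideal.span {g})
    (n : Ideal A) [hnp : n.IsPrime] (hn : n.comap (algebraMap R A) = ⊥) :
    ∃ g ∈ nonZeroDivisors (Localization.AtPrime n),
      (JB.comap (algebraMap A B)).map (algebraMap A (Localization.AtPrime n)) = Ideal.span {g} := by
  let M := Algebra.algebraMapSubmonoid A (nonZeroDivisors R)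
  have hdis : Disjoint (M : Set A) (n : Set A) := by
    rw [Set.disjoint_left]
    rintro _ ⟨r, hr, rfl⟩ h
    have h1 : r ∈ n.comap (algebraMap R A) := h
    rw [hn] at h1
    exact nonZeroDivisors.ne_zero hr h1
  let N := n.map (algebraMap A B)
  have hN : N.IsPrime := IsLocalization.isPrime_of_isPrime_disjoint M B n hnp hdis
  have hNn : N.comap (algebraMap A B) = n := IsLocalization.under_map_of_isPrime_disjoint M B hnp hdis
  have h1 : IsLocalization.AtPrime (Localization.AtPrime N) (N.comap (algebraMap A B)) :=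
    IsLocalization.isLocalization_isLocalization_atPrime_isLocalization M (Localization.AtPrime N) N
  have h2 : IsLocalization n.primeCompl (Localization.AtPrime N) := by
    convert h1
    exact hNn.symm
  refine gen_transfer n.primeCompl (S := Localization.AtPrime N) _ ?_
  obtain ⟨g, hg, hgJ⟩ := h N
  refine ⟨g, hg, ?_⟩
  rw [IsScalarTower.algebraMap_eq A B (Localization.AtPrime N), ← Ideal.map_map, IsLocalization.map_comap M B]
  exact hgJ

theorem comap_id {X : Scheme.{u}} (I : X.IdealSheafData) : I.comap (𝟙 X) = I :=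
  Scheme.IdealSheafData.comap_id I

theorem map_comap_of_isPullback {X Y X' Y' : Scheme.{u}} {g' : X' ⟶ X} {f' : X' ⟶ Y'} {f : X ⟶ Y} {g : Y' ⟶ Y}
    (sq : IsPullback g' f' f g) [QuasiCompact f] [Flat g] (I : X.IdealSheafData) :
    (I.map f).comap g = (I.comap g').map f' := by
  have s1 := (IsPullback.of_hasPullback I.subschemeι g')
  have s2 := s1.paste_vert sq
  have h := K597.FlatKer.ker_of_isPullback_flat s2
  have h1 : (pullback.snd I.subschemeι g').ker = I.comap g' := by
    rw [← Scheme.IdealSheafData.ker_subschemeι I, ← Scheme.IdealSheafData.ker_fst_of_isClosedImmersion,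
      ← pullbackSymmetry_hom_comp_snd, Scheme.Hom.ker_comp_of_isIso]
    rw [Scheme.IdealSheafData.ker_subschemeι I]
  rw [Scheme.Hom.ker_comp, Scheme.Hom.ker_comp, h1, Scheme.IdealSheafData.ker_subschemeι] at h
  exact h.symm

theorem map_comap_self {X Y : Scheme.{u}} (j : X ⟶ Y) [Mono j] [QuasiCompact j] [Flat j] (I : X.IdealSheafData) :
    (I.map j).comap j = I := by
  have sq : IsPullback (𝟙 X) (𝟙 X) j j := IsKernelPair.id_of_mono j
  rw [map_comap_of_isPullback sq I, Scheme.IdealSheafData.comap_id, Scheme.IdealSheafData.map_id]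

/-- the local generators of an effective Cartier ideal of an affine scheme at the primes of the ring -/
theorem exists_gen_prime {X : Scheme.{u}} (U : X.affineOpens) (I : X.IdealSheafData)
    (hI : BlowUp.IsEffCartierIdeal I) (N : Ideal Γ(X, U.1)) [hN : N.IsPrime] :
    ∃ g ∈ nonZeroDivisors (Localization.AtPrime N),
      (I.ideal U).map (algebraMap Γ(X, U.1) (Localization.AtPrime N)) = Ideal.span {g} := by
  let y : PrimeSpectrum Γ(X, U.1) := ⟨N, hN⟩
  have hy : U.2.fromSpec y ∈ U.1 := by
    have := Set.mem_range_self (f := U.2.fromSpec) y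
    rwa [U.2.range_fromSpec] at this
  let := X.presheaf.algebra_section_stalk (⟨U.2.fromSpec y, hy⟩ : U.1)
  have h1 : IsLocalization y.asIdeal.primeCompl (X.presheaf.stalk (U.2.fromSpec y)) := U.2.isLocalization_stalk' y hy
  refine gen_transfer y.asIdeal.primeCompl (S := X.presheaf.stalk (U.2.fromSpec y)) _ ?_
  obtain ⟨g, hg, h⟩ := CartierBasic.exists_stalkIdeal_eq_span hI (U.2.fromSpec y)
  refine ⟨g, hg, ?_⟩
  rw [← h, CartierBasic.stalkIdeal_eq I U hy]
  rfl

/-- generators on neighbourhoods from `exists_spread` -/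
theorem exists_generator_of_spread {X : Scheme.{u}} (U : X.affineOpens) (I : X.IdealSheafData) (x : X) (hx : x ∈ U.1)
    (h : ∃ t : Γ(X, U.1), t ∉ (U.2.primeIdealOf ⟨x, hx⟩).asIdeal ∧
      ∃ f ∈ I.ideal U, (∀ a ∈ I.ideal U, ∃ b, t * a = b * f) ∧ ∀ a, a * f = 0 → t * a = 0) :
    ∃ V : X.affineOpens, x ∈ V.1 ∧
      ∃ f : Γ(X, V.1), f ∈ nonZeroDivisors Γ(X, V.1) ∧ I.ideal V = Ideal.span {f} := by
  obtain ⟨t, ht, f, hf, h1, h2⟩ := h
  let := X.presheaf.algebra_section_stalk (⟨x, hx⟩ : U.1)
  have hloc : IsLocalization.AtPrime (X.presheaf.stalk x) (U.2.primeIdealOf ⟨x, hx⟩).asIdeal :=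
    U.2.isLocalization_stalk ⟨x, hx⟩
  have : IsLocalization.Away t Γ(X, X.basicOpen t) := U.2.isLocalization_basicOpen t
  obtain ⟨h3, h4⟩ := CartierAlg.away_generator (I.ideal U) t f hf h1 h2 Γ(X, X.basicOpen t)
  refine ⟨X.affineBasicOpen t, ?_, _, h3, ?_⟩
  · rw [Scheme.affineBasicOpen_coe, Scheme.mem_basicOpen _ _ _ hx]
    exact IsLocalization.map_units (X.presheaf.stalk x)
      (⟨t, ht⟩ : (U.2.primeIdealOf ⟨x, hx⟩).asIdeal.primeCompl)
  · rw [CartierBasic.ideal_basicOpen, h4]
    rfl

section Affine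

variable {R K : Type u} [CommRing R] [IsDomain R] [ValuationRing R] [Field K] [Algebra R K] [IsFractionRing R K]

/-- the affine case -/
theorem isEff_map_affine {U UK : Scheme.{u}} [IsAffine U] (f : U ⟶ Spec (CommRingCat.of R)) [hf : Smooth f]
    (j : UK ⟶ U) (g : UK ⟶ Spec (CommRingCat.of K))
    (sq : IsPullback j g f (Spec.map (CommRingCat.ofHom (algebraMap R K)))) (I : UK.IdealSheafData)
    (hI : BlowUp.IsEffCartierIdeal I) : BlowUp.IsEffCartierIdeal (I.map j) := by
  have hUK : IsAffine UK := .of_isPullback sq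
  let A := Γ(U, ⊤)
  let B := Γ(UK, ⊤)
  letI algRA : Algebra R A := ((Scheme.ΓSpecIso (.of R)).inv ≫ f.appTop).hom.toAlgebra
  letI algAB : Algebra A B := j.appTop.hom.toAlgebra
  letI algKB : Algebra K B := ((Scheme.ΓSpecIso (.of K)).inv ≫ g.appTop).hom.toAlgebra
  letI algRB : Algebra R B := ((algebraMap A B).comp (algebraMap R A)).toAlgebra
  have st1 : IsScalarTower R A B := IsScalarTower.of_algebraMap_eq fun _ => rfl
  have hpo := isPushout_appTop_of_isPullback sq
  have hpo' : IsPushout ((Scheme.ΓSpecIso (.of R)).inv ≫ f.appTop) (CommRingCat.ofHom (algebraMap R K)) j.appTop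
      ((Scheme.ΓSpecIso (.of K)).inv ≫ g.appTop) := by
    refine IsPushout.of_iso hpo.flip.flip (Scheme.ΓSpecIso (.of R)) (Iso.refl _) (Scheme.ΓSpecIso (.of K))
      (Iso.refl _) ?_ ?_ ?_ ?_
    · simp
    · exact Scheme.ΓSpecIso_naturality _
    · simp
    · simp
  have st2 : IsScalarTower R K B := IsScalarTower.of_algebraMap_eq fun r => by
    have := congr($(hpo'.w).hom r)
    exact this
  have hpo2 : Algebra.IsPushout R A K B := CommRingCat.isPushout_iff_isPushout.1 hpo'
  have hloc : IsLocalization (Algebra.algebraMapSubmonoid A (nonZeroDivisors R)) B :=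
    (Algebra.isLocalization_iff_isPushout (nonZeroDivisors R) K).2 hpo2
  have hsm : Algebra.Smooth R A := by
    have h1 : f.appTop.hom.Smooth := HasRingHomProperty.iff_of_isAffine.1 hf
    have h2 : ((Scheme.ΓSpecIso (.of R)).inv ≫ f.appTop).hom.Smooth := by
      rw [CommRingCat.hom_comp]
      exact RingHom.Smooth.respectsIso.2 _ (Scheme.ΓSpecIso (.of R)).symm.commRingCatIsoToRingEquiv h1
    exact h2
  let UA : U.affineOpens := ⟨⊤, isAffineOpen_top U⟩
  let UB : UK.affineOpens := ⟨⊤, isAffineOpen_top UK⟩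
  have hJ : (I.map j).ideal UA = (I.ideal UB).comap (algebraMap A B) := by
    ext s
    rw [IdealFT.mem_ideal_map_iff]
    constructor
    · intro h
      have h1 := h UB le_rfl
      rw [Ideal.mem_comap]
      change j.appTop.hom s ∈ _
      rw [Scheme.Hom.appTop, Scheme.Hom.app_eq_appLE]
      exact h1
    · intro h V e
      have hle : V ≤ UB := fun _ _ => trivial
      rw [← I.map_ideal hle]
      have h1 : (j.appLE UA V e).hom s = (UK.presheaf.map (homOfLE hle).op).hom (j.appTop.hom s) := by
        rw [Scheme.Hom.appLE]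
        rfl
      rw [h1]
      exact Ideal.mem_map_of_mem _ h
  have hsat : ∀ (r : R) (a : A), r ≠ 0 → algebraMap R A r * a ∈ (I.map j).ideal UA → a ∈ (I.map j).ideal UA := by
    intro r a hr h
    rw [hJ, Ideal.mem_comap] at h ⊢
    rw [map_mul, ← IsScalarTower.algebraMap_apply R A B, IsScalarTower.algebraMap_apply R K B] at h
    have hu : IsUnit (algebraMap K B (algebraMap R K r)) := by
      apply IsUnit.map
      rw [isUnit_iff_ne_zero]
      exact (map_ne_zero_iff _ (IsFractionRing.injective R K)).2 hr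
    exact (Ideal.unit_mul_mem_iff_mem _ hu).1 h
  have hgen : ∀ (n : Ideal A) [n.IsPrime], n.comap (algebraMap R A) = ⊥ →
      ∃ g ∈ nonZeroDivisors (Localization.AtPrime n),
        ((I.map j).ideal UA).map (algebraMap A (Localization.AtPrime n)) = Ideal.span {g} := by
    intro n _ hn
    rw [hJ]
    exact hgen_of_isLocalization (R := R) (I.ideal UB) (fun N _ => exists_gen_prime UB I hI N) n hn
  intro x
  exact exists_generator_of_spread UA (I.map j) x trivial
    (SmoothSat.exists_spread (R := R) ((I.map j).ideal UA) hsat hgen _)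

/-- The direct image of an effective Cartier ideal of the generic fibre of a smooth scheme over a valuation ring
is effective Cartier. -/
theorem isEff_map {U UK : Scheme.{u}} (f : U ⟶ Spec (CommRingCat.of R)) [hf : Smooth f]
    (j : UK ⟶ U) (g : UK ⟶ Spec (CommRingCat.of K))
    (sq : IsPullback j g f (Spec.map (CommRingCat.ofHom (algebraMap R K)))) (I : UK.IdealSheafData)
    (hI : BlowUp.IsEffCartierIdeal I) : BlowUp.IsEffCartierIdeal (I.map j) := by
  have hj : IsAffineHom j := MorphismProperty.of_isPullback sq.flip inferInstance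
  refine EffCartier.isEff_of_forall_comap fun x => ?_
  obtain ⟨O, hO, hvO, -⟩ := exists_isAffineOpen_mem_and_subset (U := (⊤ : U.Opens)) (x := x) trivial
  have haff : IsAffine (Scheme.Opens.toScheme O) := hO
  refine ⟨Scheme.Opens.toScheme O, Scheme.Opens.ι O, inferInstance, ⟨(⟨x, hvO⟩ : Scheme.Opens.toScheme O), rfl⟩, ?_⟩
  have s1 := IsPullback.of_hasPullback j (Scheme.Opens.ι O)
  rw [map_comap_of_isPullback s1]
  exact isEff_map_affine (Scheme.Opens.ι O ≫ f) _ (pullback.fst j (Scheme.Opens.ι O) ≫ g) (s1.paste_horiz sq.flip).flip _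
    (EffCartier.isEff_comap_flat hI _)

end Affine

end K647.SatSch
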