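import Groth.Agent.AlgSp.K598.Charts
import Groth.Agent.AlgSp.K647.SatSch
import Groth.Agent.Flat2C.Admissible
import Groth.Agent.FlatA.ClosedFP
import Groth.Agent.Sga5.H855.Geom
import Mathlib.AlgebraicGeometry.Morphisms.LocalFlatDescent

/-!
# Finite type ideals: descent, extension; operations on families of ideals on a space

Scheme level: `ft_of_qcov` (finite type descends along `QCov` covers), `exists_ft_comap`, `exists_ft_extend`.
`pull`, `sup`, `mul`, `FT` for `K598.ClFam.Fam`.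
-/

set_option autoImplicit false
universe u

open CategoryTheory CategoryTheory.Limits AlgebraicGeometry Opposite TopologicalSpace

set_option backward.isDefEq.respectTransparency false

namespace K647.FamOps

open Groth.Agent.Divis Groth.Agent.Divis.IdealComap Groth.Agent.Divis.IdealFT BlowUp
open Groth.Agent.RedSub.H647.QCov

section scheme

theorem lfp_subschemeι_iff {X : Scheme.{u}} (I : X.IdealSheafData) :
    LocallyOfFinitePresentation I.subschemeι ↔ IsFiniteTypeIdeal I := by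
  refine ⟨fun h => ?_, Groth.Agent.FlatA.ClosedFP.locallyOfFinitePresentation_subschemeι I⟩
  have := Groth.Agent.Sga5.H855.Geom.isFiniteTypeIdeal_ker I.subschemeι
  rwa [Scheme.IdealSheafData.ker_subschemeι] at this

theorem lfp_iff_ker {X Y : Scheme.{u}} (i : X ⟶ Y) [IsClosedImmersion i] :
    LocallyOfFinitePresentation i ↔ IsFiniteTypeIdeal i.ker := by
  refine ⟨fun h => Groth.Agent.Sga5.H855.Geom.isFiniteTypeIdeal_ker i, fun h => ?_⟩
  have h1 := Groth.Agent.FlatA.ClosedFP.locallyOfFinitePresentation_subschemeι _ h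
  have h2 : i.toImage ≫ i.imageι = i := i.toImage_imageι
  have h3 : LocallyOfFinitePresentation i.imageι := h1
  rw [← h2]
  infer_instance

theorem ft_of_fpqc {V W : Scheme.{u}} (p : V ⟶ W) [Flat p] [Surjective p] [QuasiCompact p]
    {I : W.IdealSheafData} (h : IsFiniteTypeIdeal (I.comap p)) : IsFiniteTypeIdeal I := by
  rw [← lfp_subschemeι_iff]
  have hc : IsClosedImmersion (pullback.snd I.subschemeι p) := inferInstance
  have hk : (pullback.snd I.subschemeι p).ker = I.comap p := by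
    have h1 := K598.ClFam.ker_eq_comap_of_isPullback (IsPullback.of_hasPullback I.subschemeι p)
    rwa [Scheme.IdealSheafData.ker_subschemeι] at h1
  have hl : LocallyOfFinitePresentation (pullback.snd I.subschemeι p) := by
    rw [lfp_iff_ker, hk]
    exact h
  exact MorphismProperty.of_pullback_snd_of_descendsAlong (P := @LocallyOfFinitePresentation)
    (Q := (@Surjective ⊓ @Flat ⊓ @QuasiCompact : MorphismProperty Scheme.{u}))
    ⟨⟨‹Surjective p›, ‹Flat p›⟩, ‹QuasiCompact p›⟩ hl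

theorem ft_of_qcov {ι : Type u} {Y : Scheme.{u}} {Y' : ι → Scheme.{u}} {q : ∀ i, Y' i ⟶ Y} (hq : IsQCov q)
    {I : Y.IdealSheafData} (h : ∀ i, IsFiniteTypeIdeal (I.comap (q i))) : IsFiniteTypeIdeal I := by
  refine Groth.Agent.Flat2C.Admissible.isFT_of_cover I fun y => ?_
  obtain ⟨i, W, V, w, v, p, hw, ⟨x, hx⟩, h1, h2, h3, e⟩ := hq y
  have h4 : IsFiniteTypeIdeal (I.comap w) := by
    refine ft_of_fpqc p ?_
    rw [← Scheme.IdealSheafData.comap_comp, ← e, Scheme.IdealSheafData.comap_comp]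
    exact Groth.Agent.Flat2C.Admissible.isFT_comap (h i) v
  obtain ⟨U, hU, hxU, -⟩ := exists_isAffineOpen_mem_and_subset (x := x) (U := ⊤) trivial
  refine ⟨⟨w ''ᵁ U, hU.image_of_isOpenImmersion w⟩, ⟨x, hxU, hx⟩, ?_⟩
  have h5 := h4 ⟨U, hU⟩
  rw [Scheme.IdealSheafData.ideal_comap_of_isOpenImmersion] at h5
  have h6 := h5.map (w.appIso U).inv.hom
  rwa [Ideal.map_comap_of_surjective _ (ConcreteCategory.bijective_of_isIso (w.appIso U).inv).2] at h6

/-- A finite type ideal contained in the pullback of `L` is contained in the pullback of a finite type subideal. -/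
theorem exists_ft_comap {V P : Scheme.{u}} [CompactSpace V] [QuasiSeparatedSpace V] [CompactSpace P] (q : P ⟶ V)
    (L : V.IdealSheafData) (K : P.IdealSheafData) (hK : IsFiniteTypeIdeal K) (hle : K ≤ L.comap q) :
    ∃ C ≤ L, IsFiniteTypeIdeal C ∧ K ≤ C.comap q := by
  have key : ∀ x : P, ∃ (U : V.affineOpens) (O : P.affineOpens) (_ : x ∈ O.1) (e : O.1 ≤ q ⁻¹ᵁ U.1)
      (J : Ideal Γ(V, U.1)), J.FG ∧ J ≤ L.ideal U ∧ K.ideal O ≤ J.map (q.appLE U.1 O.1 e).hom := by
    intro x
    obtain ⟨U, O, -, hxO, -, -, e⟩ := exists_affine_le q x ⊤ trivial ⊤ trivial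
    obtain ⟨T, hT⟩ := hK O
    have h1 : K.ideal O ≤ (L.ideal U).map (q.appLE U.1 O.1 e).hom := by
      rw [← ideal_comap L q U O e]
      exact hle O
    have h2 : (T : Set Γ(P, O.1)) ⊆ (L.ideal U).map (q.appLE U.1 O.1 e).hom := fun t ht =>
      h1 (hT ▸ Ideal.subset_span ht)
    rw [Ideal.map] at h2
    obtain ⟨T', hT', hT''⟩ := Submodule.subset_span_finite_of_subset_span h2
    classical
    obtain ⟨T₀, hT₀, rfl⟩ := Finset.subset_set_image_iff.mp hT'
    refine ⟨U, O, hxO, e, Ideal.span T₀, ⟨T₀, rfl⟩, Ideal.span_le.2 hT₀, ?_⟩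
    rw [← hT, Ideal.map_span]
    refine Ideal.span_le.2 ?_
    rw [Finset.coe_image] at hT''
    exact hT''
  choose U O hxO e J hJ hJL hKJ using key
  obtain ⟨T, hT⟩ := isCompact_univ.elim_finite_subcover (fun x : P => ((O x).1 : Set P)) (fun x => (O x).1.2)
    fun x _ => Set.mem_iUnion.2 ⟨x, hxO x⟩
  obtain ⟨C, hCL, hC, hJC⟩ := exists_ft_mem_family L (fun x : T => U x.1) (fun x => J x.1) (fun x => hJ x.1)
    fun x => hJL x.1
  refine ⟨C, hCL, hC, fun W => ?_⟩
  refine ideal_le_of_le_iSup (fun x : T => O x.1) W ?_ ?_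
  · intro y _
    obtain ⟨x, hx, hyx⟩ := Set.mem_iUnion₂.1 (hT (Set.mem_univ y))
    exact Opens.mem_iSup.2 ⟨⟨x, hx⟩, hyx⟩
  · intro x
    rw [ideal_comap C q (U x.1) (O x.1) (e x.1)]
    exact (hKJ x.1).trans (Ideal.map_mono (hJC x))

/-- Extension of finite type ideals along a quasi-compact open immersion, inside a given ideal. -/
theorem exists_ft_extend {V U : Scheme.{u}} [CompactSpace V] [QuasiSeparatedSpace V] [CompactSpace U] (j : U ⟶ V)
    [IsOpenImmersion j] (L : V.IdealSheafData) (G : U.IdealSheafData) (hG : IsFiniteTypeIdeal G)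
    (hle : G ≤ L.comap j) : ∃ D ≤ L, IsFiniteTypeIdeal D ∧ D.comap j = G := by
  have hqc : QuasiCompact j := quasiCompact_of_compactSpace j
  let L' := L ⊓ G.map j
  have hL' : L'.comap j = G := by
    rw [Groth.Agent.Picfga.IdealGlue.comap_inf_of_isOpenImmersion, SatSch.map_comap_self, inf_eq_right.2 hle]
  have hft : FTOn L' j.opensRange := by
    intro O hO
    have hO' : IsAffineOpen (j ⁻¹ᵁ O.1) := O.2.preimage_of_isOpenImmersion _ hO
    have h1 := ideal_comap_of_isOpenImmersion L' j O ⟨_, hO'⟩ le_rfl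
    rw [hL'] at h1
    have h2 : ((L'.ideal O).map (j.appLE O.1 (j ⁻¹ᵁ O.1) le_rfl).hom).FG := by
      rw [← h1]; exact hG _
    have e : (j.appLE O.1 (j ⁻¹ᵁ O.1) le_rfl) = j.app O.1 := by rw [Scheme.Hom.app_eq_appLE]
    have hi : IsIso (j.app O.1) := j.isIso_app O.1 hO
    rw [e] at h2
    have h3 := h2.map (inv (j.app O.1)).hom
    rw [Ideal.map_map, ← CommRingCat.hom_comp, IsIso.hom_inv_id] at h3
    simpa using h3
  obtain ⟨D, hDL, hD, hDj⟩ := exists_ft_eqOn L' j.opensRange (by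
    rw [Scheme.Hom.coe_opensRange]
    exact isCompact_range j.continuous) hft
  refine ⟨D, hDL.trans inf_le_left, hD, ?_⟩
  rw [← hL']
  refine ext_of_forall_mem fun x => ?_
  obtain ⟨W, hW, hxW, -⟩ := exists_isAffineOpen_mem_and_subset (U := (⊤ : U.Opens)) (x := x) trivial
  have hW' : IsAffineOpen (j ''ᵁ W) := hW.image_of_isOpenImmersion j
  have e : W ≤ j ⁻¹ᵁ (j ''ᵁ W) := (j.preimage_image_eq W).ge
  refine ⟨⟨W, hW⟩, hxW, ?_⟩
  rw [ideal_comap_of_isOpenImmersion _ j ⟨_, hW'⟩ ⟨W, hW⟩ e, ideal_comap_of_isOpenImmersion _ j ⟨_, hW'⟩ ⟨W, hW⟩ e,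
    hDj ⟨_, hW'⟩ (by rintro _ ⟨x, -, rfl⟩; exact ⟨x, rfl⟩)]

end scheme

section fam

open AlgSp K598.ClFam K598.Charts K598.RepKit

variable {S : Scheme.{u}} {X Y Z : Sp S}

/-- inverse image of a family of ideals -/
def pull (A : Fam Y) (f : Z ⟶ Y) : Fam Z where
  I g := A.I (g ≫ f)
  comap φ g := by rw [Category.assoc, A.comap]

@[simp] theorem pull_I (A : Fam Y) (f : Z ⟶ Y) {T : Over S} (g : (yon S).obj T ⟶ Z) : (pull A f).I g = A.I (g ≫ f) :=
  rfl

/-- sum of two families of ideals -/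
noncomputable def sup (A B : Fam Y) : Fam Y where
  I g := A.I g ⊔ B.I g
  comap φ g := by rw [A.comap, B.comap, Scheme.IdealSheafData.comap_sup]

@[simp] theorem sup_I (A B : Fam Y) {T : Over S} (g : (yon S).obj T ⟶ Y) : (sup A B).I g = A.I g ⊔ B.I g := rfl

/-- product of two families of ideals -/
noncomputable def mul (A B : Fam Y) : Fam Y where
  I g := A.I g * B.I g
  comap φ g := by rw [A.comap, B.comap, comap_mul]

@[simp] theorem mul_I (A B : Fam Y) {T : Over S} (g : (yon S).obj T ⟶ Y) : (mul A B).I g = A.I g * B.I g := rfl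

/-- families of finite type ideals -/
def FT (A : Fam Y) : Prop := ∀ ⦃T : Over S⦄ (g : (yon S).obj T ⟶ Y), IsFiniteTypeIdeal (A.I g)

theorem FT.pull {A : Fam Y} (h : FT A) (f : Z ⟶ Y) : FT (pull A f) := fun _ g => h (g ≫ f)

theorem FT.sup {A B : Fam Y} (h : FT A) (h' : FT B) : FT (sup A B) := fun _ g =>
  Groth.Agent.Flat2C.Admissible.isFT_sup (h g) (h' g)

theorem FT.mul {A B : Fam Y} (h : FT A) (h' : FT B) : FT (mul A B) := fun _ g =>
  Groth.Agent.Flat2C.Admissible.isFT_mul (h g) (h' g)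

theorem le_sup_left (A B : Fam Y) : A ≤ sup A B := fun _ _ => _root_.le_sup_left

theorem le_sup_right (A B : Fam Y) : B ≤ sup A B := fun _ _ => _root_.le_sup_right

theorem sup_le {A B C : Fam Y} (h : A ≤ C) (h' : B ≤ C) : sup A B ≤ C := fun T g => _root_.sup_le (h T g) (h' T g)

/-- Finite type can be checked on charts. -/
theorem FT.of_charts {ι : Type u} {V : ι → Over S} {p : ∀ j, (yon S).obj (V j) ⟶ Y} (hp : ChartFam p) {A : Fam Y}
    (h : ∀ j, IsFiniteTypeIdeal (A.I (p j))) : FT A := by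
  intro T g
  obtain ⟨P, r, q, sq⟩ := exists_pullbacks (fun j => (hp.flat j).1) g
  refine ft_of_qcov (hp.isQCov g sq) fun j => ?_
  rw [← A.comap, ← (sq j).w, A.comap]
  exact Groth.Agent.Flat2C.Admissible.isFT_comap (h j) _

/-- The closed subspace of a family of finite type ideals. -/
theorem repWith_ι_lfp {A : Fam Y} (h : FT A) : RepWith (@IsClosedImmersion ⊓ @LocallyOfFinitePresentation) A.ι := by
  refine MorphismProperty.relative.of_exists fun T g => ?_
  obtain ⟨fst, hfst⟩ := A.exists_isPullback g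
  exact ⟨_, fst, _, hfst, inferInstanceAs (IsClosedImmersion (A.I g).subschemeι),
    (lfp_subschemeι_iff (A.I g)).2 (h g)⟩

theorem ft_ofClosed {i : Z ⟶ Y} (h : RepWith (@IsClosedImmersion ⊓ @LocallyOfFinitePresentation) i)
    (hi : RepWith @IsClosedImmersion i) : FT (ofClosed i hi) := by
  intro T g
  have sq := hi.1.isPullback g
  have h1 : IsClosedImmersion (hi.1.snd g).left := hi.2 _ _ _ sq
  have h2 : LocallyOfFinitePresentation (hi.1.snd g).left := (h.2 _ _ _ sq).2
  change IsFiniteTypeIdeal (hi.1.snd g).left.ker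
  exact (lfp_iff_ker _).1 h2

end fam

end K647.FamOps
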