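import Groth.Agent.AlgSp.K647.EtLoc
import Groth.Agent.Dix.PointSite
import Groth.Prelude.Def_AlgSpDec

/-!
# Locally Noetherian fibres
-/

set_option autoImplicit false
universe u

open CategoryTheory CategoryTheory.Limits AlgebraicGeometry Opposite

set_option backward.isDefEq.respectTransparency false

namespace K647.FibNoeth

open AlgSp K647.Idl

variable {S : Scheme.{u}} {X Y : Sp S} {U₀ : Over S} {c : (yon S).obj U₀ ⟶ Y}

/-- the fibre product of the representable chart with `T` is locally Noetherian -/
def N (hr : Representable c) {T : Over S} (g : (yon S).obj T ⟶ Y) : Prop :=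
  IsLocallyNoetherian (hr.pullback g).left

theorem isLocallyNoetherian_of_iso {X Y : Scheme.{u}} (e : X ≅ Y) [IsLocallyNoetherian Y] :
    IsLocallyNoetherian X := LocallyOfFiniteType.isLocallyNoetherian e.hom

theorem N_iff_of_isPullback (hr : Representable c) {T W : Over S} {g : (yon S).obj T ⟶ Y}
    {fst : (yon S).obj W ⟶ (yon S).obj U₀} {snd : W ⟶ T} (sq : IsPullback fst ((yon S).map snd) c g) :
    IsLocallyNoetherian W.left ↔ N hr g := by
  let e := sq.isoIsPullback _ _ (hr.isPullback g)
  let e' : W ≅ hr.pullback g := (yon S).preimageIso e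
  let e'' : W.left ≅ (hr.pullback g).left := (Over.forget S).mapIso e'
  exact ⟨fun h => @isLocallyNoetherian_of_iso _ _ e''.symm h, fun h => @isLocallyNoetherian_of_iso _ _ e'' h⟩

/-- the cartesian square over a base change -/
theorem exists_square (hr : Representable c) {T T' : Over S} (t : T' ⟶ T) (g : (yon S).obj T ⟶ Y) :
    ∃ (W : Over S) (k : W ⟶ hr.pullback g) (snd : W ⟶ T') (fst : (yon S).obj W ⟶ (yon S).obj U₀),
      IsPullback k snd (hr.snd g) t ∧ IsPullback fst ((yon S).map snd) c ((yon S).map t ≫ g) := by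
  have h := IsPullback.of_hasPullback (hr.snd g) t
  exact ⟨_, _, _, _, h, pullback_chart (hr.isPullback g) h⟩

theorem N_of_lft (hr : Representable c) {T T' : Over S} (t : T' ⟶ T) [LocallyOfFiniteType t.left]
    {g : (yon S).obj T ⟶ Y} (h : N hr g) : N hr ((yon S).map t ≫ g) := by
  obtain ⟨W, k, snd, fst, h1, h2⟩ := exists_square hr t g
  rw [← N_iff_of_isPullback hr h2]
  have h3 := FibChart.isPullback_left h1
  have : LocallyOfFiniteType k.left := MorphismProperty.of_isPullback h3.flip ‹_›
  have : IsLocallyNoetherian (hr.pullback g).left := h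
  exact LocallyOfFiniteType.isLocallyNoetherian k.left

theorem N_of_flat_qc (hr : Representable c) {T T' : Over S} (t : T' ⟶ T) [Flat t.left] [Surjective t.left]
    [QuasiCompact t.left] {g : (yon S).obj T ⟶ Y} (h : N hr ((yon S).map t ≫ g)) : N hr g := by
  obtain ⟨W, k, snd, fst, h1, h2⟩ := exists_square hr t g
  rw [← N_iff_of_isPullback hr h2] at h
  have h3 := FibChart.isPullback_left h1
  have : Flat k.left := MorphismProperty.of_isPullback h3.flip ‹_›
  have : Surjective k.left := MorphismProperty.of_isPullback h3.flip ‹_›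
  have : QuasiCompact k.left := MorphismProperty.of_isPullback h3.flip ‹_›
  exact Groth.Agent.Flat2F.LocNoeth.isLocallyNoetherian_of_flat_surjective_quasiCompact k.left

theorem N_of_etale_surj (hr : Representable c) {T T' : Over S} (t : T' ⟶ T) [Etale t.left] [Surjective t.left]
    {g : (yon S).obj T ⟶ Y} (h : N hr ((yon S).map t ≫ g)) : N hr g := by
  obtain ⟨W, k, snd, fst, h1, h2⟩ := exists_square hr t g
  rw [← N_iff_of_isPullback hr h2] at h
  have h3 := FibChart.isPullback_left h1
  have : Etale k.left := MorphismProperty.of_isPullback h3.flip ‹_›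
  have : Surjective k.left := MorphismProperty.of_isPullback h3.flip ‹_›
  exact Groth.Agent.Flat2F.LocNoeth.isLocallyNoetherian_of_flat_surjective_universallyOpen k.left

theorem N_iff {f : X ⟶ Y} {a : (yon S).obj U₀ ⟶ X} (ha : RepWith @Etale a) (ha' : RepWith @Surjective a)
    (hr : Representable (a ≫ f)) {T : Over S} {g : (yon S).obj T ⟶ Y} {P : Sp S} {fst : P ⟶ X}
    {snd : P ⟶ (yon S).obj T} (hP : IsPullback fst snd f g) : IsLocNoethSp P ↔ N hr g := by
  obtain ⟨W, α, β, m, sq, hm1, hm2, hmQ⟩ := FibChart.exists_prod_chart hP (c := 𝟙 _) hr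
  have hm : RepWith @Etale m := hmQ _ ha (repWith_id _ T)
  have hm' : RepWith @Surjective m := hmQ _ ha' (repWith_id _ T)
  rw [Category.id_comp] at sq
  rw [← N_iff_of_isPullback hr sq]
  constructor
  · intro h
    exact EtLoc.isLocallyNoetherian_chart h hm
  · intro h
    exact ⟨W, m, hm, hm', h⟩

/-- the chart of a locally of finite type morphism -/
theorem N_of_lft_mor {f : X ⟶ Y} (hf : LocP @LocallyOfFiniteType f) {a : (yon S).obj U₀ ⟶ X}
    (ha : RepWith @Etale a) (hr : Representable (a ≫ f)) {V : Over S} {b : (yon S).obj V ⟶ Y}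
    (hb : RepWith @Etale b) {T : Over S} (t : T ⟶ V) [IsLocallyNoetherian T.left] :
    N hr ((yon S).map t ≫ b) := by
  obtain ⟨W, k, snd, fst, h1, h2⟩ := exists_square hr t b
  rw [← N_iff_of_isPullback hr h2]
  have h3 := FibChart.isPullback_left h1
  obtain ⟨fst', hfst'⟩ := (yon S).map_surjective (hr.fst b)
  have hsq := hr.isPullback b
  rw [← hfst'] at hsq
  have h4 : Etale fst'.left := hb.2 _ _ _ hsq.flip
  have : LocallyOfFiniteType (hr.snd b).left := hf ((yon S).map fst' ≫ a) b (hr.snd b)
    (repWith_etale_comp ha fst') hb (by rw [Category.assoc, hsq.w])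
  have : LocallyOfFiniteType snd.left := MorphismProperty.of_isPullback h3 ‹_›
  exact LocallyOfFiniteType.isLocallyNoetherian snd.left

theorem toHom_eq (p : FieldPt Y) : p.toHom = Pts.hom p := rfl

/-- the class of a field-valued point is the image of the point of `Spec K` -/
theorem ofPt_toHom (p : FieldPt Y) : Points.ofPt p.toHom (IsLocalRing.closedPoint p.K : p.pt.left) = Points.mk p := by
  rw [toHom_eq]
  rw [Points.ofPt_eq_map_ofScheme]
  have h3 := Points.ofScheme_apply_eq_mk p.pt (K := p.K) (str := p.str) (𝟙 _) (Category.id_comp _)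
  have h4 : Points.ofScheme p.pt (IsLocalRing.closedPoint p.K : p.pt.left) =
      Points.mk ⟨p.K, p.str, ULift.up (Over.homMk (𝟙 _) (Category.id_comp _))⟩ := h3
  rw [h4, Points.map_mk]
  congr 1
  change (⟨p.K, p.str, (Pts.hom p).hom.app _ _⟩ : FieldPt Y) = p
  have h5 : (Pts.hom p).hom.app (op (Over.mk p.str)) (ULift.up (Over.homMk (𝟙 _) (Category.id_comp _))) = p.val := by
    have h6 := Pts.sec_hom p
    rw [GrothendieckTopology.uliftYonedaEquiv_apply] at h6
    rw [← h6]
    rfl
  rw [h5]
  rfl

theorem map_toHom (p : FieldPt Y) :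
    Points.map p.toHom (Points.ofScheme p.pt (IsLocalRing.closedPoint p.K : p.pt.left)) = Points.mk p := by
  rw [← ofPt_toHom p]
  exact (Points.ofPt_eq_map_ofScheme p.toHom (IsLocalRing.closedPoint p.K : p.pt.left)).symm

theorem toHom_ofPt {V : Over S} (b : (yon S).obj V ⟶ Y) (v : V.left) :
    (FieldPt.ofPt b v).toHom = (yon S).map (Over.homMk (V.left.fromSpecResidueField v) rfl :
      (FieldPt.ofPt b v).pt ⟶ V) ≫ b := by
  apply (J S).uliftYonedaEquiv.injective
  rw [GrothendieckTopology.uliftYonedaEquiv_comp, GrothendieckTopology.uliftYonedaEquiv_uliftYoneda_map]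
  exact FieldPt.uliftYonedaEquiv_toHom _

end K647.FibNoeth
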