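import Groth.Agent.AlgSp.K647.BlowComp
import Groth.Agent.AlgSp.K615.Glue
import Groth.Agent.AlgSp.K594.Bootstrap
import Groth.Agent.Flat2C.BlowExist

/-!
# Existence of blow-ups of algebraic spaces

`exists_isBlowUpSp`: for an algebraic space `X` and a closed subspace `i : Z ⟶ X` there is a blow-up of `X` in `Z`, and it
is an algebraic space.  It is glued from the blow-up of one etale chart (`K615.Glue`).
-/

set_option autoImplicit false
universe u

open CategoryTheory CategoryTheory.Limits AlgebraicGeometry Opposite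

set_option backward.isDefEq.respectTransparency false

namespace K647.BlExist

open AlgSp K647.Idl K647.BlowUpSp K613.Chart K613.Cover

variable {S : Scheme.{u}} {X Z : Sp S} {i : Z ⟶ X} (hi : RepWith @IsClosedImmersion i) {V : Over S}
  {φ : (yon S).obj V ⟶ X} {B : Over S} {b : B ⟶ V}

section Tr

/-- the data for the transport maps -/
structure TD where
  E : Over S
  p : E ⟶ V
  q : E ⟶ B
  k : E ⟶ B
  sq : IsPullback ((yon S).map p) ((yon S).map q) φ ((yon S).map b ≫ φ)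
  hq : Etale q.left
  hk : k ≫ b = p

variable {hi}

theorem eff_of_etale (hb : BlowUp.IsBlowUp b.left (idl hi φ)) {T : Over S} (n : T ⟶ B) [Etale n.left] :
    BlowUp.IsEffCartierIdeal (idl hi ((yon S).map n ≫ (yon S).map b ≫ φ)) := by
  rw [idl_comp, idl_comp]
  exact Groth.Agent.Divis.EffCartier.isEff_comap_flat hb.1 n.left

theorem nonempty_TD (hφ : RepWith @Etale φ) (hb : BlowUp.IsBlowUp b.left (idl hi φ)) :
    Nonempty (TD (φ := φ) (b := b)) := by
  obtain ⟨E, p, q, sq⟩ := exists_prod (a := φ) (b := (yon S).map b ≫ φ) hφ.1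
  have hq : Etale q.left := hφ.2 _ _ _ sq
  have h1 : BlowUp.IsEffCartierIdeal (idl hi ((yon S).map p ≫ φ)) := by
    rw [sq.w]
    exact eff_of_etale hb q
  obtain ⟨k, hk, -⟩ := existsUnique_scheme hi φ hb p h1
  exact ⟨⟨E, p, q, k, sq, hq, hk⟩⟩

variable (D : TD (φ := φ) (b := b))

/-- transport -/
noncomputable def tr {T : Over S} (n : (yon S).obj T ⟶ (yon S).obj B) (u : (yon S).obj T ⟶ (yon S).obj V)
    (h : n ≫ (yon S).map b ≫ φ = u ≫ φ) : (yon S).obj T ⟶ (yon S).obj B :=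
  D.sq.lift u n h.symm ≫ (yon S).map D.k

theorem tr_ν {T : Over S} (n : (yon S).obj T ⟶ (yon S).obj B) (u : (yon S).obj T ⟶ (yon S).obj V)
    (h : n ≫ (yon S).map b ≫ φ = u ≫ φ) : tr D n u h ≫ (yon S).map b = u := by
  rw [tr, Category.assoc, ← Functor.map_comp, D.hk, D.sq.lift_fst]

theorem tr_nat {T T' : Over S} (g : T' ⟶ T) (n : (yon S).obj T ⟶ (yon S).obj B)
    (u : (yon S).obj T ⟶ (yon S).obj V) (h : n ≫ (yon S).map b ≫ φ = u ≫ φ)
    (h' : ((yon S).map g ≫ n) ≫ (yon S).map b ≫ φ = ((yon S).map g ≫ u) ≫ φ) :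
    tr D ((yon S).map g ≫ n) ((yon S).map g ≫ u) h' = (yon S).map g ≫ tr D n u h := by
  rw [tr, tr, ← Category.assoc]
  congr 1
  apply D.sq.hom_ext
  · rw [D.sq.lift_fst, Category.assoc, D.sq.lift_fst]
  · rw [D.sq.lift_snd, Category.assoc, D.sq.lift_snd]

theorem tr_congr {T : Over S} {n n' : (yon S).obj T ⟶ (yon S).obj B} (hn : n = n')
    {u u' : (yon S).obj T ⟶ (yon S).obj V} (hu : u = u') (h : n ≫ (yon S).map b ≫ φ = u ≫ φ)
    (h' : n' ≫ (yon S).map b ≫ φ = u' ≫ φ) : tr D n u h = tr D n' u' h' := by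
  subst hn; subst hu; rfl

variable (hb : BlowUp.IsBlowUp b.left (idl hi φ))

include hb in
/-- two points of `B` over the same point of `V` agree if the ideal of the centre is invertible -/
theorem pt_unique {T : Over S} (s s' : (yon S).obj T ⟶ (yon S).obj B)
    (h : s ≫ (yon S).map b = s' ≫ (yon S).map b)
    (hT : BlowUp.IsEffCartierIdeal (idl hi (s ≫ (yon S).map b ≫ φ))) : s = s' := by
  obtain ⟨t, rfl⟩ := (yon S).map_surjective s
  obtain ⟨t', rfl⟩ := (yon S).map_surjective s'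
  rw [← Functor.map_comp, ← Functor.map_comp] at h
  have h' := (yon S).map_injective h
  congr 1
  refine (existsUnique_scheme hi φ hb (t ≫ b) ?_).unique rfl h'.symm
  rw [Functor.map_comp, Category.assoc]
  exact hT

include hb in
theorem tr_self {T : Over S} (n : (yon S).obj T ⟶ (yon S).obj B) (u : (yon S).obj T ⟶ (yon S).obj V)
    (h : n ≫ (yon S).map b ≫ φ = u ≫ φ) (hu : n ≫ (yon S).map b = u) : tr D n u h = n := by
  subst hu
  obtain ⟨n0, rfl⟩ := (yon S).map_surjective n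
  have h0 : 𝟙 ((yon S).obj B) ≫ (yon S).map b ≫ φ = (yon S).map b ≫ φ := by rw [Category.id_comp]
  have h1 : tr D (𝟙 _) ((yon S).map b) h0 = 𝟙 _ := by
    refine pt_unique hb _ _ ?_ ?_
    · rw [tr_ν, Category.id_comp]
    · rw [← Category.assoc, tr_ν]
      rw [idl_comp]
      exact hb.1
  have h2 := tr_nat D n0 (𝟙 _) ((yon S).map b) h0 (by rw [Category.comp_id, Category.assoc])
  rw [h1] at h2
  exact (tr_congr D (Category.comp_id _).symm rfl _ _).trans (h2.trans (Category.comp_id _))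

include hb in
theorem tr_tr (hφ : RepWith @Etale φ) {T : Over S} (n : (yon S).obj T ⟶ (yon S).obj B)
    (u u' : (yon S).obj T ⟶ (yon S).obj V) (h : n ≫ (yon S).map b ≫ φ = u ≫ φ)
    (h' : tr D n u h ≫ (yon S).map b ≫ φ = u' ≫ φ) (h'' : n ≫ (yon S).map b ≫ φ = u' ≫ φ) :
    tr D (tr D n u h) u' h' = tr D n u' h'' := by
  obtain ⟨W, p, q, sq⟩ := exists_prod (a := φ) (b := (yon S).map D.p ≫ φ) hφ.1
  have hq : Etale q.left := hφ.2 _ _ _ sq
  have hDq := D.hq
  -- the universal point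
  have e1 : u ≫ φ = u' ≫ φ := h.symm.trans h''
  let g1 : (yon S).obj T ⟶ (yon S).obj D.E := D.sq.lift u n h.symm
  have g11 : g1 ≫ (yon S).map D.p = u := D.sq.lift_fst _ _ _
  have g12 : g1 ≫ (yon S).map D.q = n := D.sq.lift_snd _ _ _
  obtain ⟨g, hg⟩ := (yon S).map_surjective (sq.lift u' g1 (by rw [← e1, ← g11, Category.assoc]))
  have g21 : (yon S).map g ≫ (yon S).map p = u' := by rw [hg, sq.lift_fst]
  have g22 : (yon S).map g ≫ (yon S).map q = g1 := by rw [hg, sq.lift_snd]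
  -- points on `W`
  let n2 : (yon S).obj W ⟶ (yon S).obj B := (yon S).map q ≫ (yon S).map D.q
  let u2 : (yon S).obj W ⟶ (yon S).obj V := (yon S).map q ≫ (yon S).map D.p
  have hn : (yon S).map g ≫ n2 = n := by
    change (yon S).map g ≫ (yon S).map q ≫ _ = _
    rw [← Category.assoc, g22, g12]
  have hu : (yon S).map g ≫ u2 = u := by
    change (yon S).map g ≫ (yon S).map q ≫ _ = _
    rw [← Category.assoc, g22, g11]
  have k1 : n2 ≫ (yon S).map b ≫ φ = u2 ≫ φ := by
    change ((yon S).map q ≫ (yon S).map D.q) ≫ _ = ((yon S).map q ≫ (yon S).map D.p) ≫ _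
    rw [Category.assoc, ← D.sq.w, Category.assoc]
  have k3 : u2 ≫ φ = (yon S).map p ≫ φ := by
    change ((yon S).map q ≫ (yon S).map D.p) ≫ _ = _
    rw [Category.assoc, sq.w]
  have k2 : tr D n2 u2 k1 ≫ (yon S).map b ≫ φ = (yon S).map p ≫ φ := by
    rw [← Category.assoc, tr_ν, k3]
  have k4 : n2 ≫ (yon S).map b ≫ φ = (yon S).map p ≫ φ := k1.trans k3
  have key : tr D (tr D n2 u2 k1) ((yon S).map p) k2 = tr D n2 ((yon S).map p) k4 := by
    refine pt_unique hb _ _ ?_ ?_
    · rw [tr_ν, tr_ν]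
    · rw [← Category.assoc, tr_ν, ← k4]
      have : Etale (q ≫ D.q).left := by rw [Over.comp_left]; infer_instance
      change BlowUp.IsEffCartierIdeal (idl hi (((yon S).map q ≫ (yon S).map D.q) ≫ _))
      rw [← Functor.map_comp]
      exact eff_of_etale hb _
  have m1 : ((yon S).map g ≫ n2) ≫ (yon S).map b ≫ φ = ((yon S).map g ≫ (yon S).map p) ≫ φ := by
    rw [hn, g21, h'']
  have m2 : ((yon S).map g ≫ tr D n2 u2 k1) ≫ (yon S).map b ≫ φ = ((yon S).map g ≫ (yon S).map p) ≫ φ := by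
    rw [Category.assoc, k2, Category.assoc]
  have m3 : ((yon S).map g ≫ n2) ≫ (yon S).map b ≫ φ = ((yon S).map g ≫ u2) ≫ φ := by
    rw [hn, hu, h]
  have r1 := tr_nat D g n2 ((yon S).map p) k4 m1
  have r2 := tr_nat D g (tr D n2 u2 k1) ((yon S).map p) k2 m2
  have r3 := tr_nat D g n2 u2 k1 m3
  have r4 : tr D n u h = (yon S).map g ≫ tr D n2 u2 k1 := by
    rw [← r3]; exact tr_congr D hn.symm hu.symm _ _
  calc tr D (tr D n u h) u' h' = tr D ((yon S).map g ≫ tr D n2 u2 k1) ((yon S).map g ≫ (yon S).map p) m2 :=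
        tr_congr D r4 g21.symm _ _
    _ = (yon S).map g ≫ tr D (tr D n2 u2 k1) ((yon S).map p) k2 := r2
    _ = (yon S).map g ≫ tr D n2 ((yon S).map p) k4 := by rw [key]
    _ = tr D ((yon S).map g ≫ n2) ((yon S).map g ≫ (yon S).map p) m1 := r1.symm
    _ = tr D n u' h'' := tr_congr D hn g21 _ _

/-- the descent datum -/
noncomputable def dd (hφ : RepWith @Etale φ) :
    K615.Glue.DD (ι := PUnit.{u + 2}) (fun _ => (yon S).obj V) (fun _ => φ) (fun _ => (yon S).obj B)
      (fun _ => (yon S).map b) where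
  tr _ _ n u h := tr D n u h
  tr_ν _ _ n u h := tr_ν D n u h
  tr_nat g _ _ n u h h' := tr_nat D g n u h h'
  tr_self _ n u h hu := tr_self D hb n u h hu
  tr_tr _ _ _ n u u' h h' h'' := tr_tr D hb hφ n u u' h h' h''

end Tr

variable {hi}

/-- Existence of the blow-up, with the cartesian square over the chart. -/
theorem exists_glued (hφ : RepWith @Etale φ) (hφ' : RepWith @Surjective φ)
    (hb : BlowUp.IsBlowUp b.left (idl hi φ)) :
    ∃ (X' : Sp S) (β : X' ⟶ X) (c : (yon S).obj B ⟶ X'), IsAlgSpace X' ∧ IsPullback c ((yon S).map b) β φ ∧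
      IsBlowUpSp β i := by
  obtain ⟨D⟩ := nonempty_TD hφ hb
  obtain ⟨X', β, c, sq⟩ : ∃ (X' : Sp S) (β : X' ⟶ X) (c : (yon S).obj B ⟶ X'),
      IsPullback c ((yon S).map b) β φ :=
    ⟨_, K615.Glue.π (dd D hb hφ), K615.Glue.m (dd D hb hφ) PUnit.unit, K615.Glue.isPullback _⟩
  have hc : RepWith @Etale c := repWith_fst sq hφ
  have hc' : RepWith @Surjective c := repWith_fst sq hφ'
  have hX' : IsAlgSpace X' := K594.Bootstrap.isAlgSpace_of_etale c hc hc'
  -- uniqueness of lifts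
  have huniq : ∀ {T : Over S} (s s' : (yon S).obj T ⟶ X'), s ≫ β = s' ≫ β →
      BlowUp.IsEffCartierIdeal (idl hi (s ≫ β)) → s = s' := by
    intro T s s' hs hT
    obtain ⟨W, v, t, sqW⟩ := exists_prod (a := φ) (b := s ≫ β) hφ.1
    have ht : Etale t.left := hφ.2 _ _ _ sqW
    have ht' : Surjective t.left := hφ'.2 _ _ _ sqW
    have hch : Ch ((yon S).map t) := ⟨(repWith_yon_map_iff _ _).2 ht, (repWith_yon_map_iff _ _).2 ht'⟩
    have := hch.fSurj.epi
    have e1 : ((yon S).map t ≫ s) ≫ β = (yon S).map v ≫ φ := by rw [Category.assoc, sqW.w]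
    have e2 : ((yon S).map t ≫ s') ≫ β = (yon S).map v ≫ φ := by rw [Category.assoc, ← hs, sqW.w]
    rw [← cancel_epi ((yon S).map t)]
    have e3 : sq.lift _ _ e1 = sq.lift _ _ e2 := by
      refine pt_unique hb _ _ ?_ ?_
      · rw [sq.lift_snd, sq.lift_snd]
      · rw [← Category.assoc, sq.lift_snd, sqW.w, idl_comp]
        exact Groth.Agent.Divis.EffCartier.isEff_comap_flat hT t.left
    rw [← sq.lift_fst _ _ e1, e3, sq.lift_fst]
  refine ⟨X', β, c, hX', sq, ?_, ?_⟩
  · refine invImage_of_chart hi hc hc' ?_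
    rw [sq.w, idl_comp]
    exact hb.1
  · intro Y hY g hg
    obtain ⟨W0, w0, hw0, hw0'⟩ := hY.atlas
    obtain ⟨W, q, w, hw, hw', hpq'⟩ : ∃ (W : Over S) (q : W ⟶ V) (w : (yon S).obj W ⟶ Y), RepWith @Etale w ∧
        RepWith @Surjective w ∧ w ≫ g = (yon S).map q ≫ φ := by
      obtain ⟨W, p, q, -, hp, hp', hpq⟩ := exists_chart_lift (f := g) (a := w0) hφ hφ'
      exact ⟨W, q, (yon S).map p ≫ w0, repWith_etale_comp hw0 p, repWith_surj_comp hw0' p, hpq⟩
    have hch : Ch w := ⟨hw, hw'⟩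
    have hF := hch.fSurj
    have := hF.epi
    have hq : BlowUp.IsEffCartierIdeal (idl hi ((yon S).map q ≫ φ)) := by
      rw [← hpq']
      exact invImage_idl hi hg hw
    obtain ⟨l, hl, -⟩ := existsUnique_scheme hi φ hb q hq
    have hl0 : l ≫ b = q := hl
    have hlb : ((yon S).map l ≫ c) ≫ β = w ≫ g := by
      rw [Category.assoc, sq.w, ← Category.assoc, ← Functor.map_comp, hl0, hpq']
    obtain ⟨R, r1, r2, sqR⟩ := exists_prod (a := w) (b := w) hw.1
    have hr1 : Etale r1.left := hw.2 _ _ _ sqR.flip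
    have hR : (yon S).map r1 ≫ (yon S).map l ≫ c = (yon S).map r2 ≫ (yon S).map l ≫ c := by
      refine huniq _ _ ?_ ?_
      · rw [Category.assoc, hlb, Category.assoc, hlb, ← Category.assoc, sqR.w, Category.assoc]
      · rw [Category.assoc, hlb, ← Category.assoc]
        exact invImage_idl hi hg (repWith_etale_comp hw r1)
    obtain ⟨h, hh, hh'⟩ := hF.desc (F := X') ((yon S).map l ≫ c) (fun T u v huv => by
      have e3 : sqR.lift u v huv ≫ (yon S).map r1 ≫ (yon S).map l ≫ c =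
          sqR.lift u v huv ≫ (yon S).map r2 ≫ (yon S).map l ≫ c := by rw [hR]
      rw [← Category.assoc, sqR.lift_fst] at e3
      rw [e3, ← Category.assoc, sqR.lift_snd])
    have hh0 : w ≫ h = (yon S).map l ≫ c := hh
    refine ⟨h, ?_, fun k hk => ?_⟩
    · change h ≫ β = g
      rw [← cancel_epi w, ← Category.assoc, hh0, hlb]
    · have hk0 : k ≫ β = g := hk
      refine hh' k ?_
      change w ≫ k = _
      refine huniq _ _ ?_ ?_
      · rw [Category.assoc, hk0, hlb]
      · rw [Category.assoc, hk0]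
        exact invImage_idl hi hg hw

/-- EXISTENCE of blow-ups of algebraic spaces. -/
theorem exists_isBlowUpSp (hX : IsAlgSpace X) (hi : RepWith @IsClosedImmersion i) :
    ∃ (X' : Sp S) (β : X' ⟶ X), IsAlgSpace X' ∧ IsBlowUpSp β i := by
  obtain ⟨V, φ, hφ, hφ'⟩ := hX.atlas
  obtain ⟨B, b, hb⟩ := Groth.Agent.Flat2C.BlowExist.exists_isBlowUp (idl hi φ)
  obtain ⟨X', β, c, hX', -, h⟩ := exists_glued (hi := hi) hφ hφ'
    (B := Over.mk (b ≫ V.hom)) (b := Over.homMk b rfl) hb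
  exact ⟨X', β, hX', h⟩

/-- EXISTENCE of the blow-up in a family of ideals. -/
theorem exists_blowUp (hX : IsAlgSpace X) (A : K598.ClFam.Fam X) :
    ∃ (X' : Sp S) (β : X' ⟶ X), IsAlgSpace X' ∧ IsBlowUpSp β A.ι :=
  exists_isBlowUpSp hX A.repWith_ι

end K647.BlExist
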