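import Groth.Agent.AlgSp.K647.Idl
import Groth.Agent.AlgSp.K647.VanEff
import Groth.Agent.AlgSp.K598.Charts
import Groth.Agent.AlgSp.K609.Sep
import Groth.Agent.AlgSp.K623.Pts
import Groth.Agent.Models.EtRadical

/-!
# Effective Cartier divisors from ideals on a chart

`exists_closed`: an ideal on an etale surjective chart with equal pullbacks to `U ×_X U` is the ideal of a closed
subspace.  `exists_eff`: the same for effective Cartier ideals.
-/

set_option autoImplicit false
universe u

open CategoryTheory CategoryTheory.Limits AlgebraicGeometry Opposite TopologicalSpace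

set_option backward.isDefEq.respectTransparency false

namespace K647.ComplDiv

open AlgSp K647.Idl

variable {S : Scheme.{u}} {X : Sp S}

/-- Descent of closed subspaces along an etale surjective chart. -/
theorem exists_closed (hX : IsAlgSpace X) {V : Over S} {φ : (yon S).obj V ⟶ X} (hφ : RepWith @Etale φ)
    (hφ' : RepWith @Surjective φ) {R : Over S} {p q : R ⟶ V}
    (sq : IsPullback ((yon S).map p) ((yon S).map q) φ φ) (I : V.left.IdealSheafData)
    (hI : I.comap p.left = I.comap q.left) :
    ∃ (D : Sp S) (i : D ⟶ X) (hi : RepWith @IsClosedImmersion i), IsAlgSpace D ∧ idl hi φ = I := by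
  have hfam := K598.Charts.ChartFam.single hφ hφ'
  obtain ⟨A, hA⟩ := hfam.exists_fam (fun _ => I) (by
    intro _ _ T a b hab
    obtain ⟨c, hc⟩ := (yon S).map_surjective (sq.lift _ _ hab)
    have h1 : c ≫ p = a := (yon S).map_injective (by rw [Functor.map_comp, hc, IsPullback.lift_fst])
    have h2 : c ≫ q = b := (yon S).map_injective (by rw [Functor.map_comp, hc, IsPullback.lift_snd])
    change I.comap a.left = I.comap b.left
    rw [← h1, ← h2, Over.comp_left, Over.comp_left, Scheme.IdealSheafData.comap_comp,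
      Scheme.IdealSheafData.comap_comp, hI])
  refine ⟨A.sheaf, A.ι, A.repWith_ι, A.isAlgSpace_sheaf hX, ?_⟩
  have h1 : idl A.repWith_ι φ = (K598.ClFam.ofClosed A.ι A.repWith_ι).I φ := rfl
  rw [h1, K598.ClFam.ofClosed_ι]
  exact hA PUnit.unit

theorem exists_eff (hX : IsAlgSpace X) {V : Over S} {φ : (yon S).obj V ⟶ X} (hφ : RepWith @Etale φ)
    (hφ' : RepWith @Surjective φ) {R : Over S} {p q : R ⟶ V}
    (sq : IsPullback ((yon S).map p) ((yon S).map q) φ φ) (I : V.left.IdealSheafData)
    (hI : I.comap p.left = I.comap q.left) (heff : BlowUp.IsEffCartierIdeal I) :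
    ∃ (D : Sp S) (i : D ⟶ X) (h : IsEffCartierSub i), IsAlgSpace D ∧ idl h.1 φ = I := by
  obtain ⟨D, i, hi, hD, h⟩ := exists_closed hX hφ hφ' sq I hI
  exact ⟨D, i, isEffCartierSub_iff.2 ⟨hi, V, φ, hφ, hφ', by rw [h]; exact heff⟩, hD, h⟩

/-- The reduced complement of a dense affine open subspace of a regular separated locally Noetherian space. -/
theorem main [S.IsSeparated] (hX : IsAlgSpace X)
    (hreg : EtaleLocally (fun U => IsLocallyNoetherian U ∧ ∀ u : ↥U, IsRegularLocalRing ↥(U.presheaf.stalk u)) X)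
    (hsep : IsSeparatedSp X) (T : Over S) [IsAffine T.left] (j : (yon S).obj T ⟶ X)
    (hj : RepWith @IsOpenImmersion j) (hdense : Dense (Set.range (Points.ofPt j))) :
    ∃ (D : Sp S) (i : D ⟶ X), IsAlgSpace D ∧ IsEffCartierSub i ∧
      Set.range (Points.map i) = (Set.range (Points.ofPt j))ᶜ := by
  obtain ⟨V, φ, hφ, hφ', hN, hR⟩ := hreg
  -- `W = V ×_X T`, open in `V`
  obtain ⟨W, w, t, sqW⟩ := exists_prod (a := φ) (b := j) hφ.1
  have hw : IsOpenImmersion w.left := hj.2 _ _ _ sqW.flip
  -- points of `W`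
  have hpt : ∀ v : V.left, v ∈ Set.range w.left ↔ Points.ofPt φ v ∈ Set.range (Points.ofPt j) := by
    intro v
    rw [Pts.mem_range_iff sqW.flip v]
    constructor
    · rintro ⟨z, hz⟩
      obtain ⟨s, rfl⟩ := Pts.exists_ofPt z
      exact ⟨s, by rw [← hz, Points.ofPt_eq_map_ofScheme]⟩
    · rintro ⟨s, hs⟩
      exact ⟨Points.ofScheme T s, by rw [← hs, Points.ofPt_eq_map_ofScheme]⟩
  let Z : Closeds V.left := ⟨(Set.range w.left)ᶜ, w.left.isOpenEmbedding.isOpen_range.isClosed_compl⟩
  have hZ : ∀ v : V.left, v ∈ Z ↔ Points.ofPt φ v ∉ Set.range (Points.ofPt j) := fun v => not_congr (hpt v)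
  let I := Scheme.IdealSheafData.vanishingIdeal Z
  obtain ⟨R, p, q, sq⟩ := exists_prod (a := φ) (b := φ) hφ.1
  have hp : Etale p.left := hφ.2 _ _ _ sq.flip
  have hq : Etale q.left := hφ.2 _ _ _ sq
  have hI : I.comap p.left = I.comap q.left := by
    rw [Groth.Agent.Models.EtRadical.comap_vanishingIdeal, Groth.Agent.Models.EtRadical.comap_vanishingIdeal]
    congr 1
    ext r
    change p.left r ∈ Z ↔ q.left r ∈ Z
    rw [hZ, hZ, ← Pts.ofPt_map, ← Pts.ofPt_map, sq.w]
  -- effective Cartier
  have heff : BlowUp.IsEffCartierIdeal I := by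
    refine Groth.Agent.Divis.EffCartier.isEff_of_forall_comap fun v => ?_
    obtain ⟨_, ⟨O, hO, rfl⟩, hvO, -⟩ := V.left.isBasis_affineOpens.exists_subset_of_mem_open
      (show v ∈ (Set.univ : Set V.left) from trivial) isOpen_univ
    have hO' : IsAffineOpen O := hO
    let A : Over S := Over.mk (Scheme.Opens.ι O ≫ V.hom)
    let a : A ⟶ V := Over.homMk (Scheme.Opens.ι O) rfl
    have haff : IsAffine A.left := hO'
    have ha : IsOpenImmersion a.left := inferInstanceAs (IsOpenImmersion (Scheme.Opens.ι O))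
    refine ⟨A.left, a.left, ha, ⟨(⟨v, hvO⟩ : Scheme.Opens.toScheme O), rfl⟩, ?_⟩
    rw [Groth.Agent.Models.EtRadical.comap_vanishingIdeal]
    have hAN : IsLocallyNoetherian A.left := isLocallyNoetherian_of_isOpenImmersion a.left
    have hAN' : IsNoetherian A.left := {}
    refine VanEff.isEff_of_affine ?_ _ ?_ ?_
    · intro x
      have e : V.left.presheaf.stalk (a.left x) ≅ A.left.presheaf.stalk x := asIso (a.left.stalkMap x)
      have := hR (a.left x)
      exact IsRegularLocalRing.of_ringEquiv e.commRingCatIsoToRingEquiv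
    · -- the open complement is `A ×_X T`, affine
      obtain ⟨B, b, s, sqB⟩ := exists_prod (a := (yon S).map a ≫ φ) (b := j) (repWith_etale_comp hφ a).1
      have hB : IsAffine B.left := (K609.Sep.affine_pullback hsep sqB).1
      have hb : IsOpenImmersion b.left := hj.2 _ _ _ sqB.flip
      have h1 : (Z.preimage a.left.continuous).compl = b.left.opensRange := by
        ext x
        have h2 : x ∈ Set.range b.left ↔ Points.ofPt ((yon S).map a ≫ φ) x ∈ Set.range (Points.map j) :=
          Pts.mem_range_iff sqB.flip x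
        have h3 : Points.ofPt ((yon S).map a ≫ φ) x ∈ Set.range (Points.map j) ↔ a.left x ∈ Set.range w.left := by
          rw [Pts.ofPt_map, ← Pts.mem_range_iff sqW.flip]
        change ¬ ¬ (a.left x ∈ Set.range w.left) ↔ x ∈ Set.range b.left
        rw [h2, h3, not_not]
      rw [h1]
      exact isAffineOpen_opensRange b.left
    · -- density
      have ho : IsOpenMap (Points.ofPt ((yon S).map a ≫ φ)) := K623.Pts.isOpenMap_ofPt_of_etale (repWith_etale_comp hφ a)
      have h1 : ((Z.preimage a.left.continuous : Closeds A.left) : Set A.left)ᶜ =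
          Points.ofPt ((yon S).map a ≫ φ) ⁻¹' (Set.range (Points.ofPt j)) := by
        ext x
        rw [Set.mem_preimage, Pts.ofPt_map, ← hpt]
        change ¬ ¬ (a.left x ∈ Set.range w.left) ↔ _
        rw [not_not]
      rw [h1]
      exact hdense.preimage ho
  obtain ⟨D, i, hi, hD, hidl⟩ := exists_eff hX hφ hφ' sq I hI heff
  refine ⟨D, i, hD, hi, ?_⟩
  ext x
  obtain ⟨v, rfl⟩ := Pts.exists_ofPt_of_surj hφ' x
  rw [← mem_support_idl_iff hi.1, hidl]
  rw [Set.mem_compl_iff, ← hpt, ← SetLike.mem_coe]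
  change v ∈ ((Scheme.IdealSheafData.vanishingIdeal Z).support : Set V.left) ↔ _
  rw [Scheme.IdealSheafData.coe_support_vanishingIdeal]
  exact Iff.rfl

end K647.ComplDiv
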