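import Groth.Agent.AlgSp.K647.DevPush
import Groth.Agent.AlgSp.K611.SHStalk

/-!
# Devissage: classes of coherent modules, the case of an integral space
-/

set_option autoImplicit false
set_option linter.unusedSectionVars false
set_option backward.isDefEq.respectTransparency false
universe u

open CategoryTheory CategoryTheory.Limits AlgebraicGeometry Opposite TopologicalSpace

namespace K647.DevCls

open AlgSp K606.AffSub K606.Part K646.EtSite Groth.Agent.Etbase.FFExact K647.DevSub K647.DevPow K647.DevSes K647.DevPush
open K644.Exact K644.Chart K612.ModPush K612.ClImm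

variable {S : Scheme.{u}} {X Z : Sp S}

/-- The closure properties of a class of coherent modules used in the devissage. -/
structure Cls (K : ModEt X → Prop) : Prop where
  iso : ∀ {A B : ModEt X}, (A ≅ B) → K A → K B
  zero : ∀ A : ModEt X, IsZero A → K A
  ses : ∀ T : ShortComplex (ModEt X), T.ShortExact → T.X₁.IsFinitePresentation →
      T.X₂.IsFinitePresentation → T.X₃.IsFinitePresentation →
        (K T.X₁ → K T.X₂ → K T.X₃) ∧ (K T.X₁ → K T.X₃ → K T.X₂) ∧ (K T.X₂ → K T.X₃ → K T.X₁)
  sum : ∀ A B : ModEt X, A.IsFinitePresentation → B.IsFinitePresentation → K (A ⊞ B) → K A ∧ K B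

instance preservesBinaryBiproducts_pushModEt {f : Z ⟶ X} (hf : Representable f) : PreservesBinaryBiproducts (pushModEt hf) :=
  preservesBinaryBiproducts_of_preservesBinaryProducts _

theorem Cls.push {K : ModEt X → Prop} (hK : Cls K) (hN : IsLocNoethSp X) {i : Z ⟶ X} (hi : RepWith @IsClosedImmersion i) :
    Cls (fun G : ModEt Z => K ((pushModEt hi.1).obj G)) where
  iso e h := hK.iso ((pushModEt hi.1).mapIso e) h
  zero A hA := hK.zero _ ((pushModEt hi.1).map_isZero hA)
  ses T hT h1 h2 h3 := hK.ses (T.map (pushModEt hi.1)) (shortExact_push hi hT)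
    (K612.FinPush.isFinitePresentation_push hi.1 hi hN _) (K612.FinPush.isFinitePresentation_push hi.1 hi hN _)
    (K612.FinPush.isFinitePresentation_push hi.1 hi hN _)
  sum A B hA hB h := hK.sum _ _ (K612.FinPush.isFinitePresentation_push hi.1 hi hN _)
    (K612.FinPush.isFinitePresentation_push hi.1 hi hN _) (hK.iso ((pushModEt hi.1).mapBiprod A B) h)

theorem ap_comp {F G H : ModEt X} (φ : F ⟶ G) (ψ : G ⟶ H) (E : EtOver X) (s : F.val.presheaf.obj (op E)) :
    ap (φ ≫ ψ) E s = ap ψ E (ap φ E s) := rfl

theorem ap_eq_zero_of_eq_zero {F G : ModEt X} (φ : F ⟶ G) (h : φ = 0) (E : EtOver X) (s : F.val.presheaf.obj (op E)) :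
    ap φ E s = 0 := by
  subst h; rfl

/-- The kernel of a morphism which is injective over `U` vanishes over `U`. -/
theorem van_kernel {A B : ModEt X} (φ : A ⟶ B) {U : Set (Points X)}
    (hφ : ∀ E : EtOver X, IsAffine E.obj.left.left → In U E → Function.Injective (ap φ E)) : Van (kernel φ) U := by
  intro E hE hU s
  apply ap_injective (kernel.ι φ) E
  rw [ap_zero]
  apply hφ E hE hU
  rw [ap_zero, ← ap_comp]
  exact ap_eq_zero_of_eq_zero _ (kernel.condition φ) E s

/-- The cokernel of a morphism which is surjective over `U` vanishes over `U`. -/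
theorem van_cokernel {A B : ModEt X} [B.IsQuasicoherent] [A.IsQuasicoherent] (φ : A ⟶ B) {U : Set (Points X)}
    (hφ : ∀ E : EtOver X, IsAffine E.obj.left.left → In U E → Function.Surjective (ap φ E)) : Van (cokernel φ) U := by
  intro E hE hU s
  obtain ⟨b, rfl⟩ := ap_surjective (cokernel.π φ) E hE s
  obtain ⟨a, rfl⟩ := hφ E hE hU b
  rw [← ap_comp]
  exact ap_eq_zero_of_eq_zero _ (cokernel.condition φ) E a

/-- A morphism of coherent modules which is bijective over `U`. -/
theorem Cls.iff_of_bijective {K : ModEt X → Prop} (hK : Cls K) (hN : IsLocNoethSp X) {A B : ModEt X} [A.IsFinitePresentation]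
    [B.IsFinitePresentation] (φ : A ⟶ B) {U : Set (Points X)}
    (hφ : ∀ E : EtOver X, IsAffine E.obj.left.left → In U E → Function.Bijective (ap φ E))
    (hs : ∀ G : ModEt X, G.IsFinitePresentation → Van G U → K G) : K A ↔ K B := by
  have hc : (cokernel φ).IsFinitePresentation := K751.Coh.isFinitePresentation_of_epi hN (cokernel.π φ)
  have hI : (Abelian.image φ).IsFinitePresentation :=
    have : (Abelian.image φ).IsQuasicoherent := inferInstanceAs (kernel (cokernel.π φ)).IsQuasicoherent
    K751.Coh.isFinitePresentation_of_mono hN (Abelian.image.ι φ)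
  have hk : (kernel φ).IsFinitePresentation := K751.Coh.isFinitePresentation_of_mono hN (kernel.ι φ)
  have hz : kernel.ι φ ≫ Abelian.factorThruImage φ = 0 := by
    rw [← cancel_mono (Abelian.image.ι φ), Category.assoc, Abelian.image.fac, kernel.condition, zero_comp]
  have s1 : (ShortComplex.mk (kernel.ι φ) (Abelian.factorThruImage φ) hz).ShortExact :=
    { exact := by
        refine ShortComplex.exact_of_f_is_kernel _ (KernelFork.IsLimit.ofι _ hz
          (fun {W} k hk => kernel.lift φ k (by
            rw [← Abelian.image.fac φ, ← Category.assoc, hk, zero_comp]))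
          (fun {W} k hk => kernel.lift_ι _ _ _) (fun {W} k hk m hm => by
            rw [← cancel_mono (kernel.ι φ)]
            exact hm.trans (kernel.lift_ι _ _ _).symm))
      mono_f := inferInstance
      epi_g := inferInstanceAs (Epi (Abelian.factorThruImage φ)) }
  have s2 : (ShortComplex.mk (Abelian.image.ι φ) (cokernel.π φ) (kernel.condition (cokernel.π φ))).ShortExact :=
    { exact := ShortComplex.exact_kernel (cokernel.π φ), mono_f := inferInstance, epi_g := inferInstance }
  have k1 : K (kernel φ) := hs _ hk (van_kernel φ fun E hE hU => (hφ E hE hU).1)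
  have k2 : K (cokernel φ) := hs _ hc (van_cokernel φ fun E hE hU => (hφ E hE hU).2)
  have e1 := hK.ses _ s1 hk inferInstance hI
  have e2 := hK.ses _ s2 hI inferInstance hc
  exact ⟨fun h => e2.2.1 (e1.1 k1 h) k2, fun h => e1.2.1 k1 (e2.2.2 h k2)⟩

end K647.DevCls
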