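import Groth.Agent.AlgSp.K647.DevCls
import Groth.Agent.AlgSp.K612.QcDesc

/-!
# Devissage: free modules
-/

set_option autoImplicit false
set_option linter.unusedSectionVars false
set_option backward.isDefEq.respectTransparency false
universe w v u

open CategoryTheory CategoryTheory.Limits AlgebraicGeometry Opposite TopologicalSpace

namespace K647.DevFree

section general

variable {C : Type v} [Category.{w} C] [Abelian C] (A : C)

/-- `A^(Option α) = A^α ⊞ A`. -/
noncomputable def optionIso (α : Type u) [HasCoproduct (fun _ : α => A)] [HasCoproduct (fun _ : Option α => A)] :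
    (∐ fun _ : Option α => A) ≅ (∐ fun _ : α => A) ⊞ A where
  hom := Sigma.desc (fun o => Option.rec biprod.inr (fun i => Sigma.ι (fun _ : α => A) i ≫ biprod.inl) o)
  inv := biprod.desc (Sigma.desc (fun i => Sigma.ι (fun _ : Option α => A) (some i))) (Sigma.ι (fun _ : Option α => A) none)
  hom_inv_id := by
    apply Sigma.hom_ext
    rintro (_ | i)
    · simp
    · simp
  inv_hom_id := by
    apply biprod.hom_ext'
    · apply Sigma.hom_ext
      intro i
      simp
    · simp

end general

open AlgSp K606.AffSub K606.Part K646.EtSite Groth.Agent.Etbase.FFExact K647.DevSub K647.DevPow K647.DevSes K647.DevPush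
open K644.Exact K644.Chart K612.ModPush K612.ClImm K647.DevCls

variable {S : Scheme.{u}} {X Z : Sp S}

noncomputable def unitM (X : Sp S) : ModEt X := SheafOfModules.unit _

noncomputable def freeOption (X : Sp S) (α : Type (u + 1)) : freeModEt X (Option α) ≅ freeModEt X α ⊞ unitM X :=
  optionIso (unitM X) α

noncomputable def freeEquiv (X : Sp S) {α β : Type (u + 1)} (e : α ≃ β) : freeModEt X α ≅ freeModEt X β :=
  Sigma.whiskerEquiv (f := fun _ : α => unitM X) (g := fun _ : β => unitM X) e (fun _ => Iso.refl _)

theorem isZero_free (X : Sp S) (α : Type (u + 1)) [IsEmpty α] : IsZero (freeModEt X α) :=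
  (IsZero.iff_id_eq_zero _).2 (Sigma.hom_ext (f := fun _ : α => unitM X) _ _ fun i => isEmptyElim i)

noncomputable def unitIso (X : Sp S) : freeModEt X PUnit.{u + 2} ≅ unitM X where
  hom := Sigma.desc (f := fun _ : PUnit.{u + 2} => unitM X) fun _ => 𝟙 _
  inv := Sigma.ι (fun _ : PUnit.{u + 2} => unitM X) PUnit.unit
  hom_inv_id := by
    refine Sigma.hom_ext (f := fun _ : PUnit.{u + 2} => unitM X) _ _ fun i => ?_
    cases i
    simp only [Sigma.ι_desc_assoc, Category.id_comp]
    exact (Category.comp_id _).symm
  inv_hom_id := by simp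

theorem fp_unit (hN : IsLocNoethSp X) : (unitM X).IsFinitePresentation := by
  have h1 := K623.GenFree.fp_free hN PUnit.{u + 2}
  have h3 : (freeModEt X PUnit.{u + 2}).IsQuasicoherent := inferInstance
  have h2 : (unitM X).IsQuasicoherent := K612.QcDesc.isQuasicoherent_of_iso (unitIso X)
  exact K751.Coh.isFinitePresentation_of_epi hN (unitIso X).hom

theorem free_of_unit {K : ModEt X → Prop} (hK : Cls K) (hN : IsLocNoethSp X) (h : K (unitM X)) (α : Type (u + 1)) [Finite α] :
    K (freeModEt X α) := by
  induction α using Finite.induction_empty_option with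
  | of_equiv e ih => exact hK.iso (freeEquiv X e) ih
  | h_empty => exact hK.zero _ (isZero_free X _)
  | h_option ih =>
    rename_i α _
    have h1 := K623.GenFree.fp_free hN α
    have h2 := fp_unit hN
    have h3 : (freeModEt X α ⊞ unitM X).IsFinitePresentation := K623.GenIso.fp_biprod hN _ _
    refine hK.iso (freeOption X α).symm ?_
    have s : (ShortComplex.mk (biprod.inl : freeModEt X α ⟶ freeModEt X α ⊞ unitM X) biprod.snd biprod.inl_snd).ShortExact :=
      (ShortComplex.Splitting.ofHasBinaryBiproduct (freeModEt X α) (unitM X)).shortExact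
    exact (hK.ses _ s h1 h3 h2).2.1 ih h

theorem unit_of_free {K : ModEt X → Prop} (hK : Cls K) (hN : IsLocNoethSp X) (α : Type (u + 1)) [Finite α] [Nonempty α]
    (h : K (freeModEt X α)) : K (unitM X) := by
  classical
  let a : α := Classical.arbitrary α
  have e : α ≃ Option {b : α // b ≠ a} := (Equiv.optionSubtypeNe a).symm
  have h1 := K623.GenFree.fp_free hN {b : α // b ≠ a}
  have h2 := fp_unit hN
  exact (hK.sum _ _ h1 h2 (hK.iso (freeEquiv X e ≪≫ freeOption X _) h)).2

end K647.DevFree
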