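import Groth.Agent.AlgSp.K647.DevFree
import Groth.Agent.AlgSp.K644.Stalk

/-!
# Devissage: the case of an integral space
-/

set_option autoImplicit false
set_option linter.unusedSectionVars false
set_option backward.isDefEq.respectTransparency false
universe u

open CategoryTheory CategoryTheory.Limits AlgebraicGeometry Opposite TopologicalSpace

namespace K647.DevInt

open AlgSp K606.AffSub K606.Part K646.EtSite Groth.Agent.Etbase.FFExact K647.DevSub K647.DevPow K647.DevSes K647.DevPush
open K644.Exact K644.Chart K612.ModPush K612.ClImm K647.DevCls K647.DevFree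

variable {S : Scheme.{u}}

theorem bijective_ap {X : Sp S} {A B : ModEt X} (φ : A ⟶ B) (E : EtOver X) (h : IsIso (φ.val.app (op E))) :
    Function.Bijective (ap φ E) := (K623.GenIso.isIso_app_iff φ E).1 h

/-- The generic comparison with a free module. -/
theorem exists_free [QuasiSeparatedSpace ↥S] (Y : Space S) (hqs : IsQuasiSeparatedSp Y.obj) (hN : IsLocNoethSp Y.obj)
    (hint : IsIntegralSp Y.obj) {K : ModEt Y.obj → Prop} (hK : Cls K)
    (hs : ∀ U : Set (Points Y.obj), IsOpen U → U.Nonempty → ∀ G : ModEt Y.obj, G.IsFinitePresentation → Van G U → K G)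
    (G : ModEt Y.obj) [G.IsFinitePresentation] :
    ∃ m : ℕ, (K G ↔ K (freeModEt Y.obj (ULift.{u + 1} (Fin m)))) ∧
      ((∀ y : FieldPt Y.obj, y.IsGeometric → ¬ IsZero (stalkEt y ((toAbEt Y.obj).obj G))) → m ≠ 0) := by
  obtain ⟨m, H, α, β, T, j, hH, hj, hT, hTn, -, h⟩ := K623.GenFree.exists_generic Y hqs hN hint G
  have hje := K623.Birat3.repWith_etale_of_isOpenImmersion hj
  have hU : IsOpen (Set.range (Points.map j)) := by
    rw [← K610.SchLocus.range_ofPt]
    exact (K623.Birat3.isOpenEmbedding_ofPt hj).isOpen_range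
  have hUn : (Set.range (Points.map j)).Nonempty := by
    rw [← K610.SchLocus.range_ofPt]
    exact Set.range_nonempty _
  have hf := K623.GenFree.fp_free hN (ULift.{u + 1} (Fin m))
  have h1 : ∀ E : EtOver Y.obj, In (Set.range (Points.map j)) E → Function.Bijective (ap α E) ∧ Function.Bijective (ap β E) :=
    fun E hE => by
      have h2 := h E (by rintro _ ⟨x, rfl⟩; exact hE x)
      exact ⟨bijective_ap α E h2.1, bijective_ap β E h2.2⟩
  have e1 : K H ↔ K (freeModEt Y.obj (ULift.{u + 1} (Fin m))) :=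
    hK.iff_of_bijective hN α (fun E _ hE => (h1 E hE).1) (hs _ hU hUn)
  have e2 : K H ↔ K G := hK.iff_of_bijective hN β (fun E _ hE => (h1 E hE).2) (hs _ hU hUn)
  refine ⟨m, e2.symm.trans e1, fun hst hm => ?_⟩
  subst hm
  obtain ⟨t⟩ := hTn
  let p := K611.chartPt j hje t
  have hp : p.IsGeometric := K611.isGeometric_geomPt _ _
  let W : EtOver Y.obj := EtOver.mk j hje
  obtain ⟨w⟩ : Nonempty ((FieldPt.liftsTo p).obj W) := by
    refine K644.Stalk.exists_lifts_of_mem_range p hp ?_
    exact ⟨t, (K611.mk_chartPt j hje t).symm⟩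
  refine hst p hp (K644.Stalk.isZero_of_nbhd G Y.property p hp (W := W) hT w fun s => ?_)
  have hW : In (Set.range (Points.map j)) W := fun x => by
    rw [← K610.SchLocus.range_ofPt]
    exact ⟨x, rfl⟩
  obtain ⟨s', rfl⟩ := (h1 W hW).2.2 s
  have h3 : ap α W s' = 0 := by
    have h4 := isZero_free Y.obj (ULift.{u + 1} (Fin 0))
    have h5 : α = 0 := h4.eq_of_tgt _ _
    exact ap_eq_zero_of_eq_zero α h5 W s'
  have h6 : s' = 0 := (h1 W hW).1.1 (h3.trans (ap_zero α W).symm)
  rw [h6]
  exact ap_zero β W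

/-- The case of an integral space. -/
theorem step_integral [QuasiSeparatedSpace ↥S] (Y : Space S) (hqs : IsQuasiSeparatedSp Y.obj) (hN : IsLocNoethSp Y.obj)
    (hint : IsIntegralSp Y.obj) {K : ModEt Y.obj → Prop} (hK : Cls K)
    (hs : ∀ U : Set (Points Y.obj), IsOpen U → U.Nonempty → ∀ G : ModEt Y.obj, G.IsFinitePresentation → Van G U → K G)
    (G' : ModEt Y.obj) [G'.IsFinitePresentation]
    (hst : ∀ y : FieldPt Y.obj, y.IsGeometric → ¬ IsZero (stalkEt y ((toAbEt Y.obj).obj G'))) (hG' : K G')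
    (G : ModEt Y.obj) [G.IsFinitePresentation] : K G := by
  obtain ⟨m, h1, h2⟩ := exists_free Y hqs hN hint hK hs G'
  have h3 := h2 hst
  have h4 : Nonempty (ULift.{u + 1} (Fin m)) := ⟨⟨⟨0, Nat.pos_of_ne_zero h3⟩⟩⟩
  have h5 := unit_of_free hK hN _ (h1.1 hG')
  obtain ⟨n, h6, -⟩ := exists_free Y hqs hN hint hK hs G
  exact h6.2 (free_of_unit hK hN h5 _)

end K647.DevInt
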