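import Groth.Agent.AlgSp.K647.DevInt
import Groth.Agent.S10496
import Groth.Agent.S10350
import Groth.Agent.AlgSp.K598.Red
import Groth.Agent.AlgSp.K636.EdExt
import Groth.Agent.AlgSp.K637.NagNoeth
import Groth.Agent.AlgSp.K637.NagCover
import Groth.Agent.AlgSp.K610.OpenImm

/-!
# Devissage: the Noetherian induction
-/

set_option autoImplicit false
set_option linter.unusedSectionVars false
set_option backward.isDefEq.respectTransparency false
universe u

open CategoryTheory CategoryTheory.Limits AlgebraicGeometry Opposite TopologicalSpace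

namespace K647.DevMain

open AlgSp K606.AffSub K606.Part K646.EtSite Groth.Agent.Etbase.FFExact K647.DevSub K647.DevPow K647.DevSes K647.DevPush
open K644.Exact K644.Chart K612.ModPush K612.ClImm K647.DevCls K647.DevFree K647.DevInt

variable {S : Scheme.{u}}

/-- A module killed by the zeroth power of an ideal. -/
theorem isZero_of_kills_zero {X : Sp S} {F : ModEt X} {I : IdealEt X} (hk : Kills (I ^ 0) F Set.univ) : IsZero F := by
  refine isZero_of_van fun E hE s => ?_
  rw [← one_smul Γ(E.obj.left.left, ⊤) s]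
  refine hk E hE (fun _ => trivial) 1 ?_ s
  change (1 : Γ(E.obj.left.left, ⊤)) ∈ I.ideal E hE ^ 0
  rw [pow_zero, Ideal.one_eq_top]
  trivial

/-- The induction on the power of the ideal. -/
theorem of_kills {X : Sp S} (hN : IsLocNoethSp X) {K : ModEt X → Prop} (hK : Cls K) {I : IdealEt X} (hI : I.IsQCoh)
    (h : ∀ Q : ModEt X, Q.IsFinitePresentation → Kills I Q Set.univ → K Q) (n : ℕ) :
    ∀ F : ModEt X, F.IsFinitePresentation → Kills (I ^ n) F Set.univ → K F := by
  induction n with
  | zero => exact fun F _ hk => hK.zero F (isZero_of_kills_zero hk)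
  | succ n ih =>
    intro F hF hk
    obtain ⟨F', Q, ι, π, w, hT, hF', hQ, hr⟩ := exists_ses hN F hI
    have hι : Mono ι := hT.mono_f
    have k1 : K F' := ih F' hF' (kills_sub ι n (fun E hE s hs => (hr E hE s).1 hs) hk)
    have k2 : K Q := h Q hQ (kills_quot hT hr)
    exact (hK.ses _ hT hF' hF hQ).2.1 k1 k2

theorem van_mono {X : Sp S} {F : ModEt X} {T T' : Set (Points X)} (h : Van F T) (hTT : T' ⊆ T) : Van F T' :=
  fun E hE hT s => h E hE (fun x => hTT (hT x)) s

/-- The Noetherian induction. -/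
theorem devissage [QuasiSeparatedSpace ↥S] (X : Space S) (hqc : IsQuasiCompactSp X.obj) (hqs : IsQuasiSeparatedSp X.obj)
    (hN : IsLocNoethSp X.obj) {K : ModEt X.obj → Prop} (hK : Cls K)
    (hgen : ∀ (Y : Space S) (i : Y ⟶ X) (hi : RepWith @IsClosedImmersion i.hom), IsIntegralSp Y.obj →
      ∃ G' : ModEt Y.obj, G'.IsFinitePresentation ∧
        (∀ y : FieldPt Y.obj, y.IsGeometric → ¬ IsZero (stalkEt y ((toAbEt Y.obj).obj G'))) ∧
          K ((pushModEt hi.1).obj G')) (C : Closeds (Points X.obj)) :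
    ∀ F : ModEt X.obj, F.IsFinitePresentation → Van F (C : Set (Points X.obj))ᶜ → K F := by
  have hNS : NoetherianSpace (Points X.obj) := K637.NagNoeth.noetherianSpace_points hN hqc
  have hwf : WellFoundedLT (Closeds (Points X.obj)) := inferInstance
  induction C using hwf.induction with
  | ind C IH =>
  intro F hF hv
  by_cases hne : (C : Set (Points X.obj)).Nonempty
  swap
  · rw [Set.not_nonempty_iff_eq_empty] at hne
    refine hK.zero F (isZero_of_van fun E hE s => hv E hE (fun x => ?_) s)
    rw [hne]; exact fun h => h.elim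
  by_cases hirr : IsPreirreducible (C : Set (Points X.obj))
  · obtain ⟨Z, i, hi, hint, hr⟩ := Groth.Agent.S10496.result X (Groth.Agent.S10350.result X hqs) C C.isClosed ⟨hne, hirr⟩
    obtain ⟨I, hI, hcut⟩ := K606.CutPts.exists_ideal X.property hi
    obtain ⟨n, hn⟩ := exists_pow (F := F) X.property hN hI hcut (K598.Red.isClosed_range hi) (T := Set.univ) isOpen_univ
      (van_mono hv (by rw [hr, Set.univ_inter]))
    refine of_kills hN hK hI (fun Q hQ hkQ => ?_) n F hF hn
    obtain ⟨G, hG, ⟨e⟩⟩ := exists_iso_push X.property hi hcut Q hkQ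
    refine hK.iso e.symm ?_
    have hm : Mono i.hom := K598.RepKit.mono_of_repWith_isClosedImmersion hi
    have hZqs : IsQuasiSeparatedSp Z.obj := K636.EdExt.isQuasiSeparatedSp_of_mono i.hom hqs
    have hZN : IsLocNoethSp Z.obj := K637.NagNoeth.isLocNoethSp_of_lft Z.property hN
      (K637.NagCover.locP_lft_of_isClosedImmersion hi)
    obtain ⟨G', hG', hst, hKG'⟩ := hgen Z i hi hint
    obtain ⟨hemb, -⟩ := K610.OpenImm.isEmbedding_points X.property (K610.OpenImm.repWith_isImmersion_of_closed hi)
    refine step_integral Z hZqs hZN hint (hK.push hN hi) (fun U hU hUn M hM hvM => ?_) G' hst hKG' G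
    have hcl : Topology.IsClosedEmbedding (Points.map i.hom) := ⟨hemb, K598.Red.isClosed_range hi⟩
    let D : Closeds (Points X.obj) := ⟨Points.map i.hom '' Uᶜ, hcl.isClosedMap _ hU.isClosed_compl⟩
    refine IH D ?_ _ (K612.FinPush.isFinitePresentation_push hi.1 hi hN M) (van_push hi hvM fun z hz => ?_)
    · refine lt_of_le_of_ne ?_ ?_
      · rintro _ ⟨z, -, rfl⟩
        change Points.map i.hom z ∈ (C : Set _)
        rw [← hr]; exact ⟨z, rfl⟩
      · intro hDC
        obtain ⟨z, hz⟩ := hUn
        have h1 : Points.map i.hom z ∈ (C : Set (Points X.obj)) := by rw [← hr]; exact ⟨z, rfl⟩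
        rw [← hDC] at h1
        obtain ⟨z', hz', he⟩ := h1
        exact hz' (hemb.injective he ▸ hz)
    · by_contra hzU
      exact hz ⟨z, hzU, rfl⟩
  · rw [isPreirreducible_iff_isClosed_union_isClosed] at hirr
    push Not at hirr
    obtain ⟨C1, C2, hC1, hC2, hCC, hn1, hn2⟩ := hirr
    let D1 : Closeds (Points X.obj) := ⟨C ∩ C1, C.isClosed.inter hC1⟩
    let D2 : Closeds (Points X.obj) := ⟨C ∩ C2, C.isClosed.inter hC2⟩
    have hD1 : D1 < C := by
      refine lt_of_le_of_ne (fun x hx => hx.1) fun h => hn1 fun x hx => ?_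
      rw [← h] at hx
      exact hx.2
    have hD2 : D2 < C := by
      refine lt_of_le_of_ne (fun x hx => hx.1) fun h => hn2 fun x hx => ?_
      rw [← h] at hx
      exact hx.2
    obtain ⟨Z, i, hZ, hred⟩ := K598.Red.exists_isRedInduced X.property (D1 : Set (Points X.obj)) D1.isClosed
    obtain ⟨hi, hr, -⟩ := hred
    obtain ⟨I, hI, hcut⟩ := K606.CutPts.exists_ideal X.property hi
    obtain ⟨n, hn⟩ := exists_pow (F := F) X.property hN hI hcut (K598.Red.isClosed_range hi) (T := (D2 : Set (Points X.obj))ᶜ)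
      D2.isClosed.isOpen_compl (van_mono hv (by
        rw [hr]
        rintro x ⟨hx2, hx1⟩ hx
        rcases hCC hx with h | h
        · exact hx1 ⟨hx, h⟩
        · exact hx2 ⟨hx, h⟩))
    obtain ⟨F', Q, ι, π, w, hT, hF', hQ, hr'⟩ := exists_ses hN F (isQCoh_pow hI n)
    have hι : Mono ι := hT.mono_f
    have k1 : K F' := IH D2 hD2 F' hF' (van_of_kills ι (fun E hE s hs => (hr' E hE s).1 hs) hn)
    have k2 : K Q := IH D1 hD1 Q hQ (by
      have := van_of_kills_range hcut n (kills_quot hT hr')
      rwa [hr] at this)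
    exact (hK.ses _ hT hF' hF hQ).2.1 k1 k2

theorem van_compl_top {X : Sp S} (F : ModEt X) : Van F ((⊤ : Closeds (Points X)) : Set (Points X))ᶜ := by
  intro E _ hT s
  have h1 : IsEmpty E.obj.left.left := ⟨fun x => hT x trivial⟩
  have h2 : Subsingleton Γ(E.obj.left.left, ⊤) := inferInstance
  have h3 : (1 : Γ(E.obj.left.left, ⊤)) • s = (0 : Γ(E.obj.left.left, ⊤)) • s :=
    congrArg (· • s) (Subsingleton.elim (1 : Γ(E.obj.left.left, ⊤)) 0)
  rwa [one_smul, zero_smul] at h3

end K647.DevMain
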