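import Groth.Agent.AlgSp.K647.DevSub
import Groth.Agent.AlgSp.K648.Sep
import Groth.Agent.AlgSp.K610.Noeth

/-!
# A power of the ideal kills a coherent module supported on the closed subspace
-/

set_option autoImplicit false
set_option linter.unusedSectionVars false
set_option backward.isDefEq.respectTransparency false
universe u

open CategoryTheory CategoryTheory.Limits AlgebraicGeometry Opposite TopologicalSpace

namespace K647.DevPow

open AlgSp K606.AffSub K606.Part K646.EtSite Groth.Agent.Etbase.FFExact K647.DevSub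

variable {S : Scheme.{u}} {X Z : Sp S}

theorem isQCoh_pow {I : IdealEt X} (hI : I.IsQCoh) (n : ℕ) : (I ^ n).IsQCoh := fun E E' g hE hE' => by
  change I.ideal E' hE' ^ n ≤ Ideal.map _ (I.ideal E hE ^ n)
  rw [Ideal.map_pow]
  exact Ideal.pow_right_mono (hI g hE hE') n

/-- Affine objects over an open set of points. -/
theorem exists_affine_open {T : Set (Points X)} (hT : IsOpen T) (E : EtOver X) (w : sch E)
    (hw : Points.ofPt E.obj.hom w ∈ T) :
    ∃ (E' : EtOver X) (g : E' ⟶ E), IsAffine E'.obj.left.left ∧ In T E' ∧ w ∈ Set.range (mor g) := by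
  let W : (sch E).Opens := ⟨Points.ofPt E.obj.hom ⁻¹' T, hT.preimage (Points.continuous_ofPt _)⟩
  obtain ⟨w', hw'⟩ : w ∈ Set.range (mor (opnι E W)) := by rw [range_opnι]; exact hw
  obtain ⟨E', g, -, hE', y, hy⟩ := exists_affine (opn E W) ⊤ ((etTop X).top_mem _) w'
  refine ⟨E', g ≫ opnι E W, hE', fun x => ?_, y, ?_⟩
  · rw [← ofPt_mor (g ≫ opnι E W)]
    have : mor (g ≫ opnι E W) x ∈ Set.range (mor (opnι E W)) := ⟨mor g x, rfl⟩
    rw [range_opnι] at this
    exact this
  · change mor (opnι E W) (mor g y) = w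
    rw [hy]; exact hw'

/-- Two objects have common affine refinements at points with the same image. -/
theorem exists_refine (E E' : EtOver X) (v : sch E) (w : sch E') (h : Points.ofPt E.obj.hom v = Points.ofPt E'.obj.hom w) :
    ∃ (V : EtOver X) (p : V ⟶ E) (q : V ⟶ E') (y : sch V), IsAffine V.obj.left.left ∧ mor p y = v ∧ mor q y = w := by
  obtain ⟨R, b, c, sq⟩ : ∃ (R : Over S) (b : R ⟶ E.obj.left) (c : R ⟶ E'.obj.left),
      IsPullback ((yon S).map b) ((yon S).map c) E.obj.hom E'.obj.hom :=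
    ⟨_, _, _, E.property.1.isPullback' E'.obj.hom⟩
  have hc : Etale c.left := E.property.2 _ _ _ sq
  obtain ⟨y, hy1, hy2⟩ := K610.Base.exists_of_isPullback_charts sq v w h
  let P := K606.ElemBridge.extO E' c hc
  let bP : P ⟶ E := EtOver.homMk b sq.w
  obtain ⟨V, g, -, hV, z, hz⟩ := exists_affine P ⊤ ((etTop X).top_mem _) y
  refine ⟨V, g ≫ bP, g ≫ K606.ElemBridge.extOHom E' c hc, z, hV, ?_, ?_⟩
  · change b.left (mor g z) = v
    rw [hz]; exact hy1
  · change c.left (mor g z) = w
    rw [hz]; exact hy2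

section

theorem smul_eq_zero_of_isBC {A B : Type*} [CommRing A] [CommRing B] {φ : A →+* B} {M M' : Type*} [AddCommGroup M]
    [AddCommGroup M'] [Module A M] [Module B M'] {ψ : M →+ M'} (h : IsBC φ ψ) {J : Ideal A}
    (hJ : ∀ b ∈ J, ∀ m : M, b • m = 0) {b : B} (hb : b ∈ J.map φ) (m' : M') : b • m' = 0 := by
  have h1 : m' ∈ Submodule.span B (Set.range fun m : M => ψ m) := by
    have := K644.Pres.IsBC.span_eq_top h (I := M) (fun m => m) (by
      rw [Set.range_id']; exact Submodule.span_univ)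
    rw [this]; trivial
  have h2 : b ∈ Submodule.span B (φ '' (J : Set A)) := hb
  clear hb
  induction h1 using Submodule.span_induction with
  | mem m' hm =>
    obtain ⟨m, rfl⟩ := hm
    induction h2 using Submodule.span_induction with
    | mem b hb =>
      obtain ⟨a, ha, rfl⟩ := hb
      change φ a • ψ m = 0
      rw [← h.choose, hJ a ha m, map_zero]
    | zero => rw [zero_smul]
    | add x y _ _ hx hy => rw [add_smul, hx, hy, add_zero]
    | smul c x _ hx => rw [smul_eq_mul, mul_smul, hx, smul_zero]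
  | zero => rw [smul_zero]
  | add x y _ _ hx hy => rw [smul_add, hx, hy, add_zero]
  | smul c x _ hx => rw [smul_comm, hx, smul_zero]

variable {F : ModEt X} [F.IsFinitePresentation]

theorem exists_pow_section (hN : IsLocNoethSp X) {I : IdealEt X} {i : Z ⟶ X} (hi : IsCutOutBy I i)
    {T : Set (Points X)} (hT : IsOpen T) (hF : Van F (T ∩ (Set.range (Points.map i))ᶜ)) (hc : IsClosed (Set.range (Points.map i)))
    (E : EtOver X) (hE : IsAffine E.obj.left.left) (hET : In T E) (s : F.val.presheaf.obj (op E)) :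
    ∃ n : ℕ, ∀ a ∈ I.ideal E hE ^ n, a • s = 0 := by
  have hNE : IsNoetherianRing Γ(E.obj.left.left, ⊤) := K751.Coh.isNoetherianRing hN E hE
  let J : Ideal Γ(E.obj.left.left, ⊤) := (Submodule.span Γ(E.obj.left.left, ⊤) {s}).annihilator
  have key : I.ideal E hE ≤ J.radical := by
    rw [← K606.SuppSub.zeroLocus_subset_iff]
    intro w hw
    rw [← K606.CutPts.mem_range_iff hi E hE w]
    by_contra hwi
    obtain ⟨E', g, hE', hIn, y, hy⟩ := exists_affine_open (hT.inter hc.isOpen_compl) E w ⟨hET w, hwi⟩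
    have h1 : F.val.presheaf.map g.op s = 0 := hF E' hE' hIn _
    have h2 := K648.Sep.map_annihilator_eq_top _ (flat_appTop g hE hE') (K606.QcSub.bcaff F g hE hE') s h1
    have h3 : (1 : Γ(E'.obj.left.left, ⊤)) ∈ J.map g.hom.left.left.appTop.hom := by
      rw [show J.map g.hom.left.left.appTop.hom = ⊤ from h2]; trivial
    have h4 : y ∈ E'.obj.left.left.zeroLocus (U := ⊤) ((J.map g.hom.left.left.appTop.hom : Ideal Γ(E'.obj.left.left, ⊤)) : Set Γ(E'.obj.left.left, ⊤)) := by
      rw [Ideal.map, Scheme.zeroLocus_span, Scheme.mem_zeroLocus_iff]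
      rintro _ ⟨a, ha, rfl⟩ hya
      refine (Scheme.mem_zeroLocus_iff _ _ _).1 hw a ha ?_
      have h6 : g.hom.left.left ⁻¹ᵁ (E.obj.left.left.basicOpen a) = _ := Scheme.preimage_basicOpen g.hom.left.left a
      have h7 : y ∈ g.hom.left.left ⁻¹ᵁ (E.obj.left.left.basicOpen a) := by rw [h6]; exact hya
      rw [← hy]
      exact h7
    have h5 := (Scheme.mem_zeroLocus_iff _ _ _).1 h4 1 h3
    simp at h5
  obtain ⟨n, hn⟩ := Ideal.exists_pow_le_of_le_radical_of_fg key (IsNoetherian.noetherian _)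
  exact ⟨n, fun a ha => (Submodule.mem_annihilator_span_singleton _ _).1 (hn ha)⟩

theorem exists_pow_object (hN : IsLocNoethSp X) {I : IdealEt X} {i : Z ⟶ X} (hi : IsCutOutBy I i)
    {T : Set (Points X)} (hT : IsOpen T) (hF : Van F (T ∩ (Set.range (Points.map i))ᶜ)) (hc : IsClosed (Set.range (Points.map i)))
    (E : EtOver X) (hE : IsAffine E.obj.left.left) (hET : In T E) :
    ∃ n : ℕ, ∀ a ∈ I.ideal E hE ^ n, ∀ s : F.val.presheaf.obj (op E), a • s = 0 := by
  obtain ⟨t, ht⟩ : ∃ t : Finset (F.val.presheaf.obj (op E)), Submodule.span Γ(E.obj.left.left, ⊤) (t : Set (F.val.presheaf.obj (op E))) = ⊤ :=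
    (K751.Coh.finite_sec F E hE).fg_top
  choose n hn using exists_pow_section (F := F) hN hi hT hF hc E hE hET
  refine ⟨t.sup n, fun a ha s => ?_⟩
  have hs : s ∈ Submodule.span Γ(E.obj.left.left, ⊤) (t : Set (F.val.presheaf.obj (op E))) := by rw [ht]; trivial
  induction hs using Submodule.span_induction with
  | mem s hs => exact hn s a (Ideal.pow_le_pow_right (Finset.le_sup hs) ha)
  | zero => exact smul_zero _
  | add x y _ _ hx hy => rw [smul_add, hx, hy, add_zero]
  | smul c x _ hx => rw [smul_comm, hx, smul_zero]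


/-- On an open set of points where `F` is supported on the closed subspace a power of the ideal kills `F`. -/
theorem exists_pow (hA : IsAlgSpace X) (hN : IsLocNoethSp X) [NoetherianSpace (Points X)] {I : IdealEt X}
    (hI : I.IsQCoh) {i : Z ⟶ X} (hi : IsCutOutBy I i) (hc : IsClosed (Set.range (Points.map i)))
    {T : Set (Points X)} (hT : IsOpen T) (hF : Van F (T ∩ (Set.range (Points.map i))ᶜ)) :
    ∃ n : ℕ, Kills (I ^ n) F T := by
  have hTc : IsCompact T := NoetherianSpace.isCompact T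
  have h1 : ∀ x : T, ∃ (E : EtOver X) (_ : IsAffine E.obj.left.left), In T E ∧
      (x : Points X) ∈ Set.range (Points.ofPt E.obj.hom) := by
    rintro ⟨x, hx⟩
    obtain ⟨E, hE, w, rfl⟩ := K606.CutPts.exists_affine_pt hA x
    obtain ⟨E', g, hE', hIn, y, rfl⟩ := exists_affine_open hT E w hx
    exact ⟨E', hE', hIn, y, (ofPt_mor g y).symm⟩
  choose E hE hIn hx using h1
  obtain ⟨t, ht⟩ := hTc.elim_finite_subcover (fun x : T => Set.range (Points.ofPt (E x).obj.hom))
    (fun x => (K610.Base.isOpenMap_ofPt_etale (E x).property).isOpen_range) (fun x hxT => Set.mem_iUnion.2 ⟨⟨x, hxT⟩, hx ⟨x, hxT⟩⟩)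
  choose n hn using fun x : T => exists_pow_object (F := F) hN hi hT hF hc (E x) (hE x) (hIn x)
  refine ⟨t.sup n, fun E' hE' hE'T a ha s => ?_⟩
  have h2 : ∀ w : ↥(sch E'), ∃ (E'' : EtOver X) (g : E'' ⟶ E'), IsAffine E''.obj.left.left ∧ w ∈ Set.range (mor g) ∧
      F.val.presheaf.map g.op (a • s) = 0 := by
    intro w
    obtain ⟨x, hxt, v, hv⟩ := Set.mem_iUnion₂.1 (ht (hE'T w))
    obtain ⟨V, p, q, v', hV, -, hq⟩ := exists_refine (E x) E' v w hv
    refine ⟨V, q, hV, ⟨v', hq⟩, ?_⟩
    rw [map_smul F q]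
    have ha' : q.hom.left.left.appTop.hom a ∈ ((I ^ (t.sup n)).ideal (E x) (hE x)).map p.hom.left.left.appTop.hom :=
      isQCoh_pow hI _ p (hE x) hV ((I ^ (t.sup n)).map_le q hE' hV (Ideal.mem_map_of_mem _ ha))
    refine smul_eq_zero_of_isBC (K606.QcSub.bcaff F p (hE x) hV) (fun b hb m => ?_) ha' _
    exact hn x b (Ideal.pow_le_pow_right (Finset.le_sup hxt) hb) m
  have h3 := mem_of_local_span (K606.QcSub.bcaff F) E' hE' ⊥ (a • s) fun w => by
    obtain ⟨E'', g, hE'', hw, h0⟩ := h2 w
    exact ⟨E'', g, hE'', hw, by rw [h0]; exact Submodule.zero_mem _⟩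
  exact (Submodule.mem_bot _).1 h3

end

end K647.DevPow
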