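import Groth.Agent.AlgSp.K647.DevSes
import Groth.Agent.AlgSp.K612.FinPush
import Groth.Agent.AlgSp.K623.GenFree

/-!
# Devissage: modules killed by the ideal of a closed subspace, direct images
-/

set_option autoImplicit false
set_option linter.unusedSectionVars false
set_option backward.isDefEq.respectTransparency false
universe u

open CategoryTheory CategoryTheory.Limits AlgebraicGeometry Opposite TopologicalSpace

namespace K647.DevPush

open AlgSp K606.AffSub K606.Part K646.EtSite Groth.Agent.Etbase.FFExact K647.DevSub K647.DevPow K647.DevSes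
open K644.Exact K644.Chart K612.ModPush K612.ClImm

variable {S : Scheme.{u}} {X Z : Sp S}

/-- Coherent modules killed by the ideal are direct images. -/
theorem exists_iso_push (hA : IsAlgSpace X) {i : Z ⟶ X} (hi : RepWith @IsClosedImmersion i) {I : IdealEt X} (h : IsCutOutBy I i)
    (F : ModEt X) [F.IsFinitePresentation] (hk : Kills I F Set.univ) :
    ∃ G : ModEt Z, G.IsFinitePresentation ∧ Nonempty (F ≅ (pushModEt hi.1).obj G) := by
  have h1 : IsIso ((pullPushAdjModEt hi.1).unit.app F) := by
    refine isIso_unit hi.1 hi F fun E hE a s ha => ?_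
    obtain ⟨hi', rfl⟩ := h
    exact hk E hE (fun _ => trivial) a ha s
  exact ⟨(pullModEt hi.1).obj F, K612.PullQc.isFinitePresentation_pullModEt hi.1 (K612.PullQc.hasAtlas_of_isAlgSpace hA) F,
    ⟨asIso ((pullPushAdjModEt hi.1).unit.app F)⟩⟩

/-- Direct images of short exact sequences of quasi-coherent modules. -/
theorem shortExact_push {i : Z ⟶ X} (hi : RepWith @IsClosedImmersion i) {T : ShortComplex (ModEt Z)} (hT : T.ShortExact)
    [T.X₂.IsQuasicoherent] [T.X₃.IsQuasicoherent] : (T.map (pushModEt hi.1)).ShortExact := by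
  have hm := hT.mono_f
  have he := hT.epi_g
  have h1 : (T.map (pushModEt hi.1)).Exact := hT.exact.map_of_mono_of_preservesKernel _ hm inferInstance
  exact { exact := h1, mono_f := inferInstanceAs (Mono ((pushModEt hi.1).map T.f)),
          epi_g := epi_pushModEt (isAff_of_isClosedImmersion hi.1 hi) T.g }

/-- Vanishing of a direct image. -/
theorem van_push {i : Z ⟶ X} (hi : RepWith @IsClosedImmersion i) {G : ModEt Z} {T : Set (Points Z)} (hG : Van G T)
    {T' : Set (Points X)} (h : ∀ z : Points Z, Points.map i z ∈ T' → z ∈ T) : Van ((pushModEt hi.1).obj G) T' := by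
  intro E hE hET s
  refine hG ((EtOver.bc hi.1).obj E) (surjective_appTop hi.1 hi E hE).1 (fun x => h _ ?_) s
  have sq := EtOver.isPullback_bcObj hi.1 E
  have h1 : Points.map i (Points.ofPt ((EtOver.bc hi.1).obj E).obj.hom x) =
      Points.ofPt E.obj.hom ((EtOver.bcπ hi.1 E).left x) := by
    rw [← K610.Base.ofPt_comp, ← K610.Base.ofPt_map_comp]
    exact congrArg (fun k => Points.ofPt k x) sq.w
  rw [h1]
  exact hET _

end K647.DevPush
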