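import Groth.Agent.AlgSp.K647.DevPow

/-!
# The exact sequence `0 → I F → F → F / I F → 0`
-/

set_option autoImplicit false
set_option linter.unusedSectionVars false
set_option backward.isDefEq.respectTransparency false
universe u

open CategoryTheory CategoryTheory.Limits AlgebraicGeometry Opposite TopologicalSpace

namespace K647.DevSes

open AlgSp K606.AffSub K606.Part K646.EtSite Groth.Agent.Etbase.FFExact K647.DevSub K647.DevPow
open K644.Exact K644.Chart

variable {S : Scheme.{u}} {X Z : Sp S}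

/-- Sections of a morphism. -/
noncomputable def ap {F G : ModEt X} (φ : F ⟶ G) (E : EtOver X) (s : F.val.presheaf.obj (op E)) :
    G.val.presheaf.obj (op E) := smap (EtOver.toScheme X) φ E s

theorem ap_smul {F G : ModEt X} (φ : F ⟶ G) (E : EtOver X) (a : Γ(E.obj.left.left, ⊤))
    (s : F.val.presheaf.obj (op E)) : ap φ E (a • s) = a • ap φ E s :=
  (smap (EtOver.toScheme X) φ E).map_smul a s

theorem ap_zero {F G : ModEt X} (φ : F ⟶ G) (E : EtOver X) : ap φ E 0 = 0 :=
  (smap (EtOver.toScheme X) φ E).map_zero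

theorem ap_surjective {F G : ModEt X} [F.IsQuasicoherent] [G.IsQuasicoherent] (φ : F ⟶ G) [Epi φ] (E : EtOver X)
    (hE : IsAffine E.obj.left.left) : Function.Surjective (ap φ E) :=
  surjective_of_epi (T := EtOver.toScheme X) (isQC F) (isQC G) φ E hE

theorem ap_injective {F G : ModEt X} (φ : F ⟶ G) [Mono φ] (E : EtOver X) : Function.Injective (ap φ E) :=
  K751.Coh.injective_of_mono φ E

theorem ap_exact {T : ShortComplex (ModEt X)} (hT : T.ShortExact) (E : EtOver X) (s : T.X₂.val.presheaf.obj (op E)) :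
    ap T.g E s = 0 ↔ s ∈ Set.range (ap T.f E) :=
  (K644.Ses.leftExact_sections (T := EtOver.toScheme X) hT E).2 s

/-- A module with only zero sections over affine objects is zero. -/
theorem isZero_of_van {F : ModEt X} (h : ∀ (E : EtOver X), IsAffine E.obj.left.left → ∀ s : F.val.presheaf.obj (op E), s = 0) :
    IsZero F := by
  refine (IsZero.iff_id_eq_zero F).2 (hom_ext_affine (T := EtOver.toScheme X) _ _ fun E hE x => ?_)
  have h1 : x = 0 := h E hE x
  subst h1
  exact (map_zero _).trans (map_zero _).symm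

/-- The exact sequence `0 → I F → F → F / I F → 0`. -/
theorem exists_ses (hN : IsLocNoethSp X) (F : ModEt X) [F.IsFinitePresentation] {I : IdealEt X} (hI : I.IsQCoh) :
    ∃ (F' Q : ModEt X) (ι : F' ⟶ F) (π : F ⟶ Q) (w : ι ≫ π = 0), (ShortComplex.mk ι π w).ShortExact ∧
      F'.IsFinitePresentation ∧ Q.IsFinitePresentation ∧
      ∀ (E : EtOver X) (hE : IsAffine E.obj.left.left) (s : F.val.presheaf.obj (op E)),
        s ∈ Set.range (ap ι E) ↔ s ∈ (I.ideal E hE • ⊤ : Submodule Γ(E.obj.left.left, ⊤) (F.val.presheaf.obj (op E))) := by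
  obtain ⟨F', ι, hι, hq, h⟩ := K606.QcSub.exists_sub (smulSub F I hI)
  have h1 : F'.IsFinitePresentation := K751.Coh.isFinitePresentation_of_mono hN ι
  have h2 : (cokernel ι).IsFinitePresentation := K751.Coh.isFinitePresentation_of_epi hN (cokernel.π ι)
  refine ⟨F', cokernel ι, ι, cokernel.π ι, cokernel.condition ι,
    { exact := ShortComplex.exact_cokernel ι, mono_f := hι, epi_g := inferInstance }, h1, h2, fun E hE s => ?_⟩
  exact Set.ext_iff.1 (h E hE) s

/-- The quotient is killed by the ideal. -/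
theorem kills_quot {F' F Q : ModEt X} [F.IsQuasicoherent] [Q.IsQuasicoherent] {I : IdealEt X} {ι : F' ⟶ F} {π : F ⟶ Q} {w : ι ≫ π = 0}
    (hT : (ShortComplex.mk ι π w).ShortExact) (h : ∀ (E : EtOver X) (hE : IsAffine E.obj.left.left) (s : F.val.presheaf.obj (op E)),
        s ∈ Set.range (ap ι E) ↔ s ∈ (I.ideal E hE • ⊤ : Submodule Γ(E.obj.left.left, ⊤) (F.val.presheaf.obj (op E)))) :
    Kills I Q Set.univ := by
  intro E hE _ a ha s
  have := hT.epi_g
  have hπ : Epi π := this
  obtain ⟨t, rfl⟩ := ap_surjective π E hE s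
  rw [← ap_smul]
  exact (ap_exact hT E (a • t)).2 ((h E hE _).2 (Submodule.smul_mem_smul ha trivial))

theorem van_quot {F Q : ModEt X} [F.IsQuasicoherent] [Q.IsQuasicoherent] (π : F ⟶ Q) [Epi π] {T : Set (Points X)}
    (h : Van F T) : Van Q T := by
  intro E hE hT s
  obtain ⟨t, rfl⟩ := ap_surjective π E hE s
  rw [h E hE hT t, ap_zero]

theorem van_sub {F' F : ModEt X} (ι : F' ⟶ F) [Mono ι] {T : Set (Points X)}
    (h : Van F T) : Van F' T := by
  intro E hE hT s
  apply ap_injective ι E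
  rw [h E hE hT (ap ι E s), ap_zero]

/-- `I F` vanishes where `I` kills `F`. -/
theorem van_of_kills {F' F : ModEt X} {I : IdealEt X} (ι : F' ⟶ F) [Mono ι] {T : Set (Points X)}
    (h : ∀ (E : EtOver X) (hE : IsAffine E.obj.left.left) (s : F.val.presheaf.obj (op E)),
        s ∈ Set.range (ap ι E) → s ∈ (I.ideal E hE • ⊤ : Submodule Γ(E.obj.left.left, ⊤) (F.val.presheaf.obj (op E))))
    (hk : Kills I F T) : Van F' T := by
  intro E hE hT s
  apply ap_injective ι E
  rw [ap_zero]
  refine Submodule.smul_induction_on (h E hE _ ⟨s, rfl⟩) (fun a ha t _ => hk E hE hT a ha t) (fun x y hx hy => ?_)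
  rw [hx, hy, add_zero]

/-- If `I ^ (n + 1)` kills `F` then `I ^ n` kills `I F`. -/
theorem kills_sub {F' F : ModEt X} {I : IdealEt X} (ι : F' ⟶ F) [Mono ι] {T : Set (Points X)} (n : ℕ)
    (h : ∀ (E : EtOver X) (hE : IsAffine E.obj.left.left) (s : F.val.presheaf.obj (op E)),
        s ∈ Set.range (ap ι E) → s ∈ (I.ideal E hE • ⊤ : Submodule Γ(E.obj.left.left, ⊤) (F.val.presheaf.obj (op E))))
    (hk : Kills (I ^ (n + 1)) F T) : Kills (I ^ n) F' T := by
  intro E hE hT a ha s
  apply ap_injective ι E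
  rw [ap_smul, ap_zero]
  refine Submodule.smul_induction_on (h E hE _ ⟨s, rfl⟩) (fun b hb t _ => ?_) (fun x y hx hy => ?_)
  · rw [← mul_smul]
    refine hk E hE hT (a * b) ?_ t
    change a * b ∈ I.ideal E hE ^ (n + 1)
    rw [pow_succ]
    exact Ideal.mul_mem_mul ha hb
  · rw [smul_add, hx, hy, add_zero]

/-- `F / I F` vanishes off the closed subspace. -/
theorem van_of_kills_range {Q : ModEt X} {I : IdealEt X} {i : Z ⟶ X} (hi : IsCutOutBy I i) (n : ℕ)
    (hk : Kills (I ^ n) Q Set.univ) : Van Q (Set.range (Points.map i))ᶜ := by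
  intro E hE hT s
  have h1 : I.ideal E hE = ⊤ := by
    have h2 : E.obj.left.left.zeroLocus (U := ⊤) (I.ideal E hE : Set Γ(E.obj.left.left, ⊤)) ⊆
        E.obj.left.left.zeroLocus (U := ⊤) ((⊤ : Ideal Γ(E.obj.left.left, ⊤)) : Set Γ(E.obj.left.left, ⊤)) := by
      intro w hw
      rw [← K606.CutPts.mem_range_iff hi E hE] at hw
      exact absurd hw (hT w)
    rw [K606.SuppSub.zeroLocus_subset_iff] at h2
    exact Ideal.radical_eq_top.1 (top_le_iff.1 h2)
  rw [← one_smul Γ(E.obj.left.left, ⊤) s]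
  refine hk E hE (fun _ => trivial) 1 ?_ s
  change (1 : Γ(E.obj.left.left, ⊤)) ∈ I.ideal E hE ^ n
  rw [h1, Ideal.top_pow]
  trivial

end K647.DevSes
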