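import Groth.Agent.AlgSp.K606.CutPts
import Groth.Agent.AlgSp.K606.QcSub
import Groth.Agent.AlgSp.K751.Coh
import Groth.Agent.AlgSp.K612.ClImm
import Groth.Agent.AlgSp.K644.Pres

/-!
# Devissage of coherent modules: vanishing over a set of points, the submodule `I F`
-/

set_option autoImplicit false
set_option linter.unusedSectionVars false
set_option backward.isDefEq.respectTransparency false
universe u

open CategoryTheory CategoryTheory.Limits AlgebraicGeometry Opposite

namespace K647.DevSub

open AlgSp K606.AffSub K606.Part K646.EtSite Groth.Agent.Etbase.FFExact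

section algebra

variable {A B : Type*} [CommRing A] [CommRing B] {φ : A →+* B} {M M' : Type*} [AddCommGroup M]
  [AddCommGroup M'] [Module A M] [Module B M'] {ψ : M →+ M'}

theorem smul_top_le (h : IsBC φ ψ) (I : Ideal A) {I' : Ideal B} (hI : I' ≤ I.map φ) :
    I' • (⊤ : Submodule B M') ≤ Submodule.span B (ψ '' ((I • (⊤ : Submodule A M) : Submodule A M) : Set M)) := by
  refine Submodule.smul_le.2 fun b hb m' hm' => ?_
  have h1 : m' ∈ Submodule.span B (Set.range fun m : M => ψ m) := by
    have := K644.Pres.IsBC.span_eq_top h (I := M) (fun m => m) (by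
      rw [Set.range_id']; exact Submodule.span_univ)
    rw [this]; trivial
  have h2 : b ∈ Submodule.span B (φ '' (I : Set A)) := hI hb
  clear hb hm'
  induction h1 using Submodule.span_induction with
  | mem m' hm =>
    obtain ⟨m, rfl⟩ := hm
    induction h2 using Submodule.span_induction with
    | mem b hb =>
      obtain ⟨a, ha, rfl⟩ := hb
      rw [← h.choose]
      exact Submodule.subset_span ⟨a • m, Submodule.smul_mem_smul ha trivial, rfl⟩
    | zero => rw [zero_smul]; exact Submodule.zero_mem _
    | add x y _ _ hx hy => rw [add_smul]; exact Submodule.add_mem _ hx hy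
    | smul c x _ hx => rw [smul_eq_mul, mul_smul]; exact Submodule.smul_mem _ _ hx
  | zero => rw [smul_zero]; exact Submodule.zero_mem _
  | add x y _ _ hx hy => rw [smul_add]; exact Submodule.add_mem _ hx hy
  | smul c x _ hx => rw [smul_comm]; exact Submodule.smul_mem _ _ hx

end algebra

variable {S : Scheme.{u}} {X : Sp S}

/-- `F` has only zero sections over affine objects lying over `T`. -/
def Van (F : ModEt X) (T : Set (Points X)) : Prop :=
  ∀ E : EtOver X, IsAffine E.obj.left.left → In T E → ∀ s : F.val.presheaf.obj (op E), s = 0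

/-- The functions of `I` kill the sections of `F` over affine objects lying over `T`. -/
def Kills (I : IdealEt X) (F : ModEt X) (T : Set (Points X)) : Prop :=
  ∀ (E : EtOver X) (hE : IsAffine E.obj.left.left), In T E → ∀ a ∈ I.ideal E hE,
    ∀ s : F.val.presheaf.obj (op E), a • s = 0

/-- The family `I F`. -/
noncomputable def smulSub (F : ModEt X) [F.IsQuasicoherent] (I : IdealEt X) (hI : I.IsQCoh) : Sub F where
  sub E hE := I.ideal E hE • ⊤
  map_mem {E E'} g hE hE' s hs := by
    refine Submodule.smul_induction_on hs (fun a ha t _ => ?_) (fun x y hx hy => ?_)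
    · rw [map_smul F g]
      exact Submodule.smul_mem_smul (I.map_le g hE hE' (Ideal.mem_map_of_mem _ ha)) trivial
    · rw [map_add]; exact Submodule.add_mem _ hx hy
  le_span {E E'} g hE hE' := smul_top_le (K606.QcSub.bcaff F g hE hE') _ (hI g hE hE')

end K647.DevSub
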