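import Groth.Agent.AlgSp.K647.QcIdl
import Groth.Agent.Ega1.AnnIdealNoeth

/-!
# Extension of finite type ideals from an etale chart to the space

`exists_ft_of_etale`: `X` a space with `(QC)`, `c : h_B ⟶ X` etale, quasi-compact and quasi-separated, `𝓘` a finite type
ideal on `B` whose two pullbacks to `B ×_X B` agree: then there is a family of finite type ideals on `X` restricting to
`𝓘` on `B`.
-/

set_option autoImplicit false
universe u

open CategoryTheory CategoryTheory.Limits AlgebraicGeometry Opposite TopologicalSpace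

set_option backward.isDefEq.respectTransparency false

namespace K647.EtExt

open AlgSp K598.ClFam K598.Charts K598.RepKit K647.Idl K647.FamOps K647.QcIdl BlowUp
open Groth.Agent.Divis Groth.Agent.Divis.IdealComap

theorem exists_pow_le {X : Scheme.{u}} [CompactSpace X] {I J : X.IdealSheafData} (hJ : IsFiniteTypeIdeal J)
    (h : ∀ x, x ∈ I.support → x ∈ J.support) : ∃ n : ℕ, J ^ n ≤ I := by
  have hr : J ≤ I.radical := Groth.Agent.Ega1.AnnIdealNoeth.le_radical_of_support_le h
  obtain ⟨s, hs⟩ := IsOpenCover.exists_finite_of_compactSpace (iSup_affineOpens_eq_top X)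
  have key : ∀ U : X.affineOpens, ∃ n : ℕ, J.ideal U ^ n ≤ I.ideal U := fun U =>
    Ideal.exists_pow_le_of_le_radical_of_fg (hr U) (hJ U)
  choose n hn using key
  refine ⟨s.sup n, ?_⟩
  refine Scheme.IdealSheafData.le_of_iSup_eq_top (ι := s) (fun i => i.1) hs fun i => ?_
  exact (Ideal.pow_le_pow_right (Finset.le_sup (f := n) i.2)).trans (hn i.1)

theorem map_comap_of_isIso {X Y : Scheme.{u}} (e : X ⟶ Y) [IsIso e] (K : Y.IdealSheafData) :
    (K.comap e).map e = K := by
  apply le_antisymm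
  · have h1 : ((K.comap e).map e).comap e ≤ K.comap e := Scheme.IdealSheafData.le_map_iff_comap_le.1 le_rfl
    have h2 : (((K.comap e).map e).comap e).comap (inv e) ≤ (K.comap e).comap (inv e) :=
      Scheme.IdealSheafData.comap_mono (inv e) h1
    rwa [← Scheme.IdealSheafData.comap_comp, ← Scheme.IdealSheafData.comap_comp, IsIso.inv_hom_id,
      Scheme.IdealSheafData.comap_id, Scheme.IdealSheafData.comap_id] at h2
  · exact Scheme.IdealSheafData.le_map_iff_comap_le.2 le_rfl

variable {S : Scheme.{u}} {X Y : Sp S}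

/-- powers of a family of ideals -/
noncomputable def pow (A : Fam Y) (n : ℕ) : Fam Y where
  I g := A.I g ^ n
  comap φ g := by rw [A.comap, comap_pow]

@[simp] theorem pow_I (A : Fam Y) (n : ℕ) {T : Over S} (g : (yon S).obj T ⟶ Y) : (pow A n).I g = A.I g ^ n := rfl

theorem isFT_pow {X : Scheme.{u}} {I : X.IdealSheafData} (h : IsFiniteTypeIdeal I) (n : ℕ) :
    IsFiniteTypeIdeal (I ^ n) := by
  intro U
  rw [Scheme.IdealSheafData.ideal_pow]
  exact Ideal.FG.pow (h U)

theorem FT.pow {A : Fam Y} (h : FT A) (n : ℕ) : FT (pow A n) := fun _ g => isFT_pow (h g) n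

theorem exists_ft_of_etale [QuasiSeparatedSpace ↥S] (hX : IsAlgSpace X) (hqc : IsQuasiCompactSp X)
    (hqs : IsQuasiSeparatedSp X) {B : Over S} [CompactSpace B.left] [QuasiSeparatedSpace B.left]
    {c : (yon S).obj B ⟶ X} (hc : RepWith @Etale c) (𝓘 : B.left.IdealSheafData) (h𝓘 : IsFiniteTypeIdeal 𝓘)
    (hd : ∀ (T : Over S) (a b : T ⟶ B), (yon S).map a ≫ c = (yon S).map b ≫ c → 𝓘.comap a.left = 𝓘.comap b.left) :
    ∃ A : Fam X, FT A ∧ A.I c = 𝓘 := by
  have hQ : QC X := qc_of_qcqs ⟨X, hX⟩ hqc hqs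
  obtain ⟨V, φ, hV, hφ, hφ'⟩ := K609.QC.exists_affine_chart hqc
  -- `P = V ×_X B`
  obtain ⟨P, q, p, sqP⟩ := exists_prod (a := c) (b := φ) hc.1
  have hq : Etale q.left := hφ.2 _ _ _ sqP.flip
  have hq' : Surjective q.left := hφ'.2 _ _ _ sqP.flip
  have hp : Etale p.left := hc.2 _ _ _ sqP
  have hPc : CompactSpace P.left := K609.Sep.compactSpace_pullback hqs sqP
  have hpq : QuasiCompact p.left := quasiCompact_of_compactSpace p.left
  have hVs : IsSeparated V.hom := by
    have h1 : IsSeparated (V.hom ≫ terminal.from S) := by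
      rw [terminal.hom_ext (V.hom ≫ terminal.from S) (terminal.from V.left)]
      infer_instance
    exact IsSeparated.of_comp V.hom (terminal.from S)
  have hqsep : IsSeparated q.left := K609.Sep.isSeparated_snd_left sqP.flip
  have hPs : QuasiSeparatedSpace P.left := by
    have h1 : QuasiSeparated q.left := inferInstance
    exact quasiSeparatedSpace_of_quasiSeparated q.left
  have hps : QuasiSeparated p.left := inferInstance
  -- the direct image on `V`
  obtain ⟨N, hN⟩ : ∃ N, N = (𝓘.comap q.left).map p.left := ⟨_, rfl⟩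
  have hNd : ∀ (T : Over S) (a : T ⟶ V), ∃ (P' : Over S) (q' : P' ⟶ B) (p' : P' ⟶ T),
      IsPullback ((yon S).map q') ((yon S).map p') c ((yon S).map a ≫ φ) ∧
      (Flat a.left → N.comap a.left = (𝓘.comap q'.left).map p'.left) := by
    intro T a
    have sqp : IsPullback (pullback.fst p a) (pullback.snd p a) p a := IsPullback.of_hasPullback _ _
    have sq1 := (yon_isPullback sqp).paste_horiz sqP
    rw [← Functor.map_comp] at sq1
    refine ⟨_, _, _, sq1, fun ha => ?_⟩
    rw [hN, SatSch.map_comap_of_isPullback (forget_isPullback sqp), ← Scheme.IdealSheafData.comap_comp,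
      ← Over.comp_left]
  -- independence of the chart map
  have hNu : ∀ (T : Over S) (a b : T ⟶ V), Flat a.left → Flat b.left →
      (yon S).map a ≫ φ = (yon S).map b ≫ φ → N.comap a.left = N.comap b.left := by
    intro T a b ha hb hab
    obtain ⟨P₁, q₁, p₁, sq₁, h₁⟩ := hNd T a
    obtain ⟨P₂, q₂, p₂, sq₂, h₂⟩ := hNd T b
    rw [h₁ ha, h₂ hb]
    rw [← hab] at sq₂
    obtain ⟨e, he⟩ := (yon S).map_surjective (sq₁.isoIsPullback _ _ sq₂).hom
    have hiso : IsIso ((yon S).map e) := by rw [he]; infer_instance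
    have hiso' : IsIso e := isIso_of_fully_faithful (yon S) e
    have e1 : e ≫ q₂ = q₁ := (yon S).map_injective (by
      rw [Functor.map_comp, he]; exact sq₁.isoIsPullback_hom_fst _ _ sq₂)
    have e2 : e ≫ p₂ = p₁ := (yon S).map_injective (by
      rw [Functor.map_comp, he]; exact sq₁.isoIsPullback_hom_snd _ _ sq₂)
    have hei : IsIso e.left := inferInstanceAs (IsIso ((Over.forget S).map e))
    rw [← e1, ← e2, Over.comp_left, Over.comp_left, Scheme.IdealSheafData.comap_comp,
      Scheme.IdealSheafData.map_comp]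
    rw [map_comap_of_isIso]
  -- the family
  obtain ⟨R, r₁, r₂, sqR⟩ := exists_prod (a := φ) (b := φ) hφ.1
  have hr₁ : Etale r₁.left := hφ.2 _ _ _ sqR.flip
  have hr₂ : Etale r₂.left := hφ.2 _ _ _ sqR
  have hR := hNu R r₁ r₂ inferInstance inferInstance sqR.w
  obtain ⟨𝓜, h𝓜⟩ := (ChartFam.single hφ hφ').exists_fam (fun _ => N) (by
    intro _ _ T a b hab
    obtain ⟨e, he⟩ := (yon S).map_surjective (sqR.lift _ _ hab)
    have h1 : e ≫ r₁ = a := (yon S).map_injective (by rw [Functor.map_comp, he, IsPullback.lift_fst])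
    have h2 : e ≫ r₂ = b := (yon S).map_injective (by rw [Functor.map_comp, he, IsPullback.lift_snd])
    change N.comap a.left = N.comap b.left
    rw [← h1, ← h2, Over.comp_left, Over.comp_left, Scheme.IdealSheafData.comap_comp,
      Scheme.IdealSheafData.comap_comp, hR])
  have h𝓜' : 𝓜.I φ = N := h𝓜 PUnit.unit
  have h𝓜q : (𝓜.I c).comap q.left = N.comap p.left := by
    rw [← 𝓜.comap, sqP.w, 𝓜.comap, h𝓜']
  have hle : 𝓘 ≤ 𝓜.I c := by
    refine ideal_le₁ q.left ?_
    rw [h𝓜q]
    obtain ⟨P₁, q₁, p₁, sq₁, h₁⟩ := hNd P p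
    rw [h₁ inferInstance, hd P₁ q₁ (p₁ ≫ q) (by
      rw [sq₁.w, Functor.map_comp, Category.assoc, sqP.w]), Over.comp_left, Scheme.IdealSheafData.comap_comp]
    exact Scheme.IdealSheafData.le_map_iff_comap_le.2 le_rfl
  have hge : 𝓜.I c ≤ 𝓘 := by
    refine ideal_le₁ q.left ?_
    rw [h𝓜q, hN]
    exact Scheme.IdealSheafData.le_map_iff_comap_le.1 le_rfl
  obtain ⟨A, hA, hA', hA''⟩ := hQ 𝓜 B c 𝓘 h𝓘 hle
  exact ⟨A, hA', le_antisymm ((hA B c).trans hge) hA''⟩

end K647.EtExt
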