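import Groth.Agent.AlgSp.K647.Idl

/-!
# Etale charts of a fibre product of algebraic spaces, adapted to charts of the factors
-/

set_option autoImplicit false
universe u

open CategoryTheory CategoryTheory.Limits AlgebraicGeometry Opposite

set_option backward.isDefEq.respectTransparency false

namespace K647.FibChart

open AlgSp K647.Idl

variable {S : Scheme.{u}}

/-- `h_{U₀} ×_Y h_{V₀} ⟶ X ×_Y Y'` has the properties of the charts. -/
theorem exists_prod_chart {X Y X' Y' : Sp S} {f : X ⟶ Y} {g : Y' ⟶ Y} {g' : X' ⟶ X} {f' : X' ⟶ Y'}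
    (hX' : IsPullback g' f' f g) {U₀ V₀ : Over S} {a : (yon S).obj U₀ ⟶ X} {c : (yon S).obj V₀ ⟶ Y'}
    (hr : Representable (a ≫ f)) :
    ∃ (P : Over S) (α : P ⟶ U₀) (β : P ⟶ V₀) (m : (yon S).obj P ⟶ X'),
      IsPullback ((yon S).map α) ((yon S).map β) (a ≫ f) (c ≫ g) ∧
      m ≫ g' = (yon S).map α ≫ a ∧ m ≫ f' = (yon S).map β ≫ c ∧
      ∀ (Q : MorphismProperty Scheme.{u}) [Q.IsStableUnderComposition], RepWith Q a → RepWith Q c → RepWith Q m := by
  obtain ⟨P, α, β, sq⟩ := exists_prod (a := a ≫ f) (b := c ≫ g) hr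
  -- the intermediate product
  have hQ := IsPullback.of_hasPullback g' a
  -- Q = Y' ×_Y h_{U₀}
  have hQ2 : IsPullback (pullback.fst g' a ≫ f') (pullback.snd g' a) g (a ≫ f) := hQ.paste_horiz hX'.flip
  have hw1 : ((yon S).map β ≫ c) ≫ g = (yon S).map α ≫ a ≫ f := by
    rw [Category.assoc, ← sq.w]
  let n : (yon S).obj P ⟶ pullback g' a := hQ2.lift ((yon S).map β ≫ c) ((yon S).map α) hw1
  have hn1 : n ≫ pullback.fst g' a ≫ f' = (yon S).map β ≫ c := hQ2.lift_fst _ _ hw1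
  have hn2 : n ≫ pullback.snd g' a = (yon S).map α := hQ2.lift_snd _ _ hw1
  have hP : IsPullback ((yon S).map β) n c (pullback.fst g' a ≫ f') := by
    refine IsPullback.of_bot (v₂₁ := pullback.snd g' a) (v₂₂ := g) (h₃₁ := a ≫ f) ?_ hn1.symm hQ2
    rw [hn2]
    exact sq.flip
  refine ⟨P, α, β, n ≫ pullback.fst g' a, sq, ?_, ?_, ?_⟩
  · rw [Category.assoc, pullback.condition, ← Category.assoc, hn2]
  · rw [Category.assoc, hn1]
  · intro Q _ hQa hQc
    exact repWith_comp (repWith_snd hP hQc) (repWith_fst hQ hQa)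

/-- Etale surjective charts of `X' = X ×_Y Y'` which are fibre products `U ×_V V'` of charts of `X`, `Y'` over a
chart `V` of `Y`. -/
theorem exists_fibre_chart {X Y X' Y' : Sp S} {f : X ⟶ Y} {g : Y' ⟶ Y} {g' : X' ⟶ X} {f' : X' ⟶ Y'}
    (hX' : IsPullback g' f' f g) {U₀ V₀ V : Over S} {a : (yon S).obj U₀ ⟶ X} {c : (yon S).obj V₀ ⟶ Y'}
    {b : (yon S).obj V ⟶ Y} (hr : Representable (a ≫ f)) (ha : RepWith @Etale a) (ha' : RepWith @Surjective a)
    (hc : RepWith @Etale c) (hc' : RepWith @Surjective c) (hb : RepWith @Etale b) (hb' : RepWith @Surjective b) :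
    ∃ (U V' W : Over S) (p : U ⟶ U₀) (q : U ⟶ V) (p' : V' ⟶ V₀) (q' : V' ⟶ V) (s : W ⟶ U) (t : W ⟶ V')
      (w : (yon S).obj W ⟶ X'),
      Etale p.left ∧ Surjective p.left ∧ Etale p'.left ∧ Surjective p'.left ∧
      ((yon S).map p ≫ a) ≫ f = (yon S).map q ≫ b ∧ ((yon S).map p' ≫ c) ≫ g = (yon S).map q' ≫ b ∧
      IsPullback s t q q' ∧ RepWith @Etale w ∧ RepWith @Surjective w ∧
      w ≫ g' = (yon S).map s ≫ (yon S).map p ≫ a ∧ w ≫ f' = (yon S).map t ≫ (yon S).map p' ≫ c := by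
  obtain ⟨P, α, β, m, hP, hm1, hm2, hmQ⟩ := exists_prod_chart hX' (c := c) hr
  obtain ⟨U, p, q, hU, hpe, hps, hpq⟩ := exists_chart_lift (f := f) (a := a) hb hb'
  obtain ⟨V', p', q', hV', hpe', hps', hpq'⟩ := exists_chart_lift (f := g) (a := c) hb hb'
  obtain ⟨W, γ, δ, hW, hγe, hγs, hγδ⟩ := exists_chart_lift (f := g' ≫ f) (a := m) hb hb'
  -- maps W ⟶ U, W ⟶ V'
  have h1 : (yon S).map δ ≫ b = (yon S).map (γ ≫ α) ≫ a ≫ f := by
    rw [← hγδ, Category.assoc, ← Category.assoc m, hm1, Functor.map_comp]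
    simp only [Category.assoc]
  have h2 : (yon S).map δ ≫ b = (yon S).map (γ ≫ β) ≫ c ≫ g := by
    rw [h1, Functor.map_comp, Category.assoc, hP.w, Functor.map_comp, Category.assoc]
  obtain ⟨s, hs⟩ := (yon S).map_surjective (hU.lift ((yon S).map δ) ((yon S).map (γ ≫ α)) h1)
  obtain ⟨t, ht⟩ := (yon S).map_surjective (hV'.lift ((yon S).map δ) ((yon S).map (γ ≫ β)) h2)
  have hsq : s ≫ q = δ := (yon S).map_injective (by rw [Functor.map_comp, hs, hU.lift_fst])
  have hsp : s ≫ p = γ ≫ α := (yon S).map_injective (by rw [Functor.map_comp, hs, hU.lift_snd])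
  have htq : t ≫ q' = δ := (yon S).map_injective (by rw [Functor.map_comp, ht, hV'.lift_fst])
  have htp : t ≫ p' = γ ≫ β := (yon S).map_injective (by rw [Functor.map_comp, ht, hV'.lift_snd])
  -- W = U ×_{U₀} P
  have hα : (yon S).map α ≫ a ≫ f = m ≫ g' ≫ f := by
    rw [← Category.assoc m, hm1, Category.assoc]
  have k1 : IsPullback ((yon S).map s) ((yon S).map γ) ((yon S).map p) ((yon S).map α) := by
    refine IsPullback.of_right (h₁₂ := (yon S).map q) (h₂₂ := a ≫ f) (v₁₃ := b) ?_ ?_ hU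
    · rw [← Functor.map_comp, hsq, hα]
      exact hW
    · rw [← Functor.map_comp, ← Functor.map_comp, hsp]
  -- W = U ×_Y V₀
  have k2 : IsPullback ((yon S).map s) ((yon S).map (γ ≫ β)) ((yon S).map p ≫ a ≫ f) (c ≫ g) := by
    rw [Functor.map_comp]
    exact k1.paste_vert hP
  have k3 : IsPullback ((yon S).map s) ((yon S).map (t ≫ p')) ((yon S).map q ≫ b) (c ≫ g) := by
    rw [← hpq, htp, Category.assoc]
    exact k2
  have k4 : IsPullback ((yon S).map s) ((yon S).map t) ((yon S).map q) ((yon S).map q') := by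
    rw [Functor.map_comp] at k3
    exact IsPullback.of_bot k3 (by rw [← Functor.map_comp, ← Functor.map_comp, hsq, htq]) hV'
  refine ⟨U, V', W, p, q, p', q', s, t, (yon S).map γ ≫ m, hpe, hps, hpe', hps', hpq, hpq',
    IsPullback.of_map_of_faithful (yon S) k4, ?_, ?_, ?_, ?_⟩
  · exact repWith_etale_comp (hmQ _ ha hc) γ
  · exact repWith_surj_comp (hmQ _ ha' hc') γ
  · rw [Category.assoc, hm1, ← Category.assoc, ← Category.assoc, ← Functor.map_comp, ← Functor.map_comp, hsp]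
  · rw [Category.assoc, hm2, ← Category.assoc, ← Category.assoc, ← Functor.map_comp, ← Functor.map_comp, htp]

/-- the square of schemes -/
theorem isPullback_left {T U V W : Over S} {s : W ⟶ U} {t : W ⟶ V} {q : U ⟶ T} {q' : V ⟶ T}
    (h : IsPullback s t q q') : IsPullback s.left t.left q.left q'.left :=
  h.map (Over.forget S)

end K647.FibChart
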