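import Groth.Agent.AlgSp.K647.SGood
import Groth.Agent.AlgSp.K647.EtExt
import Groth.Agent.AlgSp.K647.BlExist
import Groth.Agent.AlgSp.K636.QcqsOver
import Groth.Agent.Flat2C.BlowProper
import Groth.Agent.S10807

/-!
# Flattening centres on algebraic spaces

`X` a quasi-compact and quasi-separated algebraic space, `J₀` a family of finite type ideals on `X`, `y : h_Y ⟶ X` of
finite type, flat and of finite presentation over the complement of `V(J₀)`.  Then there is a family of finite type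
ideals `J` with the same support as `J₀` such that for every `T ⟶ X` for which `J.O_T` is invertible the closure of the
open part of `T ×_X Y` is flat and locally of finite presentation over `T` (`exists_center`).

Induction over elementary distinguished squares (S10419): blow up a centre `J` which is good over `U' ⊆ U`, apply the
theorem for schemes to the blow-up of the chart `V ⟶ U`, extend the centre, compose the blow-ups (S10808).
-/

set_option autoImplicit false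
universe u

open CategoryTheory CategoryTheory.Limits AlgebraicGeometry Opposite TopologicalSpace

set_option backward.isDefEq.respectTransparency false

namespace K647.FlatCen

open AlgSp K598.ClFam K598.Charts K598.RepKit K647.Idl K647.FamOps K647.QcIdl K647.EtExt K647.StrFlat BlowUp
open K647.BlowUpSp K647.BlowComp K640.ElemDist K640.Joint
open Groth.Agent.Divis Groth.Agent.Divis.IdealComap Groth.Agent.Flat2C.StrictTr

variable {S : Scheme.{u}} {X U U' : Sp S}

/-- the strict transform of `Y ×_X T` is flat and locally of finite presentation over `T` -/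
def Gd (J₀ : Fam X) {Y : Over S} (y : (yon S).obj Y ⟶ X) {T : Over S} (t : (yon S).obj T ⟶ X) : Prop :=
  ∀ (P : Over S) (p : P ⟶ Y) (q : P ⟶ T), IsPullback ((yon S).map p) ((yon S).map q) y t → SGood q.left (J₀.I t)

variable {J₀ : Fam X} (hJ₀ : FT J₀) {Y : Over S} {y : (yon S).obj Y ⟶ X} (hy : RepWith @LocallyOfFiniteType y)

include hJ₀ hy in
theorem Gd.flat_baseChange {T : Over S} {t : (yon S).obj T ⟶ X} (h : Gd J₀ y t) {T' : Over S} (g : T' ⟶ T)
    [Flat g.left] : Gd J₀ y ((yon S).map g ≫ t) := by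
  intro P' p' q' sq'
  obtain ⟨P, p, q, sq⟩ := exists_prod (a := y) (b := t) hy.1
  obtain ⟨e, -, he⟩ := exists_isPullback_of_comp sq sq'
  rw [J₀.comap]
  exact (h P p q sq).flat_baseChange (hJ₀ t) (forget_isPullback he)

include hJ₀ hy in
theorem Gd.of_cover {T : Over S} {t : (yon S).obj T ⟶ X} {T' : Over S} (g : T' ⟶ T) [Flat g.left]
    [LocallyOfFinitePresentation g.left] [Surjective g.left] (h : Gd J₀ y ((yon S).map g ≫ t)) : Gd J₀ y t := by
  intro P p q sq
  obtain ⟨P', p', q', sq'⟩ := exists_prod (a := y) (b := (yon S).map g ≫ t) hy.1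
  obtain ⟨e, -, he⟩ := exists_isPullback_of_comp sq sq'
  refine SGood.of_cover (ι := PUnit.{u+1}) (hJ₀ t) (g := fun _ => g.left) (fun _ => inferInstance)
    (fun _ => inferInstance) (fun x => ⟨PUnit.unit, g.left.surjective x⟩) (g' := fun _ => e.left)
    (q' := fun _ => q'.left) (fun _ => forget_isPullback he) fun _ => ?_
  rw [← J₀.comap]
  exact h P' p' q' sq'

theorem comap_eq_top {Z W : Scheme.{u}} {I : W.IdealSheafData} {g : Z ⟶ W} (h : ∀ x, g x ∉ I.support) :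
    I.comap g = ⊤ := by
  rw [← support_eq_bot_iff]
  intro x hx
  rw [Scheme.IdealSheafData.support_comap] at hx
  exact h x hx

/-- `J` is a flattening centre for `y` over `j : U ⟶ X`, with the support of `J₀` -/
structure Cen (J₀ : Fam X) {Y : Over S} (y : (yon S).obj Y ⟶ X) (j : U ⟶ X) (J : Fam X) : Prop where
  ft : FT J
  supp : ∀ (T : Over S) (g : (yon S).obj T ⟶ X) (x : T.left), x ∈ (J.I g).support ↔ x ∈ (J₀.I g).support
  good : ∀ (T : Over S) (t : (yon S).obj T ⟶ U), IsEffCartierIdeal (J.I (t ≫ j)) → Gd J₀ y (t ≫ j)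

theorem isLocPrincipal_conv {Z : Scheme.{u}} {E : Z.IdealSheafData} (h : Curv2.IsLocPrincipal E) :
    Groth.Agent.Flat2C.StrictTr.IsLocPrincipal E := K647.CartDesc.isLocPrincipal_iff.1 h

/-- the ideal of a blow-up centre is locally principal on every scheme over the blow-up -/
theorem isLocPrincipal_of_invImage {X' : Sp S} {A : Fam X} {b : X' ⟶ X} (hb : InvImageIsEffCartier A.ι b)
    {T : Over S} (l : (yon S).obj T ⟶ X') : Groth.Agent.Flat2C.StrictTr.IsLocPrincipal (A.I (l ≫ b)) := by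
  obtain ⟨P, fst, snd, sq, hE⟩ := hb
  have h1 := isLocPrincipal_idl (isLocPrincipalSub_of_isEff hE) l
  rw [idl_of_isPullback A.repWith_ι sq, idl_ι] at h1
  exact isLocPrincipal_conv h1

/-- restriction of a property of morphisms to an open covered by two opens -/
theorem restrict_of_two (Q : MorphismProperty Scheme.{u}) [Q.IsStableUnderBaseChange] [IsZariskiLocalAtTarget Q]
    {Z B Q₁ Q₂ : Scheme.{u}} (f : Z ⟶ B) (O : B.Opens) (e₁ : Q₁ ⟶ B) (e₂ : Q₂ ⟶ B) [IsOpenImmersion e₁]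
    [IsOpenImmersion e₂] (hO : (O : Set B) = Set.range e₁ ∪ Set.range e₂) {Z₁ Z₂ : Scheme.{u}} {z₁ : Z₁ ⟶ Z}
    {z₂ : Z₂ ⟶ Z} {f₁ : Z₁ ⟶ Q₁} {f₂ : Z₂ ⟶ Q₂} (sq₁ : IsPullback z₁ f₁ f e₁) (sq₂ : IsPullback z₂ f₂ f e₂)
    (h₁ : Q f₁) (h₂ : Q f₂) : Q (f ∣_ O) := by
  have hr₁ : Set.range e₁ ⊆ Set.range O.ι := by
    rw [Scheme.Opens.range_ι, hO]; exact Set.subset_union_left
  have hr₂ : Set.range e₂ ⊆ Set.range O.ι := by
    rw [Scheme.Opens.range_ι, hO]; exact Set.subset_union_right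
  let l₁ : Q₁ ⟶ (O : Scheme.{u}) := IsOpenImmersion.lift O.ι e₁ hr₁
  let l₂ : Q₂ ⟶ (O : Scheme.{u}) := IsOpenImmersion.lift O.ι e₂ hr₂
  have hl₁ : l₁ ≫ O.ι = e₁ := IsOpenImmersion.lift_fac _ _ _
  have hl₂ : l₂ ≫ O.ι = e₂ := IsOpenImmersion.lift_fac _ _ _
  have i₁ : IsOpenImmersion l₁ := by
    have : IsOpenImmersion (l₁ ≫ O.ι) := by rw [hl₁]; infer_instance
    exact IsOpenImmersion.of_comp l₁ O.ι
  have i₂ : IsOpenImmersion l₂ := by
    have : IsOpenImmersion (l₂ ≫ O.ι) := by rw [hl₂]; infer_instance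
    exact IsOpenImmersion.of_comp l₂ O.ι
  have sq := isPullback_morphismRestrict f O
  rw [← hl₁] at sq₁
  rw [← hl₂] at sq₂
  have s₁ := IsPullback.of_right' sq₁ sq.flip
  have s₂ := IsPullback.of_right' sq₂ sq.flip
  let 𝒰 : (O : Scheme.{u}).OpenCover := Scheme.Cover.mkOfCovers (ULift.{u} Bool)
    (fun b => match b with | ⟨true⟩ => Q₁ | ⟨false⟩ => Q₂)
    (fun b => match b with | ⟨true⟩ => l₁ | ⟨false⟩ => l₂) (fun x => by
      have hx : O.ι x ∈ (O : Set B) := x.2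
      rw [hO] at hx
      have hinj := O.ι.isOpenEmbedding.injective
      rcases hx with ⟨z, hz⟩ | ⟨z, hz⟩
      · refine ⟨⟨true⟩, z, hinj ?_⟩
        change (l₁ ≫ O.ι) z = O.ι x
        rw [hl₁, hz]
      · refine ⟨⟨false⟩, z, hinj ?_⟩
        change (l₂ ≫ O.ι) z = O.ι x
        rw [hl₂, hz]) (fun b => match b with | ⟨true⟩ => i₁ | ⟨false⟩ => i₂)
  refine IsZariskiLocalAtTarget.of_openCover (P := Q) 𝒰 ?_
  rintro ⟨_ | _⟩
  · change Q (pullback.snd (f ∣_ O) l₂)
    rw [← s₂.isoPullback_inv_snd]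
    exact (Q.cancel_left_of_respectsIso _ _).2 h₂
  · change Q (pullback.snd (f ∣_ O) l₁)
    rw [← s₁.isoPullback_inv_snd]
    exact (Q.cancel_left_of_respectsIso _ _).2 h₁

theorem Gd.of_away {T : Over S} {t : (yon S).obj T ⟶ X} (h0 : ∀ x, x ∉ (J₀.I t).support)
    (h : ∀ (P : Over S) (p : P ⟶ Y) (q : P ⟶ T), IsPullback ((yon S).map p) ((yon S).map q) y t →
        Flat q.left ∧ LocallyOfFinitePresentation q.left) : Gd J₀ y t := by
  intro P p q sq
  obtain ⟨h1, h2⟩ := h P p q sq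
  refine sgood_of_ideal (𝟙 _) ?_ ?_ ?_
  · rw [K598.ClFam.ker_id, comap_eq_top (fun x => h0 _), killedIdeal_top]
  · rw [Category.id_comp]; exact h1
  · rw [Category.id_comp]; exact h2

/-- the step of the induction -/
theorem step [QuasiSeparatedSpace ↥S] (hX : IsAlgSpace X) (hqc : IsQuasiCompactSp X) (hqs : IsQuasiSeparatedSp X)
    (hJ₀ : FT J₀) (hy : RepWith @LocallyOfFiniteType y) [CompactSpace Y.left]
    (hgen : ∀ (T : Over S) (t : (yon S).obj T ⟶ X), (∀ x, x ∉ (J₀.I t).support) → ∀ (P : Over S) (p : P ⟶ Y)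
      (q : P ⟶ T), IsPullback ((yon S).map p) ((yon S).map q) y t →
        Flat q.left ∧ LocallyOfFinitePresentation q.left)
    {j : U ⟶ X} (hj : RepWith @IsOpenImmersion j) {k : U' ⟶ U} (hU'c : IsQuasiCompactSp U')
    {V : Over S} [CompactSpace V.left] [QuasiSeparatedSpace V.left] {f : (yon S).obj V ⟶ U}
    (hkf : IsElemDistSq k f) (hf : RepWith @Etale f) (hf' : RepWith @Surjective f)
    {J : Fam X} (hJ : Cen J₀ y (k ≫ j) J) : ∃ J₁, Cen J₀ y j J₁ := by
  have hjm : Mono j := mono_of_repWith_isOpenImmersion hj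
  have hUs : IsQuasiSeparatedSp U := isQuasiSeparatedSp_of_mono j hqs
  have hje : RepWith @Etale j := repWith_mono (fun _ _ g hg => by
    have : IsOpenImmersion g := hg
    exact (inferInstance : Etale g)) hj
  obtain ⟨ψ, hψ⟩ : ∃ ψ, ψ = f ≫ j := ⟨_, rfl⟩
  have hψe : RepWith @Etale ψ := by rw [hψ]; exact repWith_comp hf hje
  -- the blow-up of `J` and its chart
  obtain ⟨X₁, β, hX₁, hβ⟩ := K647.BlExist.exists_blowUp hX J
  have hJψ : IsFiniteTypeIdeal (J.I ψ) := hJ.ft ψ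
  obtain ⟨B, b₀, hb₀⟩ : ∃ (B : Over S) (b₀ : B ⟶ V), IsBlowUp b₀.left (idl J.repWith_ι ψ) := by
    obtain ⟨B, b₀, hb₀⟩ := Groth.Agent.Flat2C.BlowExist.exists_isBlowUp (idl J.repWith_ι ψ)
    exact ⟨Over.mk (b₀ ≫ V.hom), Over.homMk b₀, hb₀⟩
  obtain ⟨c, sqc⟩ := exists_isPullback J.repWith_ι ψ hX hX₁ hβ hψe hb₀
  have hc : RepWith @Etale c := repWith_fst sqc hψe
  rw [idl_ι] at hb₀
  have hbp : IsProper b₀.left := Groth.Agent.Flat2C.BlowProper.isProper_of_isBlowUp hb₀ hJψ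
  have hBc : CompactSpace B.left := QuasiCompact.compactSpace_of_compactSpace b₀.left
  have hBs : QuasiSeparatedSpace B.left := quasiSeparatedSpace_of_quasiSeparated b₀.left
  obtain ⟨w, hw⟩ : ∃ w, w = c ≫ β := ⟨_, rfl⟩
  have hw' : w = (yon S).map b₀ ≫ ψ := by rw [hw, sqc.w]
  have hJw : IsEffCartierIdeal (J.I w) := by rw [hw', J.comap]; exact hb₀.1
  -- the pullback of `Y`
  obtain ⟨P, p, q, sqP⟩ := exists_prod (a := y) (b := w) hy.1
  have hPc : CompactSpace P.left := K609.Sep.compactSpace_pullback hqs sqP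
  have hqlft : LocallyOfFiniteType q.left := hy.2 _ _ _ sqP
  have hqqc : QuasiCompact q.left := quasiCompact_of_compactSpace q.left
  -- the part over `U'`
  obtain ⟨Q, e, y', sqQ⟩ := hkf.1.1 ((yon S).map b₀ ≫ f)
  have he : IsOpenImmersion e.left := hkf.1.2 _ _ _ sqQ
  have hQc : CompactSpace Q.left := by
    obtain ⟨U₀, a, ha, ha', hU₀⟩ := hU'c
    obtain ⟨P₀, α, β', sq₀⟩ := exists_prod (a := a) (b := y') ha.1
    have hβ' : Surjective β'.left := ha'.2 _ _ _ sq₀
    have sq₁ : IsPullback ((yon S).map α) ((yon S).map (β' ≫ e)) (a ≫ k) ((yon S).map b₀ ≫ f) := by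
      rw [Functor.map_comp]
      exact sq₀.paste_vert sqQ
    have hU₀' : CompactSpace U₀.left := hU₀
    have hP₀ : CompactSpace P₀.left := K609.Sep.compactSpace_pullback hUs sq₁
    exact ⟨by rw [← Set.range_eq_univ.2 β'.left.surjective]; exact isCompact_range β'.left.continuous⟩
  obtain ⟨C, hC⟩ : ∃ C, C = Groth.Agent.Flat2C.StrictTr.compl (J₀.I w) := ⟨_, rfl⟩
  have hwt : ∀ {R : Over S} (r : R ⟶ B), (yon S).map r ≫ w = ((yon S).map r ≫ (yon S).map b₀ ≫ f) ≫ j := by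
    intro R r
    rw [hw', hψ]; simp only [Category.assoc]
  have hI₀ : IsFiniteTypeIdeal (J₀.I w) := hJ₀ w
  have hCmem : ∀ x : B.left, x ∈ C ↔ x ∉ (J₀.I w).support := by
    intro x
    rw [hC, ← SetLike.mem_coe, Groth.Agent.Flat2C.StrictTr.coe_compl]
    exact Iff.rfl
  -- flatness of the strict transform over `U'` and over the complement of the centre
  obtain ⟨P₁, p₁, q₁, sq₁⟩ := exists_prod (a := y) (b := (yon S).map e ≫ w) hy.1
  obtain ⟨ε₁, -, hε₁⟩ := exists_isPullback_of_comp sqP sq₁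
  have hg₁ : SGood q₁.left ((J₀.I w).comap e.left) := by
    rw [← J₀.comap]
    have h1 : (yon S).map e ≫ w = y' ≫ k ≫ j := by rw [hwt, ← sqQ.w, Category.assoc]
    have h2 := hJ.good Q y' (by
      rw [← h1, J.comap]
      exact Groth.Agent.Divis.EffCartier.isEff_comap_flat hJw e.left)
    rw [← h1] at h2
    exact h2 P₁ p₁ q₁ sq₁
  obtain ⟨z₁, hz₁⟩ := isPullback_strict hI₀ (forget_isPullback hε₁)
  let ec : Over.mk (C.ι ≫ B.hom) ⟶ B := Over.homMk C.ι rfl
  obtain ⟨P₂, p₂, q₂, sq₂⟩ := exists_prod (a := y) (b := (yon S).map ec ≫ w) hy.1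
  obtain ⟨ε₂, -, hε₂⟩ := exists_isPullback_of_comp sqP sq₂
  have hg₂ : SGood q₂.left ((J₀.I w).comap ec.left) := by
    rw [← J₀.comap]
    have h1 : ∀ x, x ∉ (J₀.I ((yon S).map ec ≫ w)).support := by
      intro x hx
      rw [J₀.comap, Scheme.IdealSheafData.support_comap] at hx
      have h3 : C.ι x ∈ (J₀.I w).support := hx
      have h4 : C.ι x ∈ C := x.2
      exact (hCmem _).1 h4 h3
    exact Gd.of_away h1 (hgen _ _ h1) P₂ p₂ q₂ sq₂
  have hecf : Flat ec.left := (inferInstance : Flat C.ι)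
  obtain ⟨z₂, hz₂⟩ := isPullback_strict hI₀ (forget_isPullback hε₂)
  have heco : IsOpenImmersion ec.left := (inferInstance : IsOpenImmersion C.ι)
  obtain ⟨Ω, hΩ⟩ : ∃ Ω : B.left.Opens, Ω = e.left.opensRange ⊔ C := ⟨_, rfl⟩
  have hΩ' : (Ω : Set B.left) = Set.range e.left ∪ Set.range ec.left := by
    rw [hΩ, Opens.coe_sup, Scheme.Hom.coe_opensRange]
    congr 1
    exact (Scheme.Opens.range_ι C).symm
  have hfl : Flat (((killedIdeal ((J₀.I w).comap q.left)).subschemeι ≫ q.left) ∣_ Ω) :=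
    restrict_of_two @Flat _ Ω e.left ec.left hΩ' hz₁ hz₂ hg₁.1 hg₂.1
  have hfp : LocallyOfFinitePresentation (((killedIdeal ((J₀.I w).comap q.left)).subschemeι ≫ q.left) ∣_ Ω) :=
    restrict_of_two @LocallyOfFinitePresentation _ Ω e.left ec.left hΩ' hz₁ hz₂ hg₁.2 hg₂.2
  have hΩc : IsCompact (Ω : Set B.left) := by
    rw [hΩ, Opens.coe_sup, Scheme.Hom.coe_opensRange]
    refine (isCompact_range e.left.continuous).union ?_
    have h1 : QuasiCompact C.ι := by rw [hC]; exact quasiCompact_compl_ι hI₀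
    have h2 : CompactSpace C := QuasiCompact.compactSpace_of_compactSpace C.ι
    exact isCompact_iff_compactSpace.2 h2
  obtain ⟨𝓘, h𝓘, h𝓘s, H⟩ := Groth.Agent.Flat2C.GlobFlat.exists_flat_center
    Groth.Agent.Flat2C.FlatteningAlg.ringFlattening ((killedIdeal ((J₀.I w).comap q.left)).subschemeι ≫ q.left) Ω hΩc
  have h𝓘₀ : ∀ x, x ∈ 𝓘.support → x ∈ (J₀.I w).support := by
    intro x hx
    by_contra hx'
    have h1 : x ∈ (𝓘.support : Set B.left) := hx
    rw [h𝓘s] at h1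
    apply h1
    rw [hΩ]
    right
    exact (hCmem _).2 hx'
  -- extension of the centre to `X₁`
  have hβp : IsProperMor β := Groth.Agent.S10807.result ⟨X, hX⟩ ⟨X₁, hX₁⟩ ⟨J.sheaf, J.isAlgSpace_sheaf hX⟩
    (ObjectProperty.homMk J.ι) (repWith_ι_lfp hJ.ft) (ObjectProperty.homMk β) hβ
  have hX₁c : IsQuasiCompactSp X₁ := K636.QcqsOver.isQuasiCompactSp_of_mor hβp.2.1.2 hX hqc
  have hX₁s : IsQuasiSeparatedSp X₁ := K636.QcqsOver.isQuasiSeparatedSp_of_mor
    (repWith_mono (fun _ _ g hg => by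
      have : IsClosedImmersion g := hg
      exact (inferInstance : QuasiCompact g)) hβp.1) hqs
  obtain ⟨𝓔₀, h𝓔₀, h𝓔₀c⟩ := exists_ft_of_etale hX₁ hX₁c hX₁s hc 𝓘 h𝓘 (by
    intro T a b hab
    have h1 : ((yon S).map (a ≫ b₀) ≫ f) = (yon S).map (b ≫ b₀) ≫ f := by
      rw [← cancel_mono j]
      have h2 := congrArg (fun z => z ≫ β) hab
      simp only [Category.assoc, ← hw] at h2
      rw [hwt, hwt] at h2
      rw [Functor.map_comp, Functor.map_comp]
      simpa only [Category.assoc] using h2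
    obtain ⟨R₁, R₂, c₁, c₂, z₁', hcc, hz₁', h2⟩ := fpC₂_of_isElemDistSq (IsAlgSpace.yon_obj V) hkf _ _ h1
    have := hcc.flat₁
    have := hcc.flat₂
    have := hcc.lfp₁
    have := hcc.lfp₂
    -- over `U'`
    have key : ∀ (a' : R₁ ⟶ B), z₁' ≫ k = (yon S).map a' ≫ (yon S).map b₀ ≫ f → 𝓘.comap a'.left = ⊤ := by
      intro a' ha'
      obtain ⟨l, hl⟩ := (yon S).map_surjective (sqQ.lift z₁' ((yon S).map a') ha')
      have h3 : l ≫ e = a' := (yon S).map_injective (by rw [Functor.map_comp, hl, sqQ.lift_snd])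
      refine comap_eq_top fun x hx => ?_
      have h4 : a'.left x ∈ (𝓘.support : Set B.left) := hx
      rw [h𝓘s] at h4
      apply h4
      rw [hΩ, Opens.coe_sup, Scheme.Hom.coe_opensRange]
      left
      exact ⟨l.left x, by rw [← h3]; rfl⟩
    refine ideal_ext₂ c₁.left c₂.left hcc.surj ?_ ?_
    · rw [← Scheme.IdealSheafData.comap_comp, ← Scheme.IdealSheafData.comap_comp, ← Over.comp_left, ← Over.comp_left,
        key (c₁ ≫ a) (by rw [hz₁', Functor.map_comp, Functor.map_comp]; simp only [Category.assoc]),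
        key (c₁ ≫ b) (by rw [hz₁', h1, Functor.map_comp, Functor.map_comp]; simp only [Category.assoc])]
    · have h5 : c₂ ≫ a = c₂ ≫ b := (yon S).map_injective (by
        apply sqc.hom_ext
        · rw [Functor.map_comp, Functor.map_comp, Category.assoc, Category.assoc, hab]
        · rw [← Functor.map_comp, ← Functor.map_comp, Category.assoc, Category.assoc, Functor.map_comp,
            Functor.map_comp]
          exact h2)
      rw [← Scheme.IdealSheafData.comap_comp, ← Scheme.IdealSheafData.comap_comp, ← Over.comp_left, ← Over.comp_left,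
        h5])
  obtain ⟨n, hn⟩ := exists_pow_le (I := 𝓘) (hJ.ft w) (fun x hx => (hJ.supp _ _ _).2 (h𝓘₀ x hx))
  obtain ⟨𝓔, h𝓔⟩ : ∃ 𝓔, 𝓔 = sup 𝓔₀ (pow (pull J β) n) := ⟨_, rfl⟩
  have h𝓔ft : FT 𝓔 := by rw [h𝓔]; exact h𝓔₀.sup (FT.pow (hJ.ft.pull β) n)
  have h𝓔c : 𝓔.I c = 𝓘 := by
    rw [h𝓔, sup_I, h𝓔₀c, pow_I, pull_I, ← hw]
    exact sup_eq_left.2 hn
  have h𝓔s : ∀ (T : Over S) (g : (yon S).obj T ⟶ X₁) (x : T.left), x ∈ (𝓔.I g).support →
      x ∈ (J.I (g ≫ β)).support := by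
    intro T g x hx
    have h1 : (J.I (g ≫ β)) ^ n ≤ 𝓔.I g := by rw [h𝓔]; exact _root_.le_sup_right
    have h2 : x ∈ ((J.I (g ≫ β)) ^ n).support := Scheme.IdealSheafData.support_antitone h1 hx
    rcases Nat.eq_zero_or_pos n with hn0 | hn0
    · rw [hn0, pow_zero, Scheme.IdealSheafData.one_eq_top, Scheme.IdealSheafData.support_top] at h2
      exact absurd h2 (Set.notMem_empty x)
    · rwa [Scheme.IdealSheafData.support_pow _ _ hn0.ne'] at h2
  -- the second blow-up and the composition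
  obtain ⟨X₂, b', hX₂, hb'⟩ := K647.BlExist.exists_blowUp hX₁ 𝓔
  obtain ⟨Z, iZ, hZ, hiZ, hrange, hcomp⟩ := exists_comp hX hX₁ hX₂ hqc hqs J.ι (repWith_ι_lfp hJ.ft) β hβ 𝓔.ι
    (repWith_ι_lfp h𝓔ft) b' hb'
  have hiZ' : RepWith @IsClosedImmersion iZ := repWith_mono (fun _ _ _ h => h.1) hiZ
  have hJ₁s : ∀ (T : Over S) (g : (yon S).obj T ⟶ X) (x : T.left), x ∈ ((ofClosed iZ hiZ').I g).support ↔
      x ∈ (J₀.I g).support := by
    intro T g x
    have h1 : x ∈ ((ofClosed iZ hiZ').I g).support ↔ Points.ofPt g x ∈ Set.range (Points.map iZ) :=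
      mem_support_idl_iff hiZ' x
    have h2 : ∀ {T : Over S} (g : (yon S).obj T ⟶ X) (x : T.left), x ∈ (J.I g).support ↔
        Points.ofPt g x ∈ Set.range (Points.map J.ι) := by
      intro T g x
      rw [← idl_ι]
      exact mem_support_idl_iff _ x
    rw [h1, hrange, ← hJ.supp, h2]
    refine ⟨?_, fun h => Or.inl h⟩
    rintro (h | ⟨x', hx', hxx'⟩)
    · exact h
    · obtain ⟨W, ω, hω, hω'⟩ := hX₁.atlas
      obtain ⟨s, rfl⟩ := Pts.exists_ofPt_of_surj hω' x'
      have h3 : s ∈ (𝓔.I ω).support := by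
        rw [← idl_ι]
        exact (mem_support_idl_iff _ s).2 hx'
      have h4 := h𝓔s _ _ _ h3
      rw [h2] at h4
      rw [← hxx', Points.map_ofPt]
      exact h4
  refine ⟨ofClosed iZ hiZ', ft_ofClosed hiZ hiZ', hJ₁s, fun T t hT => ?_⟩
  have h1 : InvImageIsEffCartier iZ (t ≫ j) := by
    refine invImage_of_chart hiZ' (φ := 𝟙 _) (repWith_id _ _) (repWith_id _ _) ?_
    rw [Category.id_comp]
    exact hT
  obtain ⟨l, hl, -⟩ := hcomp.2 (IsAlgSpace.yon_obj T) _ h1
  have hl0 : l ≫ b' ≫ β = t ≫ j := hl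
  obtain ⟨l₁, hl₁⟩ : ∃ l₁, l₁ = l ≫ b' := ⟨_, rfl⟩
  have hl₁β : l₁ ≫ β = t ≫ j := by rw [hl₁, Category.assoc, hl0]
  have h2 : IsEffCartierIdeal (𝓔.I l₁) := by
    refine isEff_of_isLocPrincipal (E' := (ofClosed iZ hiZ').I (t ≫ j)) ?_ hT fun x hx => ?_
    · rw [hl₁]
      exact isLocPrincipal_of_invImage hb'.1 l
    · have h3 := h𝓔s _ _ _ hx
      rw [hl₁β, hJ.supp] at h3
      exact (hJ₁s _ _ _).2 h3
  have h3 : killedIdeal (J₀.I (t ≫ j)) = ⊥ := by
    rw [eq_bot_iff, ← killedIdeal_eq_bot_of_isEff hT]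
    exact killedIdeal_mono fun x hx => (hJ₁s _ _ _).2 hx
  -- localise on `T`
  obtain ⟨T₁, v₁, e₁, sqT⟩ := exists_prod (a := f) (b := t) hf.1
  have he₁ : Etale e₁.left := hf.2 _ _ _ sqT
  have he₁' : Surjective e₁.left := hf'.2 _ _ _ sqT
  refine Gd.of_cover hJ₀ hy e₁ ?_
  have h4 : ((yon S).map e₁ ≫ l₁) ≫ β = (yon S).map v₁ ≫ ψ := by
    rw [Category.assoc, hl₁β, hψ, ← Category.assoc, ← sqT.w, Category.assoc]
  obtain ⟨m, hm⟩ := (yon S).map_surjective (sqc.lift _ _ h4)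
  have hmc : (yon S).map m ≫ c = (yon S).map e₁ ≫ l₁ := by rw [hm, sqc.lift_fst]
  have hmw : (yon S).map m ≫ w = (yon S).map e₁ ≫ t ≫ j := by
    rw [hw, ← Category.assoc, hmc, Category.assoc, hl₁β]
  intro P' p' q' sq'
  rw [← hmw] at sq' ⊢
  obtain ⟨ε, -, hε⟩ := exists_isPullback_of_comp sqP sq'
  rw [J₀.comap]
  refine sgood_of_center hI₀ h𝓘 h𝓘₀ H ?_ ?_ (forget_isPullback hε)
  · rw [← h𝓔c, ← 𝓔.comap, hmc, 𝓔.comap]
    exact Groth.Agent.Divis.EffCartier.isEff_comap_flat h2 e₁.left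
  · rw [← J₀.comap, hmw, J₀.comap, ← comap_killedIdeal_of_flat (hJ₀ _), h3, Scheme.IdealSheafData.comap_bot]

/-- **Flattening centres** on quasi-compact and quasi-separated algebraic spaces. -/
theorem exists_center [QuasiSeparatedSpace ↥S] {X : Sp S} (hX : IsAlgSpace X) (hqc : IsQuasiCompactSp X)
    (hqs : IsQuasiSeparatedSp X) {J₀ : Fam X} (hJ₀ : FT J₀) {Y : Over S} {y : (yon S).obj Y ⟶ X}
    (hy : RepWith @LocallyOfFiniteType y) [CompactSpace Y.left]
    (hgen : ∀ (T : Over S) (t : (yon S).obj T ⟶ X), (∀ x, x ∉ (J₀.I t).support) → ∀ (P : Over S) (p : P ⟶ Y)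
      (q : P ⟶ T), IsPullback ((yon S).map p) ((yon S).map q) y t →
        Flat q.left ∧ LocallyOfFinitePresentation q.left) :
    ∃ J : Fam X, FT J ∧ (∀ (T : Over S) (g : (yon S).obj T ⟶ X) (x : T.left),
        x ∈ (J.I g).support ↔ x ∈ (J₀.I g).support) ∧
      ∀ (T : Over S) (t : (yon S).obj T ⟶ X), IsEffCartierIdeal (J.I t) → Gd J₀ y t := by
  obtain ⟨n, Uo, j, k, T, i, h1, h2, h3, h4, h5, h6⟩ := Groth.Agent.S10419.result ⟨X, hX⟩ hqc hqs
  have hm : ∀ p, Mono (j p).hom := fun p => mono_of_repWith_isOpenImmersion (h1 p)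
  have hs : ∀ p, IsQuasiSeparatedSp (Uo p).obj := fun p => isQuasiSeparatedSp_of_mono (j p).hom hqs
  have hc : ∀ p, 1 ≤ p → IsQuasiCompactSp (Uo p).obj := fun p hp => by
    obtain ⟨V, f, g1, g2, g3, g4, g5⟩ := h6 p hp
    exact ⟨V, f, g3, g4, g2⟩
  have hemp : IsQuasiCompactSp (Uo (n + 1)).obj := by
    obtain ⟨V, f, hf, hf'⟩ := (Uo (n + 1)).property.atlas
    refine ⟨V, f, hf, hf', ?_⟩
    have : IsEmpty V.left := ⟨fun v => h4.false (Points.ofPt f v)⟩
    infer_instance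
  have key : ∀ m, m ≤ n → ∃ J, Cen J₀ y (j (n + 1 - m)).hom J := by
    intro m
    induction m with
    | zero =>
      refine fun _ => ⟨J₀, hJ₀, fun _ _ _ => Iff.rfl, fun T t _ P p q _ => ?_⟩
      have : IsEmpty T.left := ⟨fun v => h4.false (Points.ofPt t v)⟩
      exact SGood.of_isEmpty
    | succ m ih =>
      intro hmn
      obtain ⟨J, ih'⟩ := ih (by omega)
      obtain ⟨p, hp⟩ : ∃ p, n + 1 - (m + 1) = p := ⟨_, rfl⟩
      have hp1 : 1 ≤ p := by omega
      have hp2 : n + 1 - m = p + 1 := by omega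
      rw [hp]
      rw [hp2] at ih'
      obtain ⟨V, f, g1, g2, g3, g4, g5⟩ := h6 p hp1
      have hkj : (k p).hom ≫ (j p).hom = (j (p + 1)).hom := congrArg (fun z => z.hom) (h2 p)
      have hk : RepWith @IsOpenImmersion (k p).hom := by
        refine K610.OpenImm.repWith_of_comp_mono (j := (j p).hom) ?_
        rw [hkj]
        exact h1 (p + 1)
      have sq := IsPullback.of_hasPullback (i p).hom f
      have hel : IsElemDistSq (k p).hom f := ⟨hk, K642.Pb.isEtaleMor_of_repWith g3, (T p).obj, _, (i p).hom, _, _,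
        h5 p, sq, g5 _ _ _ sq⟩
      rw [← hkj] at ih'
      exact step hX hqc hqs hJ₀ hy hgen (h1 p) (hc (p + 1) (by omega)) hel g3 g4 ih'
  obtain ⟨J, h8⟩ := key n le_rfl
  have h9 : n + 1 - n = 1 := by omega
  rw [h9] at h8
  have h10 : IsIso (j 1).hom := by
    have := h3
    exact inferInstanceAs (IsIso ((ObjectProperty.ι _).map (j 1)))
  refine ⟨J, h8.ft, h8.supp, fun T t ht => ?_⟩
  have h11 : (t ≫ inv (j 1).hom) ≫ (j 1).hom = t := by simp
  have h12 := h8.good T (t ≫ inv (j 1).hom) (by rw [h11]; exact ht)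
  rwa [h11] at h12

end K647.FlatCen
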