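import Mathlib.AlgebraicGeometry.Morphisms.FlatDescent
import Mathlib.AlgebraicGeometry.Morphisms.UniversallyInjective
import Mathlib.AlgebraicGeometry.Fiber

/-! # A nonempty scheme with a monomorphism to the spectrum of a field -/

set_option autoImplicit false
universe u
open CategoryTheory CategoryTheory.Limits AlgebraicGeometry Opposite

set_option backward.isDefEq.respectTransparency.types false

namespace K647.MonoField

/-- A nonempty scheme with a monomorphism to the spectrum of a field is that spectrum. -/
theorem isIso_of_mono {K : Type u} [Field K] {M : Scheme.{u}} (g : M ⟶ Spec (CommRingCat.of K)) [Mono g]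
    [Nonempty M] : IsIso g := by
  have hs : Surjective g := ⟨fun y => ⟨Classical.arbitrary M, Subsingleton.elim _ _⟩⟩
  have hf : Flat g := inferInstance
  have hsub : Subsingleton M := ⟨fun a b => g.injective (Subsingleton.elim _ _)⟩
  have hc : CompactSpace M := inferInstance
  have hq : QuasiCompact g := inferInstance
  refine MorphismProperty.of_pullback_fst_of_descendsAlong (P := MorphismProperty.isomorphisms Scheme.{u})
    (Q := @Surjective ⊓ @Flat ⊓ @QuasiCompact) (f := g) (g := g) ⟨⟨hs, hf⟩, hq⟩ ?_
  exact inferInstanceAs (IsIso (pullback.fst g g))

end K647.MonoField
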