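import Groth.Agent.Flat2C.StrictTr
import Groth.Agent.Flat2C.GlobFlat
import Groth.Agent.Flat2C.FlatteningAlg
import Groth.Agent.AlgSp.K595.DescInst
import Groth.Agent.AlgSp.K647.FamOps

/-!
# Flatness of strict transforms: base change, descent, flattening centres (schemes)

`SGood q I` for `q : P ⟶ T` and an ideal sheaf `I` on `T`: the closure of the preimage of `T - V(I)` in `P` (the
closed subscheme of `killedIdeal (I.comap q)`) is flat and locally of finite presentation over `T`.
-/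

set_option autoImplicit false
universe u

open CategoryTheory CategoryTheory.Limits AlgebraicGeometry Opposite TopologicalSpace

set_option backward.isDefEq.respectTransparency false
set_option backward.isDefEq.respectTransparency.types false

namespace K647.StrFlat

open Groth.Agent.Divis BlowUp Groth.Agent.Flat2C.StrictTr K598.ClFam
open Groth.Agent.RedSub.H647.QCov

/-- properties of morphisms are local for `IsQCov`-covers of the target -/
theorem of_isQCov (P : MorphismProperty Scheme.{u}) [P.IsStableUnderBaseChange] [IsZariskiLocalAtTarget P]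
    [P.DescendsAlong (@Surjective ⊓ @Flat ⊓ @QuasiCompact : MorphismProperty Scheme.{u})] {ι : Type u}
    {Y Z : Scheme.{u}} {Y' : ι → Scheme.{u}} {q : ∀ i, Y' i ⟶ Y} (hq : IsQCov q) (f : Z ⟶ Y)
    {Z' : ι → Scheme.{u}} {z : ∀ i, Z' i ⟶ Z} {q' : ∀ i, Z' i ⟶ Y' i} (sq : ∀ i, IsPullback (z i) (q' i) f (q i))
    (h : ∀ i, P (q' i)) : P f := by
  choose i W V w v p hw hy h1 h2 h3 e using hq
  let 𝒰 : Y.OpenCover := Scheme.Cover.mkOfCovers Y W w (fun y => by
    obtain ⟨z, hz⟩ := hy y
    exact ⟨y, z, hz⟩) hw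
  refine IsZariskiLocalAtTarget.of_openCover (P := P) 𝒰 fun (y : Y) => ?_
  change P (pullback.snd f (w y))
  have sq1 := ((IsPullback.of_hasPullback (q' (i y)) (v y)).paste_horiz (sq (i y)))
  rw [e y] at sq1
  have sq2 := IsPullback.of_right' sq1 (IsPullback.of_hasPullback f (w y))
  have hp := h1 y
  have hp' := h2 y
  have hp'' := h3 y
  exact MorphismProperty.of_isPullback_of_descendsAlong (P := P)
    (Q := (@Surjective ⊓ @Flat ⊓ @QuasiCompact : MorphismProperty Scheme.{u})) sq2.flip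
    ⟨⟨hp', hp⟩, hp''⟩ (MorphismProperty.pullback_snd _ _ (h _))

theorem flat_of_isQCov {ι : Type u} {Y Z : Scheme.{u}} {Y' : ι → Scheme.{u}} {q : ∀ i, Y' i ⟶ Y} (hq : IsQCov q)
    (f : Z ⟶ Y) {Z' : ι → Scheme.{u}} {z : ∀ i, Z' i ⟶ Z} {q' : ∀ i, Z' i ⟶ Y' i}
    (sq : ∀ i, IsPullback (z i) (q' i) f (q i)) (h : ∀ i, Flat (q' i)) : Flat f := by
  have : MorphismProperty.DescendsAlong @Flat
      (@Surjective ⊓ @Flat ⊓ @QuasiCompact : MorphismProperty Scheme.{u}) :=
    HasRingHomProperty.descendsAlong_flat K595.DescInst.flat_codescends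
  exact of_isQCov @Flat hq f sq h

theorem lfp_of_isQCov {ι : Type u} {Y Z : Scheme.{u}} {Y' : ι → Scheme.{u}} {q : ∀ i, Y' i ⟶ Y} (hq : IsQCov q)
    (f : Z ⟶ Y) {Z' : ι → Scheme.{u}} {z : ∀ i, Z' i ⟶ Z} {q' : ∀ i, Z' i ⟶ Y' i}
    (sq : ∀ i, IsPullback (z i) (q' i) f (q i)) (h : ∀ i, LocallyOfFinitePresentation (q' i)) :
    LocallyOfFinitePresentation f :=
  of_isQCov @LocallyOfFinitePresentation hq f sq h

variable {P T P' T' X : Scheme.{u}}

/-- transfer between a closed immersion and the closed subscheme of its kernel -/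
theorem prop_ker_iff (Q : MorphismProperty Scheme.{u}) [Q.RespectsIso] {Z : Scheme.{u}} (i : Z ⟶ P)
    [IsClosedImmersion i] (q : P ⟶ T) : Q (i.ker.subschemeι ≫ q) ↔ Q (i ≫ q) := by
  have h1 : i.toImage ≫ i.ker.subschemeι = i := i.toImage_imageι
  have : IsIso i.toImage := inferInstance
  have h2 : i ≫ q = i.toImage ≫ i.ker.subschemeι ≫ q := by rw [← Category.assoc, h1]
  rw [h2]
  exact (MorphismProperty.cancel_left_of_respectsIso Q _ _).symm

theorem killedIdeal_mono {E E' : X.IdealSheafData} (h : ∀ x, x ∈ E.support → x ∈ E'.support) :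
    killedIdeal E ≤ killedIdeal E' := by
  have h1 : compl E' ≤ compl E := by
    intro x hx
    have hx' : x ∉ (E'.support : Set X) := by rw [← SetLike.mem_coe, coe_compl] at hx; exact hx
    rw [← SetLike.mem_coe, coe_compl]
    exact fun h' => hx' (h x h')
  change (compl E).ι.ker ≤ (compl E').ι.ker
  rw [← Scheme.homOfLE_ι X h1]
  exact Scheme.Hom.le_ker_comp _ _

theorem killedIdeal_top : killedIdeal (⊤ : X.IdealSheafData) = ⊥ := by
  apply killedIdeal_eq_bot_of_isEff
  exact Groth.Agent.Divis.EffCartier.isEff_top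

theorem support_eq_bot_iff {E : X.IdealSheafData} : (∀ x, x ∉ E.support) ↔ E = ⊤ := by
  rw [← Scheme.IdealSheafData.support_eq_bot_iff, eq_bot_iff]
  constructor
  · intro h x hx
    exact absurd hx (h x)
  · intro h x hx
    exact absurd (h hx) (Set.notMem_empty x)

/-- The key criterion: a closed subscheme which is flat over the base and contains the preimage of the open part is
its closure. -/
theorem eq_killedIdeal_of_flat {q : P ⟶ T} {I : T.IdealSheafData} (hI : IsFiniteTypeIdeal I)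
    (h0 : killedIdeal I = ⊥) {K : P.IdealSheafData} (hK : K ≤ killedIdeal (I.comap q))
    [Flat (K.subschemeι ≫ q)] : K = killedIdeal (I.comap q) := by
  refine le_antisymm hK ?_
  have h1 : (killedIdeal (I.comap q)).comap K.subschemeι ≤ ⊥ := by
    refine (comap_killedIdeal_le (isFiniteTypeIdeal_comap hI q) _).trans ?_
    rw [← Scheme.IdealSheafData.comap_comp, ← comap_killedIdeal_of_flat hI, h0, Scheme.IdealSheafData.comap_bot]
  have h2 := (le_ker_iff (J := killedIdeal (I.comap q)) K.subschemeι).2 (le_bot_iff.1 h1)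
  rwa [Scheme.IdealSheafData.ker_subschemeι] at h2

/-- the strict transform of `P` is flat and locally of finite presentation -/
def SGood (q : P ⟶ T) (I : T.IdealSheafData) : Prop :=
  Flat ((killedIdeal (I.comap q)).subschemeι ≫ q) ∧
    LocallyOfFinitePresentation ((killedIdeal (I.comap q)).subschemeι ≫ q)

theorem sgood_of_ideal {q : P ⟶ T} {I : T.IdealSheafData} {Z : Scheme.{u}} (i : Z ⟶ P) [IsClosedImmersion i]
    (hi : i.ker = killedIdeal (I.comap q)) (h1 : Flat (i ≫ q)) (h2 : LocallyOfFinitePresentation (i ≫ q)) :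
    SGood q I := by
  rw [SGood, ← hi]
  exact ⟨(prop_ker_iff @Flat i q).2 h1, (prop_ker_iff @LocallyOfFinitePresentation i q).2 h2⟩

/-- base change, if the open part stays schematically dense in the base -/
theorem SGood.baseChange {q : P ⟶ T} {I : T.IdealSheafData} (hI : IsFiniteTypeIdeal I) (h : SGood q I)
    {g' : P' ⟶ P} {q' : P' ⟶ T'} {g : T' ⟶ T} (sq : IsPullback g' q' q g) (h0 : killedIdeal (I.comap g) = ⊥) :
    SGood q' (I.comap g) := by
  have h1 := h.1
  have h2 := h.2
  let i := (killedIdeal (I.comap q)).subschemeι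
  have sq1 := IsPullback.of_hasPullback i g'
  have hk : (pullback.snd i g').ker = (killedIdeal (I.comap q)).comap g' := by
    rw [ker_eq_comap_of_isPullback sq1]
    exact congrArg (fun z => Scheme.IdealSheafData.comap z g') (Scheme.IdealSheafData.ker_subschemeι _)
  have sq2 := sq1.flip.paste_horiz sq.flip
  have h3 : Flat (pullback.snd i g' ≫ q') := MorphismProperty.of_isPullback sq2.flip h1
  have h4 : LocallyOfFinitePresentation (pullback.snd i g' ≫ q') := MorphismProperty.of_isPullback sq2.flip h2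
  refine sgood_of_ideal (pullback.snd i g') ?_ h3 h4
  have h5 : Flat ((pullback.snd i g').ker.subschemeι ≫ q') := (prop_ker_iff @Flat _ q').2 h3
  refine eq_killedIdeal_of_flat (isFiniteTypeIdeal_comap hI g) h0 ?_
  rw [hk, ← Scheme.IdealSheafData.comap_comp, ← sq.w, Scheme.IdealSheafData.comap_comp]
  exact comap_killedIdeal_le (isFiniteTypeIdeal_comap hI q) g'

/-- flat base change: description of the strict transform -/
theorem ker_flat_baseChange {q : P ⟶ T} {I : T.IdealSheafData} (hI : IsFiniteTypeIdeal I)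
    {g' : P' ⟶ P} {q' : P' ⟶ T'} {g : T' ⟶ T} (sq : IsPullback g' q' q g) [Flat g] :
    (killedIdeal (I.comap q)).comap g' = killedIdeal ((I.comap g).comap q') := by
  have : Flat g' := MorphismProperty.of_isPullback sq.flip ‹Flat g›
  rw [comap_killedIdeal_of_flat (isFiniteTypeIdeal_comap hI q), ← Scheme.IdealSheafData.comap_comp,
    ← Scheme.IdealSheafData.comap_comp, sq.w]

/-- the strict transform of a flat base change is the base change of the strict transform -/
theorem isPullback_strict {q : P ⟶ T} {I : T.IdealSheafData} (hI : IsFiniteTypeIdeal I)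
    {g' : P' ⟶ P} {q' : P' ⟶ T'} {g : T' ⟶ T} (sq : IsPullback g' q' q g) [Flat g] :
    ∃ z : (killedIdeal ((I.comap g).comap q')).subscheme ⟶ (killedIdeal (I.comap q)).subscheme,
      IsPullback z ((killedIdeal ((I.comap g).comap q')).subschemeι ≫ q')
        ((killedIdeal (I.comap q)).subschemeι ≫ q) g := by
  obtain ⟨i, hi⟩ : ∃ i, i = (killedIdeal (I.comap q)).subschemeι := ⟨_, rfl⟩
  have hic : IsClosedImmersion i := by rw [hi]; infer_instance
  have sq1 := IsPullback.of_hasPullback i g'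
  have hk : (pullback.snd i g').ker = killedIdeal ((I.comap g).comap q') := by
    rw [ker_eq_comap_of_isPullback sq1, ← ker_flat_baseChange hI sq, hi, Scheme.IdealSheafData.ker_subschemeι]
  have sq2 := sq1.flip.paste_horiz sq.flip
  have h1 : (pullback.snd i g').toImage ≫ (pullback.snd i g').ker.subschemeι = pullback.snd i g' :=
    (pullback.snd i g').toImage_imageι
  have : IsIso (pullback.snd i g').toImage := inferInstance
  rw [← hk, ← hi]
  refine ⟨inv (pullback.snd i g').toImage ≫ pullback.fst i g', ?_⟩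
  refine IsPullback.of_iso sq2.flip (asIso (pullback.snd i g').toImage) (Iso.refl _) (Iso.refl _) (Iso.refl _) ?_ ?_ ?_ ?_
  · simp
  · rw [asIso_hom, ← Category.assoc, h1]
    simp
  · simp
  · simp

theorem SGood.flat_baseChange {q : P ⟶ T} {I : T.IdealSheafData} (hI : IsFiniteTypeIdeal I) (h : SGood q I)
    {g' : P' ⟶ P} {q' : P' ⟶ T'} {g : T' ⟶ T} (sq : IsPullback g' q' q g) [Flat g] :
    SGood q' (I.comap g) := by
  obtain ⟨z, hz⟩ := isPullback_strict hI sq
  exact ⟨MorphismProperty.of_isPullback hz h.1, MorphismProperty.of_isPullback hz h.2⟩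

/-- descent along flat lfp covers -/
theorem SGood.of_cover {ι : Type u} {q : P ⟶ T} {I : T.IdealSheafData} (hI : IsFiniteTypeIdeal I)
    {T' : ι → Scheme.{u}} {g : ∀ j, T' j ⟶ T} (hfl : ∀ j, Flat (g j))
    (hlfp : ∀ j, LocallyOfFinitePresentation (g j)) (hs : ∀ t, ∃ (j : ι) (t' : T' j), g j t' = t)
    {P' : ι → Scheme.{u}} {g' : ∀ j, P' j ⟶ P} {q' : ∀ j, P' j ⟶ T' j} (sq : ∀ j, IsPullback (g' j) (q' j) q (g j))
    (h : ∀ j, SGood (q' j) (I.comap (g j))) : SGood q I := by
  have hc : IsQCov g := IsQCov.of_flat hfl hlfp hs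
  choose z hz using fun j => isPullback_strict hI (sq j)
  exact ⟨flat_of_isQCov hc _ hz fun j => (h j).1, lfp_of_isQCov hc _ hz fun j => (h j).2⟩

theorem SGood.of_isEmpty {q : P ⟶ T} {I : T.IdealSheafData} [IsEmpty T] : SGood q I := by
  have h1 : IsEmpty (killedIdeal (I.comap q)).subscheme :=
    ⟨fun z => IsEmpty.false (((killedIdeal (I.comap q)).subschemeι ≫ q) z)⟩
  exact ⟨inferInstance, inferInstance⟩

/-- a locally principal ideal whose support is contained in that of an effective Cartier ideal is effective Cartier -/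
theorem isEff_of_isLocPrincipal {E E' : X.IdealSheafData} (hE : IsLocPrincipal E) (hE' : IsEffCartierIdeal E')
    (h : ∀ x, x ∈ E.support → x ∈ E'.support) : IsEffCartierIdeal E := by
  have h1 : killedIdeal E = ⊥ := by
    rw [eq_bot_iff, ← killedIdeal_eq_bot_of_isEff hE']
    exact killedIdeal_mono h
  have h2 := isEff_comap_subschemeι_killedIdeal hE
  have h3 : IsIso (killedIdeal E).subschemeι := by
    apply isIso_of_ker_eq_bot
    rw [Scheme.IdealSheafData.ker_subschemeι, h1]
  have h4 := Groth.Agent.Divis.EffCartier.isEff_comap_flat h2 (inv (killedIdeal E).subschemeι)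
  rwa [← Scheme.IdealSheafData.comap_comp, IsIso.inv_hom_id, Scheme.IdealSheafData.comap_id] at h4

/-- the flattening centre of a strict transform -/
theorem sgood_of_center {B : Scheme.{u}} {q : P ⟶ B} {I : B.IdealSheafData} (hI : IsFiniteTypeIdeal I)
    {𝓘 : B.IdealSheafData} (h𝓘 : IsFiniteTypeIdeal 𝓘) (hsupp : ∀ x, x ∈ 𝓘.support → x ∈ I.support)
    (H : ∀ {T X' : Scheme.{u}} (g : T ⟶ B), IsEffCartierIdeal (𝓘.comap g) →
        ∀ (p₁ : X' ⟶ (killedIdeal (I.comap q)).subscheme) (p₂ : X' ⟶ T),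
          IsPullback p₁ p₂ ((killedIdeal (I.comap q)).subschemeι ≫ q) g → ∀ (𝒥 : X'.IdealSheafData),
          IsKilledIdeal ((𝓘.comap ((killedIdeal (I.comap q)).subschemeι ≫ q)).comap p₁) 𝒥 →
            Flat (𝒥.subschemeι ≫ p₂) ∧ LocallyOfFinitePresentation (𝒥.subschemeι ≫ p₂))
    {m : T ⟶ B} (hm : IsEffCartierIdeal (𝓘.comap m)) (h0 : killedIdeal (I.comap m) = ⊥)
    {p₁ : P' ⟶ P} {q' : P' ⟶ T} (sq : IsPullback p₁ q' q m) : SGood q' (I.comap m) := by
  obtain ⟨Z, ι, hι, hιk, H⟩ : ∃ (Z : Scheme.{u}) (ι : Z ⟶ P), IsClosedImmersion ι ∧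
      ι.ker = killedIdeal (I.comap q) ∧ ∀ {T X' : Scheme.{u}} (g : T ⟶ B), IsEffCartierIdeal (𝓘.comap g) →
        ∀ (p₁ : X' ⟶ Z) (p₂ : X' ⟶ T),
          IsPullback p₁ p₂ (ι ≫ q) g → ∀ (𝒥 : X'.IdealSheafData),
          IsKilledIdeal ((𝓘.comap (ι ≫ q)).comap p₁) 𝒥 →
            Flat (𝒥.subschemeι ≫ p₂) ∧ LocallyOfFinitePresentation (𝒥.subschemeι ≫ p₂) :=
    ⟨_, (killedIdeal (I.comap q)).subschemeι, inferInstance, Scheme.IdealSheafData.ker_subschemeι _, H⟩
  have sq1 := IsPullback.of_hasPullback ι p₁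
  have hk : (pullback.snd ι p₁).ker = (killedIdeal (I.comap q)).comap p₁ := by
    rw [ker_eq_comap_of_isPullback sq1, hιk]
  have sq2 := (sq1.flip.paste_horiz sq.flip).flip
  obtain ⟨Z', z, i', hi', hk', sq2⟩ : ∃ (Z' : Scheme.{u}) (z : Z' ⟶ Z) (i' : Z' ⟶ P'), IsClosedImmersion i' ∧
      i'.ker = (killedIdeal (I.comap q)).comap p₁ ∧ IsPullback z (i' ≫ q') (ι ≫ q) m :=
    ⟨_, _, _, inferInstance, hk, sq2⟩
  obtain ⟨𝒥, h𝒥⟩ : ∃ 𝒥, 𝒥 = killedIdeal ((𝓘.comap (ι ≫ q)).comap z) := ⟨_, rfl⟩
  have hft : IsFiniteTypeIdeal ((𝓘.comap (ι ≫ q)).comap z) :=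
    isFiniteTypeIdeal_comap (isFiniteTypeIdeal_comap h𝓘 _) _
  obtain ⟨hfl, hfp⟩ := H m hm z (i' ≫ q') sq2 𝒥 (h𝒥 ▸ isKilledIdeal_killedIdeal hft)
  have hcl : IsClosedImmersion (𝒥.subschemeι ≫ i') := inferInstance
  rw [← Category.assoc] at hfl hfp
  refine sgood_of_ideal (𝒥.subschemeι ≫ i') ?_ hfl hfp
  have h5 : Flat ((𝒥.subschemeι ≫ i').ker.subschemeι ≫ q') := (prop_ker_iff @Flat _ q').2 hfl
  refine eq_killedIdeal_of_flat (isFiniteTypeIdeal_comap hI m) h0 ?_
  -- the open part factors through the closed subscheme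
  obtain ⟨E, hE⟩ : ∃ E, E = (I.comap m).comap q' := ⟨_, rfl⟩
  rw [← hE]
  have hIE : (I.comap q).comap p₁ = E := by
    rw [hE, ← Scheme.IdealSheafData.comap_comp, ← Scheme.IdealSheafData.comap_comp, sq.w]
  have h6 : i'.ker ≤ (compl E).ι.ker := by
    rw [hk']
    change _ ≤ killedIdeal E
    rw [← hIE]
    exact comap_killedIdeal_le (isFiniteTypeIdeal_comap hI q) p₁
  obtain ⟨k, hk1⟩ : ∃ k, k ≫ i' = (compl E).ι := ⟨IsClosedImmersion.lift i' _ h6, IsClosedImmersion.lift_fac _ _ _⟩
  have h7 : 𝒥.comap k = ⊥ := by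
    rw [eq_bot_iff, h𝒥]
    refine (comap_killedIdeal_le hft k).trans ?_
    have h8 : ((𝓘.comap (ι ≫ q)).comap z).comap k = ⊤ := by
      rw [← support_eq_bot_iff]
      intro x hx
      have e1 : ((𝓘.comap (ι ≫ q)).comap z).comap k = 𝓘.comap ((compl E).ι ≫ q' ≫ m) := by
        rw [← Scheme.IdealSheafData.comap_comp, ← Scheme.IdealSheafData.comap_comp]
        congr 1
        have e2 : z ≫ ι ≫ q = i' ≫ q' ≫ m := by rw [sq2.w, Category.assoc]
        rw [Category.assoc, e2, ← Category.assoc, hk1]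
      rw [e1, Scheme.IdealSheafData.support_comap] at hx
      have hx1 : ((compl E).ι ≫ q' ≫ m) x ∈ 𝓘.support := hx
      have hx2 := hsupp _ hx1
      have key : ∀ y : P', (q' ≫ m) y ∈ I.support → y ∈ E.support := by
        intro y hy
        rw [hE, Scheme.IdealSheafData.support_comap, Scheme.IdealSheafData.support_comap]
        exact hy
      have hx3 : (compl E).ι x ∈ E.support := key _ hx2
      have hx4 : (compl E).ι x ∈ compl E := x.2
      have hx5 : (compl E).ι x ∉ (E.support : Set P') := by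
        rw [← SetLike.mem_coe, coe_compl] at hx4
        exact hx4
      exact hx5 hx3
    rw [h8, killedIdeal_top]
  obtain ⟨l, hl⟩ := exists_lift_subschemeι 𝒥 k h7
  change (𝒥.subschemeι ≫ i').ker ≤ (compl E).ι.ker
  have e3 : (compl E).ι = l ≫ 𝒥.subschemeι ≫ i' := by rw [← Category.assoc, hl, hk1]
  rw [e3]
  exact Scheme.Hom.le_ker_comp _ _

end K647.StrFlat
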