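import Groth.Agent.AlgSp.K647.SatSch
import Groth.Agent.AlgSp.K647.ComplDiv
import Mathlib.AlgebraicGeometry.Morphisms.Preimmersion

/-!
# Extending effective Cartier divisors from the generic fibre of a smooth algebraic space over a valuation ring
-/

set_option autoImplicit false
universe u

open CategoryTheory CategoryTheory.Limits AlgebraicGeometry Opposite TopologicalSpace

set_option backward.isDefEq.respectTransparency false

namespace K647.SatSp

open AlgSp K647.Idl

variable {S : Scheme.{u}}

/-- two closed subspaces with the same ideal on one etale surjective chart are isomorphic -/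
theorem exists_iso_of_idl {X Z Z' : Sp S} {i : Z ⟶ X} (hi : RepWith @IsClosedImmersion i) {i' : Z' ⟶ X}
    (hi' : RepWith @IsClosedImmersion i') {V : Over S} {φ : (yon S).obj V ⟶ X} (hφ : RepWith @Etale φ)
    (hφ' : RepWith @Surjective φ) (h : idl hi φ = idl hi' φ) : ∃ e : Z ≅ Z', e.hom ≫ i' = i ∧ e.inv ≫ i = i' := by
  have hfam := K598.Charts.ChartFam.single hφ hφ'
  exact K598.ClFam.exists_iso_of_eq hi hi' (hfam.fam_ext fun _ => h)

theorem extend (R : Type u) [CommRing R] [IsDomain R] [ValuationRing R] (K : Type u) [Field K] [Algebra R K]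
    [IsFractionRing R K] (str : Spec (CommRingCat.of R) ⟶ S) {X : Sp S} (hX : IsAlgSpace X)
    (f : X ⟶ (yon S).obj (Over.mk str)) (hf : LocP @Smooth f) {XK : Sp S} (gK : XK ⟶ X)
    (fK : XK ⟶ (yon S).obj (Over.mk ((Spec.map (CommRingCat.ofHom (algebraMap R K))) ≫ str)))
    (hXK : IsPullback gK fK f ((yon S).map (Over.homMk (Spec.map (CommRingCat.ofHom (algebraMap R K))) rfl :
      Over.mk ((Spec.map (CommRingCat.ofHom (algebraMap R K))) ≫ str) ⟶ Over.mk str)))
    {D : Sp S} (i : D ⟶ XK) (hD : IsEffCartierSub i) :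
    ∃ (D' : Sp S) (i' : D' ⟶ X) (k : D ⟶ D'), IsAlgSpace D' ∧ IsEffCartierSub i' ∧ IsPullback k i i' gK := by
  obtain ⟨V, φ, hφ, hφ'⟩ := hX.atlas
  let s : Over.mk ((Spec.map (CommRingCat.ofHom (algebraMap R K))) ≫ str) ⟶ Over.mk str :=
    Over.homMk (Spec.map (CommRingCat.ofHom (algebraMap R K))) rfl
  change IsPullback gK fK f ((yon S).map s) at hXK
  obtain ⟨v, hv⟩ := (yon S).map_surjective (φ ≫ f)
  have hvs : Smooth v.left := hf φ (𝟙 _) v hφ (repWith_id _ _) (by rw [hv, Category.comp_id])
  -- the generic fibre of the chart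
  let j := pullback.fst v s
  let c := pullback.snd v s
  have sqV : IsPullback j c v s := IsPullback.of_hasPullback v s
  have wV : ((yon S).map j ≫ φ) ≫ f = (yon S).map c ≫ (yon S).map s := by
    rw [Category.assoc, ← hv, ← Functor.map_comp, ← Functor.map_comp, sqV.w]
  let φK : (yon S).obj (pullback v s) ⟶ XK := hXK.lift ((yon S).map j ≫ φ) ((yon S).map c) wV
  have h1 : φK ≫ gK = (yon S).map j ≫ φ := hXK.lift_fst _ _ _
  have h2 : φK ≫ fK = (yon S).map c := hXK.lift_snd _ _ _
  have sqφ : IsPullback φK ((yon S).map j) gK φ := by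
    refine IsPullback.of_right ?_ h1 hXK.flip
    rw [h2, ← hv]
    exact (sqV.map (yon S)).flip
  have hφK : RepWith @Etale φK := repWith_fst sqφ hφ
  have hφK' : RepWith @Surjective φK := repWith_fst sqφ hφ'
  -- properties of `j`
  have sqVl : IsPullback j.left c.left v.left s.left := sqV.map (Over.forget S)
  have hfl : Flat (Spec.map (CommRingCat.ofHom (algebraMap R K))) := by
    rw [HasRingHomProperty.Spec_iff (P := @Flat)]
    exact RingHom.flat_algebraMap_iff.2 (IsLocalization.flat K (nonZeroDivisors R))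
  have hmo : Mono (Spec.map (CommRingCat.ofHom (algebraMap R K))) := by
    have := IsPreimmersion.of_isLocalization (S := K) (nonZeroDivisors R)
    infer_instance
  have hjf : Flat j.left := MorphismProperty.of_isPullback sqVl.flip hfl
  have hja : IsAffineHom j.left := MorphismProperty.of_isPullback sqVl.flip
    (inferInstanceAs (IsAffineHom (Spec.map (CommRingCat.ofHom (algebraMap R K)))))
  have hjm : Mono j.left := MorphismProperty.of_isPullback (P := MorphismProperty.monomorphisms _) sqVl.flip hmo
  -- the ideals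
  let IK := idl hD.1 φK
  have hIK : BlowUp.IsEffCartierIdeal IK := isEff_idl hD hφK
  let I := IK.map j.left
  have hI : BlowUp.IsEffCartierIdeal I := SatSch.isEff_map v.left j.left c.left sqVl IK hIK
  -- descent
  obtain ⟨W, p, q, sq⟩ := exists_prod (a := φ) (b := φ) hφ.1
  have hp : Etale p.left := hφ.2 _ _ _ sq.flip
  have hq : Etale q.left := hφ.2 _ _ _ sq
  have hpq : p ≫ v = q ≫ v := (yon S).map_injective (by
    rw [Functor.map_comp, Functor.map_comp, hv, ← Category.assoc, ← Category.assoc, sq.w])
  let jR := pullback.fst (p ≫ v) s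
  let cR := pullback.snd (p ≫ v) s
  have sqR : IsPullback jR cR (p ≫ v) s := IsPullback.of_hasPullback _ _
  have sqR' : IsPullback jR cR (q ≫ v) s := by rw [← hpq]; exact sqR
  let pK : pullback (p ≫ v) s ⟶ pullback v s := pullback.lift (jR ≫ p) cR (by rw [Category.assoc, sqR.w])
  let qK : pullback (p ≫ v) s ⟶ pullback v s := pullback.lift (jR ≫ q) cR (by rw [Category.assoc, sqR'.w])
  have hpK1 : pK ≫ j = jR ≫ p := pullback.lift_fst _ _ _
  have hpK2 : pK ≫ c = cR := pullback.lift_snd _ _ _
  have hqK1 : qK ≫ j = jR ≫ q := pullback.lift_fst _ _ _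
  have hqK2 : qK ≫ c = cR := pullback.lift_snd _ _ _
  have sqp : IsPullback pK jR j p := by
    refine IsPullback.of_right ?_ hpK1 sqV.flip
    rw [hpK2]; exact sqR.flip
  have sqq : IsPullback qK jR j q := by
    refine IsPullback.of_right ?_ hqK1 sqV.flip
    rw [hqK2]; exact sqR'.flip
  have hK : (yon S).map pK ≫ φK = (yon S).map qK ≫ φK := by
    apply hXK.hom_ext
    · rw [Category.assoc, Category.assoc, h1, ← Category.assoc, ← Category.assoc, ← Functor.map_comp,
        ← Functor.map_comp, hpK1, hqK1, Functor.map_comp, Functor.map_comp, Category.assoc, Category.assoc, sq.w]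
    · rw [Category.assoc, Category.assoc, h2, ← Functor.map_comp, ← Functor.map_comp, hpK2, hqK2]
  have hIKc : IK.comap pK.left = IK.comap qK.left := by
    rw [← idl_comp, ← idl_comp, hK]
  have hIc : I.comap p.left = I.comap q.left := by
    have sqpl : IsPullback pK.left jR.left j.left p.left := sqp.map (Over.forget S)
    have sqql : IsPullback qK.left jR.left j.left q.left := sqq.map (Over.forget S)
    have e1 := SatSch.map_comap_of_isPullback sqpl IK
    have e2 := SatSch.map_comap_of_isPullback sqql IK
    rw [e1, e2, hIKc]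
  obtain ⟨D', i', hi', hD', hidl⟩ := ComplDiv.exists_eff hX hφ hφ' sq I hIc hI
  -- the restriction to the generic fibre
  have sqP : IsPullback (pullback.fst i' gK) (pullback.snd i' gK) i' gK := IsPullback.of_hasPullback _ _
  have hP : RepWith @IsClosedImmersion (pullback.snd i' gK) := repWith_snd sqP hi'.1
  have hid : idl hD.1 φK = idl hP φK := by
    rw [idl_of_isPullback hi'.1 sqP hP, h1, idl_comp, hidl]
    exact (SatSch.map_comap_self j.left IK).symm
  obtain ⟨e, he1, he2⟩ := exists_iso_of_idl hD.1 hP hφK hφK' hid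
  refine ⟨D', i', e.hom ≫ pullback.fst i' gK, hD', hi', ?_⟩
  exact IsPullback.of_iso sqP e.symm (Iso.refl _) (Iso.refl _) (Iso.refl _) (by simp) (by simp [he2])
    (by simp) (by simp)

end K647.SatSp
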