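import Groth.Agent.AlgSp.K647.ValPic
import Groth.Agent.Sga4B.FibUFD
import Groth.Agent.Divis.CartierAlg
import Mathlib.RingTheory.Smooth.Flat

/-!
# Saturated ideals in smooth algebras over a valuation ring

`R` a valuation ring, `A` smooth over `R`, `J` an ideal with `A / J` torsion free over `R` which is generated by a
nonzerodivisor in all local rings of the generic fibre: then `J` is generated by a nonzerodivisor in all local rings of
`A` and, `J` being of finite presentation, on a neighbourhood of each point.
-/

set_option autoImplicit false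
universe u

open TensorProduct IsLocalRing

namespace K647.SmoothSat

theorem valuationRing_atPrime (R : Type u) [CommRing R] [IsDomain R] [ValuationRing R] (p : Ideal R) [p.IsPrime] :
    ValuationRing (Localization.AtPrime p) := by
  have : PreValuationRing (Localization.AtPrime p) := by
    refine ⟨fun x y => ?_⟩
    obtain ⟨a, s, rfl⟩ := IsLocalization.exists_mk'_eq p.primeCompl x
    obtain ⟨b, t, rfl⟩ := IsLocalization.exists_mk'_eq p.primeCompl y
    obtain ⟨c, hc | hc⟩ := ValuationRing.cond (a * t) (b * s)
    · refine ⟨algebraMap _ _ c, Or.inl ?_⟩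
      rw [mul_comm, IsLocalization.mul_mk'_eq_mk'_of_mul, IsLocalization.mk'_eq_iff_eq]
      congr 1
      rw [mul_comm (s : R) b, ← hc]
      ring
    · refine ⟨algebraMap _ _ c, Or.inr ?_⟩
      rw [mul_comm, IsLocalization.mul_mk'_eq_mk'_of_mul, IsLocalization.mk'_eq_iff_eq]
      congr 1
      rw [mul_comm (t : R) a, ← hc]
      ring
  exact { this with }

variable {R A : Type u} [CommRing R] [IsDomain R] [ValuationRing R] [CommRing A] [Algebra R A] [Algebra.Smooth R A]

theorem exists_generator_atPrime (J : Ideal A)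
    (hsat : ∀ (r : R) (a : A), r ≠ 0 → algebraMap R A r * a ∈ J → a ∈ J)
    (hgen : ∀ (n : Ideal A) [n.IsPrime], n.comap (algebraMap R A) = ⊥ →
      ∃ g ∈ nonZeroDivisors (Localization.AtPrime n), J.map (algebraMap A (Localization.AtPrime n)) = Ideal.span {g})
    (q : Ideal A) [q.IsPrime] :
    ∃ g ∈ nonZeroDivisors (Localization.AtPrime q), J.map (algebraMap A (Localization.AtPrime q)) = Ideal.span {g} := by
  let p := q.comap (algebraMap R A)
  have hp : p.IsPrime := inferInstance
  let V := Localization.AtPrime p
  let Aq := Localization.AtPrime q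
  have hV : ValuationRing V := valuationRing_atPrime R p
  let φ : V →+* Aq := Localization.localRingHom p q (algebraMap R A) rfl
  letI : Algebra V Aq := φ.toAlgebra
  have hφ : ∀ r : R, φ (algebraMap R V r) = algebraMap A Aq (algebraMap R A r) := fun r =>
    Localization.localRingHom_to_map _ _ _ rfl r
  have hst : IsScalarTower R V Aq := IsScalarTower.of_algebraMap_eq fun r => (hφ r).symm
  have hlh : IsLocalHom (algebraMap V Aq) := Localization.isLocalHom_localRingHom p q (algebraMap R A) rfl
  have hfin : Algebra.EssFiniteType R Aq := Algebra.EssFiniteType.comp R A Aq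
  have hess : Algebra.EssFiniteType V Aq := Algebra.EssFiniteType.of_comp R V Aq
  have hflatRA : Module.Flat R A := inferInstance
  have hflat : Module.Flat V Aq := by
    have h1 : (algebraMap R A).Flat := by rw [RingHom.flat_algebraMap_iff]; exact hflatRA
    exact RingHom.Flat.localRingHom h1 q p rfl
  have hm : (maximalIdeal V).map (algebraMap V Aq) = p.map (algebraMap R Aq) := by
    rw [← Localization.AtPrime.map_eq_maximalIdeal, Ideal.map_map, ← IsScalarTower.algebraMap_eq R V Aq]
  have hreg : IsRegularLocalRing (Aq ⧸ (maximalIdeal V).map (algebraMap V Aq)) := by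
    rw [hm]
    exact Groth.Agent.Sga4B.FibUFD.isRegularLocalRing_fibLocRing R A q
  have hdom : ((maximalIdeal V).map (algebraMap V Aq)).IsPrime := by
    have := Groth.Agent.S0558.result (Aq ⧸ (maximalIdeal V).map (algebraMap V Aq))
    exact (Ideal.Quotient.isDomain_iff_prime _).1 this
  have hAq : IsDomain Aq := ValPic.isDomain (V := V) hdom
  -- the generic fibre
  let K := FractionRing V
  let B := K ⊗[V] Aq
  letI : Algebra Aq B := Algebra.TensorProduct.rightAlgebra
  let M := Algebra.algebraMapSubmonoid Aq (nonZeroDivisors V)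
  have hB : IsLocalization M B := IsLocalization.tensorRight (R := V) (S := Aq) (A := K) (nonZeroDivisors V)
  have hM : M ≤ nonZeroDivisors Aq := by
    rintro _ ⟨v, hv, rfl⟩
    exact mem_nonZeroDivisors_of_ne_zero (ValPic.algebraMap_ne_zero (nonZeroDivisors.ne_zero hv))
  have hBd : IsDomain B := IsLocalization.isDomain_of_le_nonZeroDivisors B hM
  have hBess : Algebra.EssFiniteType K B := inferInstance
  have hBN : IsNoetherianRing B := Algebra.EssFiniteType.isNoetherianRing K B
  let Jq := J.map (algebraMap A Aq)
  -- saturation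
  have hsatq : ∀ (v : V) (a : Aq), v ≠ 0 → algebraMap V Aq v * a ∈ Jq → a ∈ Jq := by
    intro v a hv h
    obtain ⟨r, s, rfl⟩ := IsLocalization.exists_mk'_eq p.primeCompl v
    obtain ⟨b, t, rfl⟩ := IsLocalization.exists_mk'_eq q.primeCompl a
    have hr : r ≠ 0 := by
      rintro rfl
      exact hv (IsLocalization.mk'_zero s)
    have h1 : algebraMap A Aq (algebraMap R A r * b) ∈ Jq := by
      have e1 : algebraMap R V s * IsLocalization.mk' V r s = algebraMap R V r := IsLocalization.mk'_spec' V r s
      have e2 : algebraMap A Aq t * IsLocalization.mk' Aq b t = algebraMap A Aq b := IsLocalization.mk'_spec' Aq b t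
      have e : algebraMap A Aq (algebraMap R A r * b) =
          (algebraMap A Aq t * algebraMap V Aq (algebraMap R V s)) *
            (algebraMap V Aq (IsLocalization.mk' V r s) * IsLocalization.mk' Aq b t) := by
        have e3 : algebraMap A Aq (algebraMap R A r) = algebraMap V Aq (algebraMap R V r) := (hφ r).symm
        rw [map_mul, e3, ← e1, ← e2, map_mul]
        ring
      rw [e]
      exact Ideal.mul_mem_left _ _ h
    obtain ⟨u, hu, h2⟩ := (IsLocalization.algebraMap_mem_map_algebraMap_iff q.primeCompl Aq J _).1 h1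
    have h3 : u * b ∈ J := hsat r _ hr (by
      have : algebraMap R A r * (u * b) = u * (algebraMap R A r * b) := by ring
      rw [this]; exact h2)
    exact (IsLocalization.mk'_mem_map_algebraMap_iff q.primeCompl Aq J b t).2 ⟨u, hu, h3⟩
  have hR0 : ∀ r : R, r ≠ 0 → algebraMap R V r ≠ 0 := fun r hr =>
    (map_ne_zero_iff _ (IsLocalization.injective V p.primeCompl_le_nonZeroDivisors)).2 hr
  have hne : Jq ≠ ⊥ := by
    intro hbot
    let n := RingHom.ker (algebraMap A Aq)
    have hn : n.IsPrime := RingHom.ker_isPrime _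
    have hnR : n.comap (algebraMap R A) = ⊥ := by
      rw [eq_bot_iff]
      intro r hr
      by_contra hr0
      have h1 : algebraMap V Aq (algebraMap R V r) = 0 := (hφ r).trans hr
      exact ValPic.algebraMap_ne_zero (hR0 r hr0) h1
    have hnq : n ≤ q := by
      intro x hx
      by_contra hxq
      have h1 : IsUnit (algebraMap A Aq x) := IsLocalization.map_units Aq (⟨x, hxq⟩ : q.primeCompl)
      have h2 : algebraMap A Aq x = 0 := hx
      rw [h2] at h1
      exact not_isUnit_zero h1
    obtain ⟨g, hg, hgJ⟩ := hgen n hnR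
    have h1 : J.map (algebraMap A (Localization.AtPrime n)) = ⊥ := by
      rw [Ideal.map_eq_bot_iff_le_ker]
      intro y hy
      have h2 : algebraMap A Aq y = 0 := by
        have h3 : algebraMap A Aq y ∈ Jq := Ideal.mem_map_of_mem _ hy
        rw [hbot] at h3
        exact h3
      obtain ⟨s, hs⟩ := (IsLocalization.map_eq_zero_iff q.primeCompl Aq y).1 h2
      rw [RingHom.mem_ker, IsLocalization.map_eq_zero_iff n.primeCompl]
      exact ⟨⟨s, fun hsn => s.2 (hnq hsn)⟩, hs⟩
    rw [h1, eq_comm, Ideal.span_singleton_eq_bot] at hgJ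
    exact nonZeroDivisors.ne_zero hg hgJ
  have hproj : Module.Projective B (Jq.map (algebraMap Aq B)) := by
    refine Groth.Agent.S2821.projective_of_locally_principal B _ ?_ fun N _ => ?_
    · rw [Ne, Ideal.map_eq_bot_iff_of_injective (IsLocalization.injective B hM)]
      exact hne
    let θ : A →+* B := (algebraMap Aq B).comp (algebraMap A Aq)
    let n : Ideal A := N.comap θ
    have hn : n.IsPrime := inferInstance
    have hnR : n.comap (algebraMap R A) = ⊥ := by
      rw [eq_bot_iff]
      intro r hr
      by_contra hr0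
      have h1 : IsUnit (algebraMap Aq B (algebraMap V Aq (algebraMap R V r))) :=
        IsLocalization.map_units B (⟨algebraMap V Aq (algebraMap R V r), algebraMap R V r,
          mem_nonZeroDivisors_of_ne_zero (hR0 r hr0), rfl⟩ : M)
      have h2 : algebraMap Aq B (algebraMap V Aq (algebraMap R V r)) ∈ N := by
        have e : algebraMap V Aq (algebraMap R V r) = algebraMap A Aq (algebraMap R A r) := hφ r
        rw [e]; exact hr
      exact Ideal.IsPrime.ne_top' (Ideal.eq_top_of_isUnit_mem N h2 h1)
    obtain ⟨g, hg, hgJ⟩ := hgen n hnR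
    let ψ : Localization.AtPrime n →+* Localization.AtPrime N := Localization.localRingHom n N θ rfl
    have e : (Jq.map (algebraMap Aq B)).map (algebraMap B (Localization.AtPrime N)) =
        (J.map (algebraMap A (Localization.AtPrime n))).map ψ := by
      rw [Ideal.map_map, Ideal.map_map, Ideal.map_map]
      congr 1
      ext x
      exact (Localization.localRingHom_to_map n N θ rfl x).symm
    rw [e, hgJ, Ideal.map_span, Set.image_singleton]
    exact ⟨_, rfl⟩
  obtain ⟨g, hg, hJ⟩ := ValPic.isPrincipal_of_saturated (V := V) hreg B Jq hne hsatq hproj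
  exact ⟨g, mem_nonZeroDivisors_of_ne_zero hg, hJ⟩

theorem fg_ker (R : Type u) {A : Type u} [CommRing R] [IsDomain R] [ValuationRing R] [CommRing A] [Algebra R A]
    [Algebra.Smooth R A] (f : A) : (LinearMap.ker (LinearMap.mulRight A f)).FG := by
  have hflatRA : Module.Flat R A := inferInstance
  have h2 : Module.Flat R (LinearMap.range (LinearMap.mulRight A f)) :=
    Groth.Agent.CalgB.NagataFP.flat_of_injective ((LinearMap.range (LinearMap.mulRight A f)).subtype.restrictScalars R)
      (LinearMap.range (LinearMap.mulRight A f)).injective_subtype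
  have h4 : Module.FinitePresentation A (LinearMap.range (LinearMap.mulRight A f)) :=
    Groth.Agent.CalgB.NagataFP.finitePresentation_of_flat_finiteType (A := R)
  have h5 := Module.FinitePresentation.fg_ker (LinearMap.mulRight A f).rangeRestrict
    (LinearMap.mulRight A f).surjective_rangeRestrict
  rwa [LinearMap.ker_rangeRestrict] at h5

theorem fg_of_sat (J : Ideal A) (hsat : ∀ (r : R) (a : A), r ≠ 0 → algebraMap R A r * a ∈ J → a ∈ J) : J.FG := by
  have hfq : Module.Flat R (A ⧸ J) := by
    rw [Module.Flat.flat_iff_torsion_eq_bot_of_isBezout, eq_bot_iff]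
    intro x hx
    obtain ⟨a, rfl⟩ := Submodule.Quotient.mk_surjective _ x
    obtain ⟨⟨v, hv⟩, hv'⟩ := (Submodule.mem_torsion_iff _).1 hx
    rw [Submodule.mem_bot, Submodule.Quotient.mk_eq_zero]
    refine hsat v a (nonZeroDivisors.ne_zero hv) ?_
    have h1 : v • (Submodule.Quotient.mk a : A ⧸ J) = 0 := hv'
    rw [← Submodule.Quotient.mk_smul, Submodule.Quotient.mk_eq_zero, Algebra.smul_def] at h1
    exact h1
  have hfpq : Module.FinitePresentation A (A ⧸ J) :=
    Groth.Agent.CalgB.NagataFP.finitePresentation_of_flat_finiteType (A := R)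
  have := Module.FinitePresentation.fg_ker (J.mkQ) (Submodule.mkQ_surjective J)
  rwa [Submodule.ker_mkQ] at this

theorem exists_spread (J : Ideal A)
    (hsat : ∀ (r : R) (a : A), r ≠ 0 → algebraMap R A r * a ∈ J → a ∈ J)
    (hgen : ∀ (n : Ideal A) [n.IsPrime], n.comap (algebraMap R A) = ⊥ →
      ∃ g ∈ nonZeroDivisors (Localization.AtPrime n), J.map (algebraMap A (Localization.AtPrime n)) = Ideal.span {g})
    (q : Ideal A) [q.IsPrime] :
    ∃ t : A, t ∉ q ∧ ∃ f ∈ J, (∀ a ∈ J, ∃ b, t * a = b * f) ∧ ∀ a, a * f = 0 → t * a = 0 := by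
  obtain ⟨g, hg, h⟩ := exists_generator_atPrime J hsat hgen q
  let S := Localization.AtPrime q
  obtain ⟨t, ht, f, hf, hspan, hb⟩ := Groth.Agent.Divis.CartierAlg.exists_generator q J (fg_of_sat J hsat) S g h
  have hf' : algebraMap A S f ∈ nonZeroDivisors S := by
    have : g ∈ Ideal.span {algebraMap A S f} := hspan ▸ Ideal.mem_span_singleton_self g
    rw [Ideal.mem_span_singleton'] at this
    obtain ⟨c, hc⟩ := this
    rw [mem_nonZeroDivisors_iff_right] at hg ⊢
    intro x hx
    exact hg x (by rw [← hc, mul_left_comm, hx, mul_zero])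
  -- the annihilator of `f`
  let N : Ideal A := LinearMap.ker (LinearMap.mulRight A f)
  have hN : N.FG := fg_ker R f
  have hNm : N.map (algebraMap A S) = Ideal.span {(0 : S)} := by
    rw [Ideal.span_singleton_zero, eq_bot_iff, Ideal.map_le_iff_le_comap]
    intro a ha
    have ha' : a * f = 0 := ha
    have : algebraMap A S a * algebraMap A S f = 0 := by rw [← map_mul, ha', map_zero]
    exact (mul_right_mem_nonZeroDivisors_eq_zero_iff hf').1 this
  obtain ⟨t₁, ht₁, g₁, hg₁, hg0, hb₁⟩ := Groth.Agent.Divis.CartierAlg.exists_generator q N hN S 0 hNm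
  have hg0' : algebraMap A S g₁ = 0 := by
    rw [Ideal.span_singleton_zero] at hg0
    exact Ideal.span_singleton_eq_bot.1 hg0
  rw [← map_zero (algebraMap A S), IsLocalization.eq_iff_exists q.primeCompl] at hg0'
  obtain ⟨⟨c, hc⟩, h3⟩ := hg0'
  simp only [mul_zero] at h3
  have hq : q.IsPrime := inferInstance
  refine ⟨t * (c * t₁), fun hmem => ?_, f, hf, fun a ha => ?_, fun a ha => ?_⟩
  · rcases hq.mem_or_mem hmem with h | h
    · exact ht h
    · rcases hq.mem_or_mem h with h | h
      · exact hc h
      · exact ht₁ h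
  · obtain ⟨b, hb⟩ := hb a ha
    exact ⟨c * t₁ * b, by rw [mul_comm t, mul_assoc (c * t₁), hb]; ring⟩
  · obtain ⟨b, hb⟩ := hb₁ a ha
    rw [mul_assoc, mul_assoc c, hb, mul_left_comm c, h3, mul_zero, mul_zero]

end K647.SmoothSat
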