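import Groth.Agent.CAlg.K89.ValPd
import Groth.Agent.Ega4dA.StablyFree2
import Groth.Agent.S1216
import Groth.Agent.S1351
import Groth.Agent.S2821
import Groth.Agent.Ega41.RegFlat
import Mathlib.RingTheory.Flat.TorsionFree
import Mathlib.RingTheory.Localization.Algebra
import Mathlib.RingTheory.Localization.BaseChange

/-!
# Saturated ideals which are invertible on the generic fibre, over a valuation ring

`V` a valuation ring, `A` a flat local `V`-algebra essentially of finite type with regular closed fibre ring
`A / m_V A`.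

* `isStablyFree_baseChange`: a finite `V`-flat `A`-module of finite projective dimension becomes stably free over any
  flat `A`-algebra over which it becomes projective.
* `exists_content`: `f = r g` with `r ∈ V`, `g ∉ m_V A`.
* `isDomain`: `A` is a domain.
* `isPrincipal_of_saturated`: an ideal `J` with `A / J` torsion free over `V` and `J ⊗ K` projective is principal.
-/

set_option autoImplicit false
universe u

open CategoryTheory TensorProduct IsLocalRing

namespace K647.ValPic

open Groth.Agent.Ega4dA.StablyFree K89.ValPd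

variable {V A : Type u} [CommRing V] [IsDomain V] [ValuationRing V] [CommRing A] [IsLocalRing A]
  [Algebra V A] [Algebra.EssFiniteType V A]

/-- finite `V`-flat modules of finite projective dimension which become projective become stably free -/
theorem isStablyFree_baseChange [Module.Flat V A] (B : Type u) [CommRing B] [Algebra A B] [Module.Flat A B] (n : ℕ) :
    ∀ (M : Type u) [AddCommGroup M] [Module A M] [Module V M] [IsScalarTower V A M] [Module.Finite A M]
      [Module.Flat V M], HasProjectiveDimensionLT (ModuleCat.of A M) (n + 1) → Module.Projective B (B ⊗[A] M) →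
      IsStablyFree B (B ⊗[A] M) := by
  induction n with
  | zero =>
    intro M _ _ _ _ _ _ h _
    rw [zero_add, ← projective_iff_hasProjectiveDimensionLT_one, ← IsProjective.iff_projective] at h
    have : Module.Free A M := Module.free_of_flat_of_isLocalRing
    let b := Module.Free.chooseBasis B (B ⊗[A] M)
    refine ⟨0, Fintype.card (Module.Free.ChooseBasisIndex B (B ⊗[A] M)), ⟨?_⟩⟩
    exact LinearEquiv.prodUnique ≪≫ₗ b.equivFun ≪≫ₗ
      LinearEquiv.funCongrLeft B B (Fintype.equivFin _).symm
  | succ n ih =>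
    intro M _ _ _ _ _ _ h _
    obtain ⟨k, f, hf⟩ := Module.Finite.exists_fin' A M
    have hfp : Module.FinitePresentation A M :=
      Groth.Agent.CalgB.NagataFP.finitePresentation_of_flat_essFiniteType (A := V)
    have hkfg : (LinearMap.ker f).FG := Module.FinitePresentation.fg_ker f hf
    have : Module.Finite A (LinearMap.ker f) := Module.Finite.iff_fg.mpr hkfg
    have : Module.Flat V (Fin k → A) := Module.Flat.trans V A (Fin k → A)
    have : Module.Flat V (LinearMap.ker f) :=
      Groth.Agent.CalgB.NagataFP.flat_of_injective ((LinearMap.ker f).subtype.restrictScalars V)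
        (LinearMap.ker f).injective_subtype
    have hS : (f.shortComplexKer).ShortExact := LinearMap.shortExact_shortComplexKer hf
    have hK : HasProjectiveDimensionLT (ModuleCat.of A (LinearMap.ker f)) (n + 1) := by
      rw [hS.hasProjectiveDimensionLT_X₃_iff n inferInstance] at h
      exact h
    let i : (B ⊗[A] LinearMap.ker f) →ₗ[B] (B ⊗[A] (Fin k → A)) := (LinearMap.ker f).subtype.baseChange B
    let p : (B ⊗[A] (Fin k → A)) →ₗ[B] (B ⊗[A] M) := f.baseChange B
    have hi : Function.Injective i :=
      Module.Flat.lTensor_preserves_injective_linearMap _ (LinearMap.ker f).injective_subtype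
    have hp : Function.Surjective p := LinearMap.lTensor_surjective B hf
    have hip : Function.Exact i p := lTensor_exact B (LinearMap.exact_subtype_ker_map f) hf
    obtain ⟨l, hl⟩ := Module.projective_lifting_property p LinearMap.id hp
    obtain ⟨e, -, -⟩ := hip.splitSurjectiveEquiv hi ⟨l, hl⟩
    have : Module.Projective B ((B ⊗[A] LinearMap.ker f) × (B ⊗[A] M)) := Module.Projective.of_equiv e
    have : Module.Projective B (B ⊗[A] LinearMap.ker f) :=
      Module.Projective.of_split (LinearMap.inl B _ (B ⊗[A] M)) (LinearMap.fst B _ (B ⊗[A] M))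
        (LinearMap.fst_comp_inl _ _ _)
    obtain ⟨a, b, ⟨e'⟩⟩ := ih (LinearMap.ker f) hK this
    refine ⟨b, k + a, ⟨?_⟩⟩
    exact (LinearEquiv.prodCongr (LinearEquiv.refl B (B ⊗[A] M)) e'.symm) ≪≫ₗ
      (LinearEquiv.prodAssoc B _ _ _).symm ≪≫ₗ
      (LinearEquiv.prodCongr ((LinearEquiv.prodComm B _ _) ≪≫ₗ e.symm ≪≫ₗ
        TensorProduct.piScalarRight A B B (Fin k)) (LinearEquiv.refl B (Fin a → B))) ≪≫ₗ
      (LinearEquiv.sumArrowLequivProdArrow (Fin k) (Fin a) B B).symm ≪≫ₗ
      LinearEquiv.funCongrLeft B B finSumFinEquiv.symm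

variable [IsLocalHom (algebraMap V A)] [Module.Flat V A]

/-- the closed fibre ideal -/
theorem mem_map_iff (a : A) : a ∈ (maximalIdeal V).map (algebraMap V A) ↔
    ∃ s ∈ maximalIdeal V, ∃ b : A, a = algebraMap V A s * b := by
  constructor
  · intro h
    obtain ⟨c, hc, f, hf⟩ := exists_smul_of_mem (V := V) (R := A) (F := A) (maximalIdeal V) a
      (by rw [Ideal.smul_eq_mul, Ideal.mul_top]; exact h)
    exact ⟨c, hc, f, by rw [hf, Algebra.smul_def]⟩
  · rintro ⟨s, hs, b, rfl⟩
    exact Ideal.mul_mem_right _ _ (Ideal.mem_map_of_mem _ hs)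

theorem exists_content (f : A) (hf : f ≠ 0) : ∃ (r : V) (g : A), r ≠ 0 ∧ f = algebraMap V A r * g ∧
    g ∉ (maximalIdeal V).map (algebraMap V A) := by
  obtain ⟨I, ⟨r, hI⟩, h1, h2⟩ := Groth.Agent.S1216.result (A := V) (B := A) A f
  have hI' : I = Ideal.span {r} := hI
  have h3 : ∃ g : A, f = algebraMap V A r * g := by
    rw [hI', Ideal.smul_top_eq_map] at h1
    have h4 : f ∈ Ideal.map (algebraMap V A) (Ideal.span {r}) := h1
    rw [Ideal.map_span, Set.image_singleton, Ideal.mem_span_singleton] at h4
    exact h4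
  obtain ⟨g, hg⟩ := h3
  have hr : r ≠ 0 := by
    rintro rfl
    exact hf (by rw [hg, map_zero, zero_mul])
  refine ⟨r, g, hr, hg, fun hgm => ?_⟩
  obtain ⟨s, hs, b, hb⟩ := (mem_map_iff g).1 hgm
  have h5 : f ∈ (Ideal.span {r * s}) • (⊤ : Submodule V A) := by
    rw [Ideal.smul_top_eq_map]
    change f ∈ Ideal.map (algebraMap V A) (Ideal.span {r * s})
    rw [Ideal.map_span, Set.image_singleton, Ideal.mem_span_singleton]
    exact ⟨b, by rw [hg, hb, map_mul, mul_assoc]⟩
  have h6 := h2 _ h5
  rw [hI', Ideal.span_singleton_le_span_singleton] at h6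
  obtain ⟨t, ht⟩ := h6
  have h7 : r * (1 - s * t) = 0 := by rw [mul_sub, mul_one, ← mul_assoc, ← ht, sub_self]
  rcases mul_eq_zero.1 h7 with h8 | h8
  · exact hr h8
  · have : s * t = 1 := (sub_eq_zero.1 h8).symm
    exact (mem_maximalIdeal s).1 hs (IsUnit.of_mul_eq_one t this)

theorem algebraMap_ne_zero {r : V} (hr : r ≠ 0) : algebraMap V A r ≠ 0 := by
  have : Module.FaithfullyFlat V A := Module.FaithfullyFlat.of_flat_of_isLocalHom
  exact fun h => hr ((FaithfulSMul.algebraMap_injective V A) (h.trans (map_zero _).symm))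

theorem mul_cancel {r : V} (hr : r ≠ 0) {a : A} (h : algebraMap V A r * a = 0) : a = 0 := by
  have h1 : IsSMulRegular A r := (Module.Flat.isSMulRegular_of_nonZeroDivisors (mem_nonZeroDivisors_of_ne_zero hr))
  refine h1 ?_
  change r • a = r • (0 : A)
  rw [Algebra.smul_def, h, smul_zero]

theorem isDomain (hdom : ((maximalIdeal V).map (algebraMap V A)).IsPrime) : IsDomain A := by
  have : NoZeroDivisors A := by
    refine ⟨fun {a b} hab => ?_⟩
    by_contra! hne
    obtain ⟨r, g, hr, hg, hgm⟩ := exists_content (V := V) a hne.1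
    obtain ⟨s, h, hs, hh, hhm⟩ := exists_content (V := V) b hne.2
    have h1 : algebraMap V A (r * s) * (g * h) = 0 := by
      rw [← hab, hg, hh, map_mul]; ring
    have h2 := mul_cancel (V := V) (mul_ne_zero hr hs) h1
    rcases hdom.mem_or_mem (show g * h ∈ _ by rw [h2]; exact zero_mem _) with h3 | h3
    · exact hgm h3
    · exact hhm h3
  exact NoZeroDivisors.to_isDomain A

/-- an element not in the prime `m_V A` generates a saturated ideal -/
theorem saturated_span (hdom : ((maximalIdeal V).map (algebraMap V A)).IsPrime) {g : A}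
    (hg : g ∉ (maximalIdeal V).map (algebraMap V A)) {v : V} (hv : v ≠ 0) {a : A}
    (h : algebraMap V A v * a ∈ Ideal.span {g}) : a ∈ Ideal.span {g} := by
  let u : A →ₗ[A] A := LinearMap.mulLeft A g
  have key := Groth.Agent.S1351.result (A := V) (B := A) u (by
    intro x y hxy
    obtain ⟨x, rfl⟩ := Submodule.Quotient.mk_surjective _ x
    obtain ⟨y, rfl⟩ := Submodule.Quotient.mk_surjective _ y
    rw [Submodule.mapQ_apply, Submodule.mapQ_apply, Submodule.Quotient.eq] at hxy
    rw [Submodule.Quotient.eq]
    rw [Ideal.smul_top_eq_map] at hxy ⊢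
    have h1 : g * (x - y) ∈ (maximalIdeal V).map (algebraMap V A) := by
      have : g * (x - y) = g * x - g * y := by ring
      rw [this]
      exact hxy
    exact (hdom.mem_or_mem h1).resolve_left hg)
  have hr : LinearMap.range u = (Ideal.span {g} : Ideal A) := by
    ext b
    rw [LinearMap.mem_range]
    constructor
    · rintro ⟨c, rfl⟩
      exact Ideal.mem_span_singleton.2 ⟨c, rfl⟩
    · intro hb
      obtain ⟨c, rfl⟩ := Ideal.mem_span_singleton.1 hb
      exact ⟨c, rfl⟩
  have hfl : Module.Flat V (A ⧸ LinearMap.range u) := key.2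
  have hreg : IsSMulRegular (A ⧸ LinearMap.range u) v :=
    Module.Flat.isSMulRegular_of_nonZeroDivisors (mem_nonZeroDivisors_of_ne_zero hv)
  rw [← hr] at h ⊢
  rw [← Submodule.Quotient.mk_eq_zero]
  refine hreg ?_
  change v • (Submodule.Quotient.mk a : A ⧸ LinearMap.range u) = v • 0
  rw [smul_zero, ← Submodule.Quotient.mk_smul, Algebra.smul_def]
  exact (Submodule.Quotient.mk_eq_zero _).2 h

/-- the main statement: a saturated ideal which becomes projective over the generic fibre is principal -/
theorem isPrincipal_of_saturated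
    (hreg : IsRegularLocalRing (A ⧸ (maximalIdeal V).map (algebraMap V A)))
    (B : Type u) [CommRing B] [Algebra A B] [IsLocalization (Algebra.algebraMapSubmonoid A (nonZeroDivisors V)) B]
    (J : Ideal A) (hJ : J ≠ ⊥) (hsat : ∀ (v : V) (a : A), v ≠ 0 → algebraMap V A v * a ∈ J → a ∈ J)
    (hproj : Module.Projective B (J.map (algebraMap A B))) :
    ∃ g : A, g ≠ 0 ∧ J = Ideal.span {g} := by
  have hdom : ((maximalIdeal V).map (algebraMap V A)).IsPrime := by
    have := Groth.Agent.S0558.result (A ⧸ (maximalIdeal V).map (algebraMap V A))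
    exact (Ideal.Quotient.isDomain_iff_prime _).1 this
  have hA : IsDomain A := isDomain (V := V) hdom
  let M := Algebra.algebraMapSubmonoid A (nonZeroDivisors V)
  have hM : M ≤ nonZeroDivisors A := by
    rintro _ ⟨v, hv, rfl⟩
    exact mem_nonZeroDivisors_of_ne_zero (algebraMap_ne_zero (nonZeroDivisors.ne_zero hv))
  have hB : IsDomain B := IsLocalization.isDomain_of_le_nonZeroDivisors B hM
  have hinj : Function.Injective (algebraMap A B) := IsLocalization.injective B hM
  have hflat : Module.Flat A B := IsLocalization.flat B M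
  have hunit : ∀ v : V, v ≠ 0 → IsUnit (algebraMap A B (algebraMap V A v)) := fun v hv =>
    IsLocalization.map_units B (⟨algebraMap V A v, v, mem_nonZeroDivisors_of_ne_zero hv, rfl⟩ : M)
  have hmem : ∀ (I : Ideal A) (x : A), algebraMap A B x ∈ I.map (algebraMap A B) →
      ∃ v : V, v ≠ 0 ∧ algebraMap V A v * x ∈ I := by
    intro I x hx
    obtain ⟨_, ⟨v, hv, rfl⟩, h⟩ := (IsLocalization.algebraMap_mem_map_algebraMap_iff M B I x).1 hx
    exact ⟨v, nonZeroDivisors.ne_zero hv, h⟩
  -- `J` is finite and flat over `V`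
  have hfq : Module.Flat V (A ⧸ J) := by
    rw [Module.Flat.flat_iff_torsion_eq_bot_of_isBezout, eq_bot_iff]
    intro x hx
    obtain ⟨a, rfl⟩ := Submodule.Quotient.mk_surjective _ x
    obtain ⟨⟨v, hv⟩, hv'⟩ := (Submodule.mem_torsion_iff _).1 hx
    rw [Submodule.mem_bot, Submodule.Quotient.mk_eq_zero]
    refine hsat v a (nonZeroDivisors.ne_zero hv) ?_
    have h1 : v • (Submodule.Quotient.mk a : A ⧸ J) = 0 := hv'
    rw [← Submodule.Quotient.mk_smul, Submodule.Quotient.mk_eq_zero, Algebra.smul_def] at h1
    exact h1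
  have hfpq : Module.FinitePresentation A (A ⧸ J) :=
    Groth.Agent.CalgB.NagataFP.finitePresentation_of_flat_essFiniteType (A := V)
  have hJfg : J.FG := by
    have := Module.FinitePresentation.fg_ker (J.mkQ) (Submodule.mkQ_surjective J)
    rwa [Submodule.ker_mkQ] at this
  have : Module.Finite A J := Module.Finite.iff_fg.mpr hJfg
  have : Module.Flat V J :=
    Groth.Agent.CalgB.NagataFP.flat_of_injective (J.subtype.restrictScalars V) J.injective_subtype
  obtain ⟨n, hn⟩ := Groth.Agent.Ega41.RegFlat.exists_nat_ringKrullDim (A ⧸ (maximalIdeal V).map (algebraMap V A))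
  have hpd : HasProjectiveDimensionLE (ModuleCat.of A J) n :=
    pd_le_of_flat (maximalIdeal V) (by
      rw [Ideal.map_le_iff_le_comap]
      intro x hx
      rw [Ideal.mem_comap, mem_maximalIdeal, mem_nonunits_iff]
      exact fun h => (mem_maximalIdeal x).1 hx (isUnit_of_map_unit (algebraMap V A) x h)) n hreg hn J
  -- base change
  have hloc : IsLocalizedModule M (Algebra.idealMap J (S := B)) := inferInstance
  let e : B ⊗[A] J ≃ₗ[B] J.map (algebraMap A B) :=
    (IsLocalizedModule.isBaseChange M B (Algebra.idealMap J (S := B))).equiv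
  have hprojT : Module.Projective B (B ⊗[A] J) := Module.Projective.of_equiv e.symm
  obtain ⟨a, b, ⟨f⟩⟩ := isStablyFree_baseChange (V := V) B n J hpd hprojT
  have hne : J.map (algebraMap A B) ≠ ⊥ := fun h => hJ ((Ideal.map_eq_bot_iff_of_injective hinj).1 h)
  obtain ⟨c, hc⟩ := isPrincipal_of_equiv' (J.map (algebraMap A B)) hne a b
    ((LinearEquiv.prodCongr e.symm (LinearEquiv.refl B (Fin a → B))) ≪≫ₗ f)
  have hc' : J.map (algebraMap A B) = Ideal.span {c} := hc
  obtain ⟨⟨y, s⟩, hys⟩ := IsLocalization.surj M c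
  have hs : IsUnit (algebraMap A B s) := IsLocalization.map_units B s
  have hy : J.map (algebraMap A B) = Ideal.span {algebraMap A B y} := by
    rw [hc', ← hys, Ideal.span_singleton_mul_right_unit hs]
  have hy0 : y ≠ 0 := by
    rintro rfl
    rw [map_zero, Ideal.span_singleton_eq_bot.2 rfl] at hy
    exact hne hy
  obtain ⟨r, g, hr, hyg, hg⟩ := exists_content (V := V) y hy0
  have hg' : J.map (algebraMap A B) = Ideal.span {algebraMap A B g} := by
    rw [hy, hyg, map_mul, Ideal.span_singleton_mul_left_unit (hunit r hr)]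
  have hg0 : g ≠ 0 := by
    rintro rfl
    exact hg (zero_mem _)
  refine ⟨g, hg0, le_antisymm (fun x hx => ?_) ?_⟩
  · have h1 : algebraMap A B x ∈ (Ideal.span {g}).map (algebraMap A B) := by
      rw [Ideal.map_span, Set.image_singleton, ← hg']
      exact Ideal.mem_map_of_mem _ hx
    obtain ⟨v, hv, h2⟩ := hmem _ _ h1
    exact saturated_span (V := V) hdom hg hv h2
  · rw [Ideal.span_singleton_le_iff_mem]
    have h1 : algebraMap A B g ∈ J.map (algebraMap A B) := by
      rw [hg']; exact Ideal.mem_span_singleton_self _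
    obtain ⟨v, hv, h2⟩ := hmem _ _ h1
    exact hsat v g hv h2

end K647.ValPic
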