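import Groth.Agent.AlgSp.K647.EtLoc
import Groth.Prelude.Def_AlgSpModX
import Mathlib.RingTheory.Ideal.Height
import Mathlib.RingTheory.Ideal.KrullsHeightTheorem

/-!
# Weakly associated points of the structure sheaf of a space
-/

set_option autoImplicit false
universe u
open CategoryTheory CategoryTheory.Limits AlgebraicGeometry Opposite

set_option backward.isDefEq.respectTransparency false

namespace K647.WeakUnit

open AlgSp

section Ring

/-- In a reduced ring a prime minimal over the annihilator of an element is a minimal prime. -/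
theorem mem_minimalPrimes_of_ann {A : Type*} [CommRing A] [IsReduced A] (b : A) (I : Ideal A)
    (hI : ∀ a, a ∈ I ↔ a * b = 0) (p : Ideal A) (hp : p ∈ I.minimalPrimes) : p ∈ minimalPrimes A := by
  have hpp : p.IsPrime := hp.1.1
  have hbp : b ∉ p := by
    intro hb
    -- some power of b times an element outside p lies in I
    obtain ⟨s, hs, n, hn⟩ : ∃ s ∉ p, ∃ n : ℕ, s * b ^ n ∈ I := by
      by_contra hcon
      push Not at hcon
      -- the multiplicative set generated by the complement of p and b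
      let M : Submonoid A := p.primeCompl ⊔ Submonoid.powers b
      have hdisj : Disjoint (I : Set A) (M : Set A) := by
        rw [Set.disjoint_left]
        rintro x hxI hxM
        obtain ⟨s, hs, t, ⟨n, rfl⟩, rfl⟩ := Submonoid.mem_sup.1 hxM
        exact hcon s hs n hxI
      obtain ⟨q, hq, hIq, hqM⟩ := Ideal.exists_le_prime_disjoint I M hdisj
      have hqp : q ≤ p := by
        intro x hx
        by_contra hxp
        exact Set.disjoint_left.1 hqM hx (Submonoid.mem_sup_left hxp)
      have := hp.2 ⟨hq, hIq⟩ hqp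
      exact Set.disjoint_left.1 hqM (this hb) (Submonoid.mem_sup_right ⟨1, pow_one b⟩)
    rw [hI] at hn
    have h1 : (s * b) ^ (n + 1) = 0 := by
      calc (s * b) ^ (n + 1) = s ^ n * (s * b ^ n * b) := by ring
        _ = 0 := by rw [hn, mul_zero]
    have h2 : s * b = 0 := IsNilpotent.eq_zero ⟨n + 1, h1⟩
    exact hs (hp.1.2 ((hI s).2 h2))
  refine ⟨⟨hpp, bot_le⟩, ?_⟩
  rintro q ⟨hq, -⟩ hqp
  refine hp.2 ⟨hq, ?_⟩ hqp
  intro a ha
  rw [hI] at ha
  have : a * b ∈ q := by rw [ha]; exact q.zero_mem
  rcases hq.mem_or_mem this with h | h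
  · exact h
  · exact absurd (hqp h) hbp

end Ring

variable {S : Scheme.{u}} {X : Sp S}

/-- a global function on a chart as a section of the unit module -/
noncomputable def secU (E : EtOver X) (b : Γ(E.obj.left.left, ⊤)) : sectModEt (unitModEt X) E :=
  (upΓ E b : (OEtRing X).obj.obj (op E))

theorem mem_annSect_secU (E : EtOver X) (a b : Γ(E.obj.left.left, ⊤)) :
    a ∈ annSect (secU E b) ↔ a * b = 0 := by
  rw [mem_annSect_iff]
  have h : (upΓ E a) • (secU E b) = secU E (a * b) := rfl
  rw [h]
  constructor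
  · intro h
    have : ULift.up (a * b) = (ULift.up (0 : Γ(E.obj.left.left, ⊤)) : ULift.{u+1} Γ(E.obj.left.left, ⊤)) := h
    exact congrArg ULift.down this
  · intro h
    rw [h]; rfl

theorem exists_secU (E : EtOver X) (s : sectModEt (unitModEt X) E) : ∃ b, secU E b = s :=
  ⟨(ULift.down (show ULift.{u+1} Γ(E.obj.left.left, ⊤) from s)), rfl⟩

/-- every prime of the ring of global functions of an affine scheme is `primeAtPt` of a point -/
theorem exists_primeAtPt (U : Scheme.{u}) [IsAffine U] (p : Ideal Γ(U, ⊤)) [hp : p.IsPrime] :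
    ∃ u : U, primeAtPt U u = p := by
  have hU := isAffineOpen_top U
  let q : PrimeSpectrum Γ(U, ⊤) := ⟨p, hp⟩
  refine ⟨hU.fromSpec q, ?_⟩
  have h1 := hU.primeIdealOf_eq_map_closedPoint ⟨hU.fromSpec q, trivial⟩
  have h2 : hU.primeIdealOf ⟨hU.fromSpec q, trivial⟩ = q := by
    have := hU.isOpenImmersion_fromSpec
    apply hU.fromSpec.isOpenEmbedding.injective
    exact hU.fromSpec_primeIdealOf _
  rw [h2] at h1
  exact (congrArg PrimeSpectrum.asIdeal h1).symm

/-- membership in the prime of a point: the function vanishes there -/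
theorem mem_primeAtPt_iff (U : Scheme.{u}) (u : U) (a : Γ(U, ⊤)) : a ∈ primeAtPt U u ↔ u ∉ U.basicOpen a := by
  have h1 : u ∈ (⊤ : U.Opens) := trivial
  rw [U.mem_basicOpen a u h1]
  change (U.presheaf.germ ⊤ u trivial).hom a ∈ IsLocalRing.maximalIdeal (U.presheaf.stalk u) ↔ _
  rw [IsLocalRing.mem_maximalIdeal]
  rfl

/-- If a global function on an affine etale chart does not vanish at any weakly associated point, it is a
nonzerodivisor. -/
theorem mem_nonZeroDivisors (E : EtOver X) [IsAffine E.obj.left.left] (a : Γ(E.obj.left.left, ⊤))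
    (h : ∀ u : E.obj.left.left, Points.ofPt E.obj.hom u ∈ WeakAssEt (unitModEt X) →
      u ∈ E.obj.left.left.basicOpen a) : a ∈ nonZeroDivisors Γ(E.obj.left.left, ⊤) := by
  rw [mem_nonZeroDivisors_iff_right]
  intro b hb
  by_contra hb0
  have hne : annSect (secU E b) ≠ ⊤ := by
    rw [Ideal.ne_top_iff_one, mem_annSect_secU, one_mul]
    exact hb0
  obtain ⟨m, hm, hle⟩ := Ideal.exists_le_maximal _ hne
  obtain ⟨p, hp, -⟩ := Ideal.exists_minimalPrimes_le hle
  have hpp : p.IsPrime := hp.1.1
  obtain ⟨u, hu⟩ := exists_primeAtPt E.obj.left.left p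
  have h1 : u ∈ E.obj.left.left.basicOpen a := by
    apply h
    refine ⟨E, inferInstance, u, rfl, secU E b, ?_⟩
    rw [hu]
    exact hp
  have h2 : a ∈ primeAtPt E.obj.left.left u := by
    rw [hu]
    apply hp.1.2
    rw [mem_annSect_secU, mul_comm]
    exact hb
  exact (mem_primeAtPt_iff _ _ _).1 h2 h1

theorem isLocalization_primeAtPt (U : Scheme.{u}) [IsAffine U] (u : U) :
    ∃ _ : Algebra Γ(U, ⊤) (U.presheaf.stalk u), IsLocalization.AtPrime (U.presheaf.stalk u) (primeAtPt U u) := by
  have hU := isAffineOpen_top U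
  have hu : u ∈ (⊤ : U.Opens) := trivial
  refine ⟨U.presheaf.algebra_section_stalk ⟨u, hu⟩, ?_⟩
  have h1 := hU.isLocalization_stalk ⟨u, trivial⟩
  have h2 : (hU.primeIdealOf ⟨u, trivial⟩).asIdeal = primeAtPt U u :=
    congrArg PrimeSpectrum.asIdeal (hU.primeIdealOf_eq_map_closedPoint ⟨u, trivial⟩)
  have h3 : (hU.primeIdealOf ⟨u, trivial⟩).asIdeal.primeCompl = (primeAtPt U u).primeCompl := by
    ext x
    simp only [Ideal.mem_primeCompl_iff, h2]
  unfold IsLocalization.AtPrime at h1 ⊢
  rw [← h3]
  exact h1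

/-- the local ring has dimension zero iff the prime is minimal -/
theorem ringKrullDim_stalk_eq_zero_iff (U : Scheme.{u}) [IsAffine U] (u : U) :
    ringKrullDim (U.presheaf.stalk u) = 0 ↔ primeAtPt U u ∈ minimalPrimes Γ(U, ⊤) := by
  obtain ⟨_, h⟩ := isLocalization_primeAtPt U u
  rw [IsLocalization.AtPrime.ringKrullDim_eq_height (primeAtPt U u)]
  rw [← Ideal.height_eq_zero_iff]
  exact WithBot.coe_eq_zero

end K647.WeakUnit
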